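import Mathlib
import Cfsg.Agent.Lib.Helper24.Fitting

set_option autoImplicit false

namespace Cfsg.Agent.Lib.Helper24

variable {G : Type*} [Group G]

theorem nilpotent_of_comm (A : Subgroup G) (h : ∀ a ∈ A, ∀ b ∈ A, a * b = b * a) :
    Group.IsNilpotent A := by
  let _ : CommGroup A :=
    { (inferInstance : Group A) with mul_comm := fun a b => Subtype.ext (h a a.2 b b.2) }
  infer_instance

open scoped commutatorElement in
/-- A nontrivial solvable group has a nontrivial normal abelian subgroup. -/
theorem exists_normal_abelian_of_solvable [Nontrivial G] (hG : Group.IsSolvable G) :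
    ∃ A : Subgroup G, A.Normal ∧ A ≠ ⊥ ∧ ∀ a ∈ A, ∀ b ∈ A, a * b = b * a := by
  classical
  have hsol := hG.solvable
  have hk0 := Nat.find_spec hsol
  cases hk0' : Nat.find hsol with
  | zero =>
    rw [hk0'] at hk0
    have h1 : (⊤ : Subgroup G) = ⊥ := hk0
    exact absurd h1 top_ne_bot
  | succ j =>
    have hAne : derivedSeries G j ≠ ⊥ := Nat.find_min hsol (by omega : j < Nat.find hsol)
    refine ⟨derivedSeries G j, derivedSeries_normal G j, hAne, ?_⟩
    intro a ha b hb
    have h1 : ⁅a, b⁆ ∈ derivedSeries G (j + 1) := Subgroup.commutator_mem_commutator ha hb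
    rw [← hk0', hk0, Subgroup.mem_bot, commutatorElement_eq_one_iff_mul_comm] at h1
    exact h1

/-- A nontrivial finite solvable group has a nontrivial normal `r`-subgroup for some prime
`r`. -/
theorem exists_normal_pGroup_of_solvable [Finite G] [Nontrivial G] (hG : Group.IsSolvable G) :
    ∃ (r : ℕ) (K : Subgroup G), r.Prime ∧ K.Normal ∧ K ≠ ⊥ ∧ IsPGroup r K := by
  obtain ⟨A, hAn, hAne, hAc⟩ := exists_normal_abelian_of_solvable hG
  have hA := nilpotent_of_comm A hAc
  have hcard : Nat.card A ≠ 1 := by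
    intro h
    exact hAne (Subgroup.eq_bot_of_card_eq A h)
  have hr : (Nat.card A).minFac.Prime := Nat.minFac_prime hcard
  have hfact : Fact (Nat.card A).minFac.Prime := ⟨hr⟩
  obtain ⟨Q, hQn, hQA, hQp, hQi⟩ := exists_normal_sylow_of_nilpotent A hA (Nat.card A).minFac
  refine ⟨_, Q, hr, hQn, ?_, hQp⟩
  intro hQ
  rw [hQ, Subgroup.relIndex_bot_left] at hQi
  exact hQi (Nat.minFac_dvd _)

end Cfsg.Agent.Lib.Helper24
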