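import Mathlib
import Cfsg.Prelude.Def_Blocks
import Cfsg.Agent.Lib.Helper25.Columns
import Cfsg.Agent.Lib.Helper2.CharLinear
import Cfsg.Agent.Lib.Helper24.BLGroup
import Cfsg.Agent.S0947
import Cfsg.Agent.S0925
import Cfsg.Agent.S4646

set_option autoImplicit false

namespace Cfsg.Agent.Lib.Helper24

open Cfsg Cfsg.Agent.Lib.Helper2 Cfsg.Agent.Lib.Helper8 Cfsg.Agent.Lib.Helper25

open scoped ComplexConjugate

section fourier

variable {A : Type*} [Group A] [Finite A]

/-- the complex conjugate of a value of a linear character -/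
theorem conj_hom_apply (ψ : A →* ℂˣ) (y : A) :
    conj ((ψ y : ℂˣ) : ℂ) = ((ψ y⁻¹ : ℂˣ) : ℂ) := by
  have := Fintype.ofFinite A
  exact irr_conj_eq_inv (⟨fun g => ((ψ g : ℂˣ) : ℂ), isIrrCharacter_of_hom ψ⟩ : IrrCharacter A) y

open Classical in
/-- orthogonality of linear characters -/
theorem sum_hom_mul_inv [Fintype A] (ψ₁ ψ₂ : A →* ℂˣ) :
    ∑ y : A, ((ψ₁ y : ℂˣ) : ℂ) * ((ψ₂ y⁻¹ : ℂˣ) : ℂ)
      = if ψ₁ = ψ₂ then (Nat.card A : ℂ) else 0 := by
  classical
  have h := sum_hom_units ((Units.coeHom ℂ).comp (ψ₁ * ψ₂⁻¹))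
  have e : ∀ y : A, ((Units.coeHom ℂ).comp (ψ₁ * ψ₂⁻¹)) y
      = ((ψ₁ y : ℂˣ) : ℂ) * ((ψ₂ y⁻¹ : ℂˣ) : ℂ) := by
    intro y
    simp [map_inv]
  rw [Finset.sum_congr rfl (fun y _ => e y)] at h
  rw [h]
  have hiff : ((Units.coeHom ℂ).comp (ψ₁ * ψ₂⁻¹) = 1) ↔ ψ₁ = ψ₂ := by
    constructor
    · intro h1
      ext y
      have h2 := DFunLike.congr_fun h1 y
      simp only [MonoidHom.coe_comp, Function.comp_apply, MonoidHom.mul_apply,
        MonoidHom.inv_apply, Units.coeHom_apply, MonoidHom.one_apply] at h2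
      have h3 : ψ₁ y * (ψ₂ y)⁻¹ = 1 := Units.ext h2
      rw [mul_inv_eq_one] at h3
      rw [h3]
    · intro h1
      ext y
      simp [h1]
  by_cases h1 : ψ₁ = ψ₂
  · rw [if_pos h1, if_pos (hiff.mpr h1), Nat.card_eq_fintype_card]
  · rw [if_neg h1, if_neg (fun h2 => h1 (hiff.mp h2))]
    simp

open scoped IsMulCommutative in
open Classical in
/-- the dual orthogonality relation for a finite abelian group -/
theorem sum_hom_apply [IsMulCommutative A] [Fintype (A →* ℂˣ)] (y : A) :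
    ∑ ψ : A →* ℂˣ, ((ψ y : ℂˣ) : ℂ) = if y = 1 then (Nat.card A : ℂ) else 0 := by
  classical
  have hne : NeZero (Monoid.exponent A) := ⟨Monoid.exponent_ne_zero_of_finite⟩
  by_cases hy : y = 1
  · rw [if_pos hy, hy]
    simp only [map_one, Units.val_one, Finset.sum_const, Finset.card_univ, nsmul_eq_mul, mul_one]
    rw [← Nat.card_eq_fintype_card, CommGroup.card_monoidHom_of_hasEnoughRootsOfUnity A ℂ]
  · rw [if_neg hy]
    obtain ⟨φ, hφ⟩ := CommGroup.exists_apply_ne_one_of_hasEnoughRootsOfUnity A ℂ hy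
    have h1 : ∑ ψ : A →* ℂˣ, ((ψ y : ℂˣ) : ℂ)
        = ((φ y : ℂˣ) : ℂ) * ∑ ψ : A →* ℂˣ, ((ψ y : ℂˣ) : ℂ) := by
      rw [Finset.mul_sum]
      apply Fintype.sum_equiv (Equiv.mulLeft φ⁻¹)
      intro ψ
      simp
    have h2 : (((φ y : ℂˣ) : ℂ) - 1) * ∑ ψ : A →* ℂˣ, ((ψ y : ℂˣ) : ℂ) = 0 := by
      rw [sub_mul, one_mul, ← h1, sub_self]
    rcases mul_eq_zero.mp h2 with h3 | h3
    · exfalso
      apply hφ
      apply Units.ext
      rw [Units.val_one]
      exact sub_eq_zero.mp h3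
    · exact h3

end fourier

section block

variable {G : Type*} [Group G] [Fintype G] {p : ℕ} [Fact p.Prime] {M : Ideal AlgInt}

/-- a character of the principal block is constant on the part of a `p`-section lying over a
`p`-element whose centralizer has a normal `p`-complement -/
theorem principal_section_const (hM : IsPModular p M) (x : G) (hx : ∃ k : ℕ, orderOf x = p ^ k)
    (k : ℕ) (hk : (pPrimeCore p ↥(Subgroup.centralizer ({x} : Set G))).index = p ^ k)
    (χ : IrrCharacter G) (hχ : χ ∈ principalBlock M G)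
    (y₁ : Subgroup.centralizer ({x} : Set G)) (hy₁ : ¬ p ∣ orderOf y₁) :
    (χ : G → ℂ) (x * (y₁ : G)) = (χ : G → ℂ) x := by
  classical
  have hp : p.Prime := Fact.out
  have : Fintype (Subgroup.centralizer ({x} : Set G)) := Fintype.ofFinite _
  have hcf := isClassFunction_of_isIrrCharacter χ.2
  have h1reg : ¬ p ∣ orderOf (1 : Subgroup.centralizer ({x} : Set G)) := by
    rw [orderOf_one]
    exact fun h => hp.one_lt.ne' (Nat.dvd_one.mp h)
  have h1 := blockPart_principal_section hM x hx (χ : G → ℂ) hcf y₁ hy₁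
  have h2 := blockPart_principal_section hM x hx (χ : G → ℂ) hcf 1 h1reg
  rw [blockPart_irr, if_pos hχ] at h1 h2
  rw [Subgroup.coe_one, mul_one] at h2
  rw [h1, h2]
  have hn : (pPrimeCore p ↥(Subgroup.centralizer ({x} : Set G))).Normal :=
    Cfsg.Agent.Lib.Helper1.pPrimeCore_normal p
  have hcop := Cfsg.Agent.Lib.Helper1.pPrimeCore_coprime
    (G := ↥(Subgroup.centralizer ({x} : Set G))) p
  have hnd : ¬ p ∣ Nat.card (pPrimeCore p ↥(Subgroup.centralizer ({x} : Set G))) :=
    (Nat.Prime.coprime_iff_not_dvd hp).mp hcop.symm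
  have hmem := mem_pPrimeCore_of_regular k hk y₁ hy₁
  simp only [blockPart]
  apply finsum_mem_congr rfl
  intro lam hlam
  rw [Cfsg.Agent.S4646.principal_ker hM _ hnd lam hlam y₁ hmem]

/-- the sum of the squares of the degrees in the principal block of a centralizer with a
normal `p`-complement -/
theorem principal_sq_sum (hM : IsPModular p M) (x : G) (hx : ∃ k : ℕ, orderOf x = p ^ k)
    (hx1 : x ≠ 1)
    (k : ℕ) (hk : (pPrimeCore p ↥(Subgroup.centralizer ({x} : Set G))).index = p ^ k) :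
    ((∑ᶠ ψ ∈ principalBlock M ↥(Subgroup.centralizer ({x} : Set G)),
        charDegree (ψ : ↥(Subgroup.centralizer ({x} : Set G)) → ℂ) ^ 2) : ℚ)
      = ((p ^ (Nat.card (Subgroup.centralizer ({x} : Set G))).factorization p : ℕ) : ℚ) := by
  classical
  have hp : p.Prime := Fact.out
  have h1reg : ¬ p ∣ orderOf (1 : Subgroup.centralizer ({x} : Set G)) := by
    rw [orderOf_one]
    exact fun h => hp.one_lt.ne' (Nat.dvd_one.mp h)
  obtain ⟨hi, hii⟩ := Cfsg.Agent.S0947.result p M hM x hx hx1 1 h1reg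
  have h := hii ⟨k, hk⟩
  rw [hi] at h
  have hfin : (principalBlock M ↥(Subgroup.centralizer ({x} : Set G))).Finite :=
    Set.toFinite _
  have hterm : ∀ ψ : IrrCharacter ↥(Subgroup.centralizer ({x} : Set G)),
      ‖(ψ : ↥(Subgroup.centralizer ({x} : Set G)) → ℂ) 1‖ ^ 2
        = ((charDegree (ψ : ↥(Subgroup.centralizer ({x} : Set G)) → ℂ) ^ 2 : ℕ) : ℝ) := by
    intro ψ
    obtain ⟨d, hd1, _, _, hd4⟩ := irr_degree ψ
    rw [hd1, hd4]
    simp
  have hnat : (∑ᶠ ψ ∈ principalBlock M ↥(Subgroup.centralizer ({x} : Set G)),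
        charDegree (ψ : ↥(Subgroup.centralizer ({x} : Set G)) → ℂ) ^ 2)
      = p ^ (Nat.card (Subgroup.centralizer ({x} : Set G))).factorization p := by
    have h3 : ((∑ᶠ ψ ∈ principalBlock M
        ↥(Subgroup.centralizer ({x} : Set G)),
        charDegree (ψ : ↥(Subgroup.centralizer ({x} : Set G)) → ℂ) ^ 2 : ℕ) : ℝ)
        = ((p ^ (Nat.card (Subgroup.centralizer ({x} : Set G))).factorization p : ℕ) : ℝ) := by
      rw [Nat.cast_finsum_mem hfin, ← h]
      apply finsum_mem_congr rfl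
      intro ψ _
      rw [hterm ψ]
    exact Nat.cast_injective h3
  rw [← hnat, Nat.cast_finsum_mem hfin]
  apply finsum_mem_congr rfl
  intro ψ _
  simp

end block

section dual

variable {G : Type*} [Group G] (P : Subgroup G)

theorem normHom_coe (x : Subgroup.normalizer (P : Set G)) (w : P) :
    ((P.normalizerMonoidHom x w : P) : G) = (x : G) * (w : G) * (x : G)⁻¹ := by
  simp

/-- the action of the normalizer on the linear characters -/
noncomputable def dualConj (x : Subgroup.normalizer (P : Set G)) (ψ : P →* ℂˣ) : P →* ℂˣ :=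
  ψ.comp ((P.normalizerMonoidHom x)⁻¹ : MulAut P).toMonoidHom

theorem dualConj_apply (x : Subgroup.normalizer (P : Set G)) (ψ : P →* ℂˣ) (w : P) :
    dualConj P x ψ (P.normalizerMonoidHom x w) = ψ w := by
  simp [dualConj]

theorem dualConj_apply' (x : Subgroup.normalizer (P : Set G)) (ψ : P →* ℂˣ) (w : P) :
    dualConj P x⁻¹ ψ w = ψ (P.normalizerMonoidHom x w) := by
  simp [dualConj]

theorem dualConj_one (ψ : P →* ℂˣ) : dualConj P 1 ψ = ψ := by
  ext w
  simp [dualConj]

theorem dualConj_mul (x x' : Subgroup.normalizer (P : Set G)) (ψ : P →* ℂˣ) :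
    dualConj P (x * x') ψ = dualConj P x (dualConj P x' ψ) := by
  ext w
  simp [dualConj, mul_inv_rev]

theorem dualConj_ne_one (x : Subgroup.normalizer (P : Set G)) (ψ : P →* ℂˣ) (hψ : ψ ≠ 1) :
    dualConj P x ψ ≠ 1 := by
  intro h
  apply hψ
  ext w
  rw [← dualConj_apply P x ψ w, h]
  simp

/-- the action as a structure -/
noncomputable def dualAction : MulAction (Subgroup.normalizer (P : Set G)) (P →* ℂˣ) where
  smul := dualConj P
  one_smul := dualConj_one P
  mul_smul := dualConj_mul P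

theorem rel_iff (ψ ψ' : P →* ℂˣ) :
    (∃ n : G, n ∈ Subgroup.normalizer (P : Set G) ∧
      ∀ w w' : P, (w' : G) = n * w * n⁻¹ → ψ' w' = ψ w)
      ↔ ∃ x : Subgroup.normalizer (P : Set G), ψ' = dualConj P x ψ := by
  constructor
  · rintro ⟨n, hn, h⟩
    refine ⟨⟨n, hn⟩, ?_⟩
    ext w'
    have h1 := h ((P.normalizerMonoidHom ⟨n, hn⟩)⁻¹ w') w' (by
      have h2 : P.normalizerMonoidHom ⟨n, hn⟩ ((P.normalizerMonoidHom ⟨n, hn⟩)⁻¹ w') = w' := by
        simp
      have h3 := congrArg (Subtype.val : P → G) h2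
      rw [normHom_coe] at h3
      exact h3.symm)
    rw [h1]
    simp [dualConj]
  · rintro ⟨x, rfl⟩
    refine ⟨x, x.2, fun w w' hw => ?_⟩
    have h1 : w' = P.normalizerMonoidHom x w := Subtype.ext (by rw [hw, normHom_coe])
    rw [h1, dualConj_apply]

variable [Finite G]

theorem dualConj_eq_self_iff
    (hfix : ∀ n ∈ Subgroup.normalizer (P : Set G), ∀ u ∈ P, u ≠ 1 → n * u * n⁻¹ = u →
      n ∈ Subgroup.centralizer (P : Set G))
    (ψ : P →* ℂˣ) (hψ : ψ ≠ 1) (x : Subgroup.normalizer (P : Set G)) :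
    dualConj P x ψ = ψ ↔ (x : G) ∈ Subgroup.centralizer (P : Set G) := by
  constructor
  · intro h
    by_contra hx
    have hinj : Function.Injective (fun w : P => P.normalizerMonoidHom x w * w⁻¹) := by
      intro w w' hww
      have h1 : P.normalizerMonoidHom x w * w⁻¹ = P.normalizerMonoidHom x w' * w'⁻¹ := hww
      have h2 : P.normalizerMonoidHom x (w'⁻¹ * w) = w'⁻¹ * w := by
        rw [map_mul, map_inv]
        calc (P.normalizerMonoidHom x w')⁻¹ * P.normalizerMonoidHom x w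
            = (P.normalizerMonoidHom x w')⁻¹ * (P.normalizerMonoidHom x w * w⁻¹) * w := by group
          _ = (P.normalizerMonoidHom x w')⁻¹ * (P.normalizerMonoidHom x w' * w'⁻¹) * w := by
              rw [h1]
          _ = w'⁻¹ * w := by group
      have h3 : ((w'⁻¹ * w : P) : G) = 1 := by
        by_contra hne
        apply hx
        apply hfix (x : G) x.2 ((w'⁻¹ * w : P) : G) (w'⁻¹ * w : P).2 hne
        have h4 := congrArg (Subtype.val : P → G) h2
        rw [normHom_coe] at h4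
        exact h4
      have h5 : w'⁻¹ * w = 1 := Subtype.ext h3
      exact (inv_mul_eq_one.mp h5).symm
    have hsurj := Finite.surjective_of_injective hinj
    apply hψ
    ext w
    obtain ⟨w₀, hw₀⟩ := hsurj w
    have h6 : ψ (P.normalizerMonoidHom x w₀) = ψ w₀ := by
      rw [← dualConj_apply P x ψ w₀, h]
    have h7 : w = P.normalizerMonoidHom x w₀ * w₀⁻¹ := hw₀.symm
    rw [h7, map_mul, h6, map_inv, mul_inv_cancel]
    rfl
  · intro hx
    ext w
    have h1 : P.normalizerMonoidHom x w = w := by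
      apply Subtype.ext
      have h2 := Subgroup.mem_centralizer_iff.mp hx (w : G) w.2
      rw [normHom_coe, ← h2, mul_inv_cancel_right]
    have h3 := dualConj_apply P x ψ w
    rw [h1] at h3
    rw [h3]

theorem card_orbit
    (hfix : ∀ n ∈ Subgroup.normalizer (P : Set G), ∀ u ∈ P, u ≠ 1 → n * u * n⁻¹ = u →
      n ∈ Subgroup.centralizer (P : Set G))
    (ψ : P →* ℂˣ) (hψ : ψ ≠ 1) :
    Nat.card {ψ' : P →* ℂˣ // ∃ x : Subgroup.normalizer (P : Set G), ψ' = dualConj P x ψ}
      = (Subgroup.centralizer (P : Set G)).relIndex (Subgroup.normalizer (P : Set G)) := by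
  let _ := dualAction P
  have h1 := MulAction.index_stabilizer (Subgroup.normalizer (P : Set G)) ψ
  have h2 : MulAction.stabilizer (Subgroup.normalizer (P : Set G)) ψ
      = (Subgroup.centralizer (P : Set G)).subgroupOf (Subgroup.normalizer (P : Set G)) := by
    ext x
    rw [MulAction.mem_stabilizer_iff, Subgroup.mem_subgroupOf]
    exact dualConj_eq_self_iff P hfix ψ hψ x
  rw [h2] at h1
  have h3 : {ψ' : P →* ℂˣ | ∃ x : Subgroup.normalizer (P : Set G), ψ' = dualConj P x ψ}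
      = MulAction.orbit (Subgroup.normalizer (P : Set G)) ψ := by
    ext ψ'
    rw [MulAction.mem_orbit_iff]
    constructor
    · rintro ⟨x, rfl⟩
      exact ⟨x, rfl⟩
    · rintro ⟨x, rfl⟩
      exact ⟨x, rfl⟩
  unfold Subgroup.relIndex
  rw [h1, ← h3]
  exact Nat.card_coe_set_eq _

open Classical in
theorem card_smul_eq
    (hfix : ∀ n ∈ Subgroup.normalizer (P : Set G), ∀ u ∈ P, u ≠ 1 → n * u * n⁻¹ = u →
      n ∈ Subgroup.centralizer (P : Set G))
    (ψ ψ' : P →* ℂˣ) (hψ : ψ ≠ 1) :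
    Nat.card {x : Subgroup.normalizer (P : Set G) // dualConj P x ψ = ψ'}
      = if (∃ x : Subgroup.normalizer (P : Set G), ψ' = dualConj P x ψ) then
          Nat.card (Subgroup.centralizer (P : Set G)) else 0 := by
  by_cases h : ∃ x : Subgroup.normalizer (P : Set G), ψ' = dualConj P x ψ
  · rw [if_pos h]
    obtain ⟨x₀, hx₀⟩ := h
    have hCN : Subgroup.centralizer (P : Set G) ≤ Subgroup.normalizer (P : Set G) :=
      Subgroup.centralizer_le_normalizer _
    symm
    apply Nat.card_congr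
    refine ⟨fun c => ⟨x₀ * ⟨c.1, hCN c.2⟩, ?_⟩, fun x => ⟨((x₀⁻¹ * x.1 :
      Subgroup.normalizer (P : Set G)) : G), ?_⟩, ?_, ?_⟩
    · rw [dualConj_mul, (dualConj_eq_self_iff P hfix ψ hψ ⟨c.1, hCN c.2⟩).mpr c.2, ← hx₀]
    · rw [← dualConj_eq_self_iff P hfix ψ hψ, dualConj_mul, x.2, hx₀, ← dualConj_mul,
        inv_mul_cancel, dualConj_one]
    · intro c
      apply Subtype.ext
      simp
    · intro x
      apply Subtype.ext
      apply Subtype.ext
      simp
  · rw [if_neg h]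
    have : IsEmpty {x : Subgroup.normalizer (P : Set G) // dualConj P x ψ = ψ'} :=
      ⟨fun x => h ⟨x.1, x.2.symm⟩⟩
    exact Nat.card_of_isEmpty

end dual

section cols

variable {G : Type*} [Group G] [Fintype G]

/-- the coefficient of `ψ - 1` in a function restricted to `P` -/
noncomputable def cpsi (P : Subgroup G) (χ : G → ℂ) (ψ : P →* ℂˣ) : ℂ :=
  (Nat.card P : ℂ)⁻¹ * ∑ᶠ y : P, χ (y : G) * (((ψ y⁻¹ : ℂˣ) : ℂ) - 1)

theorem cpsi_eq (P : Subgroup G) [Fintype P] (χ : G → ℂ) (ψ : P →* ℂˣ) :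
    cpsi P χ ψ = (Nat.card P : ℂ)⁻¹ * ∑ y : P, χ (y : G) * (((ψ y⁻¹ : ℂˣ) : ℂ) - 1) := by
  unfold cpsi
  rw [finsum_eq_sum_of_fintype]

theorem cpsi_one (P : Subgroup G) (χ : G → ℂ) : cpsi P χ 1 = 0 := by
  unfold cpsi
  simp

/-- integrality of the coefficients -/
theorem cpsi_int (P : Subgroup G) (χ : IrrCharacter G) (ψ : P →* ℂˣ) :
    ∃ n : ℤ, cpsi P (χ : G → ℂ) ψ = (n : ℂ) := by
  classical
  have : Fintype P := Fintype.ofFinite _
  obtain ⟨n1, h1⟩ := classInner_isCharacter_nat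
    (IsCharacter.restrict (isCharacter_of_isIrrCharacter χ.2) P)
    (isCharacter_of_isIrrCharacter (isIrrCharacter_of_hom ψ))
  obtain ⟨n0, h0⟩ := classInner_isCharacter_nat
    (IsCharacter.restrict (isCharacter_of_isIrrCharacter χ.2) P)
    (isCharacter_of_isIrrCharacter (isIrrCharacter_of_hom (1 : P →* ℂˣ)))
  refine ⟨(n1 : ℤ) - (n0 : ℤ), ?_⟩
  rw [cpsi_eq]
  push_cast
  rw [← h1, ← h0, classInner_def, classInner_def, ← mul_sub, ← Finset.sum_sub_distrib]
  congr 1
  apply Finset.sum_congr rfl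
  intro y _
  rw [conj_hom_apply, conj_hom_apply]
  simp only [MonoidHom.one_apply, Units.val_one]
  ring

open scoped IsMulCommutative in
/-- Fourier inversion on `P` away from the identity -/
theorem cpsi_value (P : Subgroup G) [IsMulCommutative P] (χ : G → ℂ) (y₀ : P) (hy₀ : y₀ ≠ 1) :
    χ (y₀ : G) = ∑ᶠ ψ : P →* ℂˣ, cpsi P χ ψ * ((ψ y₀ : ℂˣ) : ℂ) := by
  classical
  have : Fintype P := Fintype.ofFinite _
  have : Fintype (P →* ℂˣ) := Fintype.ofFinite _
  have hq : (Nat.card P : ℂ) ≠ 0 := by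
    exact_mod_cast (Nat.card_pos (α := P)).ne'
  rw [finsum_eq_sum_of_fintype]
  simp only [cpsi_eq, mul_assoc, Finset.sum_mul]
  rw [← Finset.mul_sum, Finset.sum_comm]
  have hin : ∀ y : P, ∑ ψ : P →* ℂˣ, (χ (y : G) * ((((ψ y⁻¹ : ℂˣ) : ℂ) - 1)
      * ((ψ y₀ : ℂˣ) : ℂ))) = χ (y : G) * (if y = y₀ then (Nat.card P : ℂ) else 0) := by
    intro y
    rw [← Finset.mul_sum]
    congr 1
    have e : ∀ ψ : P →* ℂˣ, (((ψ y⁻¹ : ℂˣ) : ℂ) - 1) * ((ψ y₀ : ℂˣ) : ℂ)
        = ((ψ (y⁻¹ * y₀) : ℂˣ) : ℂ) - ((ψ y₀ : ℂˣ) : ℂ) := by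
      intro ψ
      rw [map_mul, Units.val_mul]
      ring
    rw [Finset.sum_congr rfl (fun ψ _ => e ψ), Finset.sum_sub_distrib, sum_hom_apply,
      sum_hom_apply, if_neg hy₀, sub_zero]
    by_cases h : y = y₀
    · rw [if_pos h, if_pos (by rw [h, inv_mul_cancel])]
    · rw [if_neg h, if_neg]
      intro h1
      exact h (inv_mul_eq_one.mp h1)
  rw [Finset.sum_congr rfl (fun y _ => hin y), Finset.sum_eq_single y₀]
  · rw [if_pos rfl]
    field_simp
  · intro y _ hy
    rw [if_neg hy, mul_zero]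
  · intro h
    exact absurd (Finset.mem_univ _) h

variable {p : ℕ} [Fact p.Prime] {M : Ideal AlgInt}

/-- orthogonality of the coefficient vectors to the `p`-regular columns -/
theorem cpsi_regular (hM : IsPModular p M) (P : Subgroup G) (hP : IsPGroup p P)
    (ψ : P →* ℂˣ) (g : G) (hg : ¬ p ∣ orderOf g) :
    ∑ᶠ χ ∈ principalBlock M G, cpsi P (χ : G → ℂ) ψ * (χ : G → ℂ) g = 0 := by
  classical
  have hp : p.Prime := Fact.out
  have : Fintype P := Fintype.ofFinite _
  have : Fintype (IrrCharacter G) := Fintype.ofFinite _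
  have hB : IsPBlock M (principalBlock M G) := ⟨Cfsg.Agent.Lib.Helper8.trivIrr G, rfl⟩
  have horth : ∀ y : P, y ≠ 1 →
      ∑ᶠ χ ∈ principalBlock M G, (χ : G → ℂ) g * (χ : G → ℂ) (y : G) = 0 := by
    intro y hy
    have h := (Cfsg.Agent.S0925.result p M hM).2 g (y : G)⁻¹ 1 (y : G)⁻¹
      ⟨g, one_mul g, Commute.one_left g, ⟨0, by rw [orderOf_one, pow_zero]⟩, hg⟩
      ⟨1, mul_one _, Commute.one_right _, by
        rw [orderOf_inv]
        obtain ⟨k, hk⟩ := (IsPGroup.iff_orderOf.mp hP) y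
        exact ⟨k, by rw [← hk, Subgroup.orderOf_coe]⟩, by
        rw [orderOf_one]
        exact fun h => hp.one_lt.ne' (Nat.dvd_one.mp h)⟩
      (by
        intro hc
        rw [isConj_one_right] at hc
        apply hy
        apply Subtype.ext
        rw [Subgroup.coe_one]
        exact inv_eq_one.mp hc)
      (principalBlock M G) hB
    rw [inv_inv] at h
    exact h
  rw [finsum_mem_eq_sum_indicator]
  simp only [Set.indicator_apply, cpsi_eq]
  have e : ∀ χ : IrrCharacter G, (if χ ∈ principalBlock M G then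
      ((Nat.card P : ℂ)⁻¹ * ∑ y : P, (χ : G → ℂ) (y : G) * (((ψ y⁻¹ : ℂˣ) : ℂ) - 1))
        * (χ : G → ℂ) g else 0)
      = ∑ y : P, (Nat.card P : ℂ)⁻¹ * ((((ψ y⁻¹ : ℂˣ) : ℂ) - 1)
        * (if χ ∈ principalBlock M G then (χ : G → ℂ) g * (χ : G → ℂ) (y : G) else 0)) := by
    intro χ
    split_ifs
    · rw [Finset.mul_sum, Finset.sum_mul]
      apply Finset.sum_congr rfl
      intro y _
      ring
    · simp
  rw [Finset.sum_congr rfl (fun χ _ => e χ), Finset.sum_comm]
  apply Finset.sum_eq_zero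
  intro y _
  rw [← Finset.mul_sum, ← Finset.mul_sum]
  by_cases hy : y = 1
  · rw [hy]
    simp
  · have h1 := horth y hy
    rw [finsum_mem_eq_sum_indicator] at h1
    simp only [Set.indicator_apply] at h1
    rw [h1, mul_zero, mul_zero]

end cols

section gram

variable {G : Type*} [Group G] [Fintype G]

open Classical in
theorem inner_sum_eq (P : Subgroup G) [Fintype P] (ψ ψ'' : P →* ℂˣ) (hψ : ψ ≠ 1)
    (hψ'' : ψ'' ≠ 1) :
    ∑ y : P, (((ψ y : ℂˣ) : ℂ) - 1) * (((ψ'' y⁻¹ : ℂˣ) : ℂ) - 1)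
      = (if ψ = ψ'' then (Nat.card P : ℂ) else 0) + (Nat.card P : ℂ) := by
  have e : ∀ y : P, (((ψ y : ℂˣ) : ℂ) - 1) * (((ψ'' y⁻¹ : ℂˣ) : ℂ) - 1)
      = ((ψ y : ℂˣ) : ℂ) * ((ψ'' y⁻¹ : ℂˣ) : ℂ)
        - ((ψ y : ℂˣ) : ℂ) * (((1 : P →* ℂˣ) y⁻¹ : ℂˣ) : ℂ)
        - (((1 : P →* ℂˣ) y : ℂˣ) : ℂ) * ((ψ'' y⁻¹ : ℂˣ) : ℂ) + 1 := by
    intro y
    simp only [MonoidHom.one_apply, Units.val_one]
    ring
  rw [Finset.sum_congr rfl (fun y _ => e y), Finset.sum_add_distrib, Finset.sum_sub_distrib,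
    Finset.sum_sub_distrib, sum_hom_mul_inv, sum_hom_mul_inv, sum_hom_mul_inv, if_neg hψ,
    if_neg (Ne.symm hψ'')]
  simp [Nat.card_eq_fintype_card]

open Classical in
theorem gram_rhs (P : Subgroup G)
    (hfix : ∀ n ∈ Subgroup.normalizer (P : Set G), ∀ u ∈ P, u ≠ 1 → n * u * n⁻¹ = u →
      n ∈ Subgroup.centralizer (P : Set G))
    [Fintype P] [Fintype (Subgroup.normalizer (P : Set G))]
    (ψ ψ' : P →* ℂˣ) (hψ : ψ ≠ 1) (hψ' : ψ' ≠ 1) :
    ∑ y : P, (((ψ y : ℂˣ) : ℂ) - 1) * conj (∑ x : Subgroup.normalizer (P : Set G),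
        ((((dualConj P x⁻¹ ψ') y : ℂˣ) : ℂ) - 1))
      = (Nat.card P : ℂ) * ((if (∃ x : Subgroup.normalizer (P : Set G),
            ψ' = dualConj P x ψ) then (Nat.card (Subgroup.centralizer (P : Set G)) : ℂ) else 0)
          + (Nat.card (Subgroup.normalizer (P : Set G)) : ℂ)) := by
  have e1 : ∀ y : P, (((ψ y : ℂˣ) : ℂ) - 1) * conj (∑ x : Subgroup.normalizer (P : Set G),
        ((((dualConj P x⁻¹ ψ') y : ℂˣ) : ℂ) - 1))
      = ∑ x : Subgroup.normalizer (P : Set G), (((ψ y : ℂˣ) : ℂ) - 1)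
        * ((((dualConj P x⁻¹ ψ') y⁻¹ : ℂˣ) : ℂ) - 1) := by
    intro y
    rw [map_sum, Finset.mul_sum]
    apply Finset.sum_congr rfl
    intro x _
    rw [map_sub, map_one, conj_hom_apply]
  rw [Finset.sum_congr rfl (fun y _ => e1 y), Finset.sum_comm]
  have e2 : ∀ x : Subgroup.normalizer (P : Set G),
      ∑ y : P, (((ψ y : ℂˣ) : ℂ) - 1) * ((((dualConj P x⁻¹ ψ') y⁻¹ : ℂˣ) : ℂ) - 1)
      = (Nat.card P : ℂ) * ((if dualConj P x ψ = ψ' then 1 else 0) + 1) := by
    intro x
    rw [inner_sum_eq P ψ _ hψ (dualConj_ne_one P _ ψ' hψ')]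
    have hiff : ψ = dualConj P x⁻¹ ψ' ↔ dualConj P x ψ = ψ' := by
      constructor
      · intro h
        rw [h, ← dualConj_mul, mul_inv_cancel, dualConj_one]
      · intro h
        rw [← h, ← dualConj_mul, inv_mul_cancel, dualConj_one]
    by_cases h : dualConj P x ψ = ψ'
    · rw [if_pos h, if_pos (hiff.mpr h)]
      ring
    · rw [if_neg h, if_neg (fun h' => h (hiff.mp h'))]
      ring
  rw [Finset.sum_congr rfl (fun x _ => e2 x), ← Finset.mul_sum, Finset.sum_add_distrib,
    Finset.sum_boole]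
  congr 1
  have hc : ((Finset.univ.filter (fun x : Subgroup.normalizer (P : Set G) =>
      dualConj P x ψ = ψ')).card : ℂ)
      = if (∃ x : Subgroup.normalizer (P : Set G), ψ' = dualConj P x ψ) then
          (Nat.card (Subgroup.centralizer (P : Set G)) : ℂ) else 0 := by
    have h1 := card_smul_eq P hfix ψ ψ' hψ
    rw [Nat.card_eq_fintype_card, Fintype.card_subtype] at h1
    rw [h1]
    split_ifs <;> simp
  rw [hc]
  simp [Nat.card_eq_fintype_card]

end gram

section main

variable {G : Type*} [Group G] [Fintype G] {p : ℕ} [Fact p.Prime] {M : Ideal AlgInt}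

theorem sylow_comm (P : Sylow p G) [hc : IsMulCommutative P] :
    ∀ x ∈ (P : Subgroup G), ∀ y ∈ (P : Subgroup G), x * y = y * x := by
  intro x hx y hy
  have h := hc.is_comm.comm (⟨x, hx⟩ : (P : Subgroup G)) ⟨y, hy⟩
  exact congrArg Subtype.val h

theorem hfix_of_hfrob (P : Sylow p G)
    (hfrob : ∀ y : G, y ∈ (P : Subgroup G) → y ≠ 1 →
      Subgroup.centralizer ({y} : Set G) ⊓ Subgroup.normalizer ((P : Subgroup G) : Set G)
        = Subgroup.centralizer ((P : Subgroup G) : Set G)) :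
    ∀ n ∈ Subgroup.normalizer ((P : Subgroup G) : Set G), ∀ u ∈ (P : Subgroup G), u ≠ 1 →
      n * u * n⁻¹ = u → n ∈ Subgroup.centralizer ((P : Subgroup G) : Set G) := by
  intro n hn u hu hu1 hnu
  rw [← hfrob u hu hu1]
  refine Subgroup.mem_inf.mpr ⟨?_, hn⟩
  rw [Subgroup.mem_centralizer_singleton_iff]
  calc n * u = (n * u * n⁻¹) * n := by group
    _ = u * n := by rw [hnu]

open Classical in
/-- the Gram matrix of the coefficient vectors of the principal block -/
theorem cpsi_gram (hM : IsPModular p M) (P : Sylow p G) [IsMulCommutative P]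
    (hfrob : ∀ y : G, y ∈ (P : Subgroup G) → y ≠ 1 →
      Subgroup.centralizer ({y} : Set G) ⊓ Subgroup.normalizer ((P : Subgroup G) : Set G)
        = Subgroup.centralizer ((P : Subgroup G) : Set G))
    (ψ ψ' : (P : Subgroup G) →* ℂˣ) (hψ : ψ ≠ 1) (hψ' : ψ' ≠ 1) :
    ∑ᶠ χ ∈ principalBlock M G, cpsi (P : Subgroup G) (χ : G → ℂ) ψ
        * conj (cpsi (P : Subgroup G) (χ : G → ℂ) ψ')
      = (((Subgroup.centralizer ((P : Subgroup G) : Set G)).relIndex
          (Subgroup.normalizer ((P : Subgroup G) : Set G)) : ℕ) : ℂ)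
        + if (∃ x : Subgroup.normalizer ((P : Subgroup G) : Set G),
            ψ' = dualConj (P : Subgroup G) x ψ) then 1 else 0 := by
  have hp : p.Prime := Fact.out
  have : Fintype (P : Subgroup G) := Fintype.ofFinite _
  have : Fintype (Subgroup.normalizer ((P : Subgroup G) : Set G)) := Fintype.ofFinite _
  have hab := sylow_comm P
  have hfix := hfix_of_hfrob P hfrob
  have hCN : Subgroup.centralizer ((P : Subgroup G) : Set G)
      ≤ Subgroup.normalizer ((P : Subgroup G) : Set G) := Subgroup.centralizer_le_normalizer _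
  have hq0 : (Nat.card (P : Subgroup G) : ℂ) ≠ 0 := by
    exact_mod_cast (Nat.card_pos (α := (P : Subgroup G))).ne'
  have hc0 : (Nat.card (Subgroup.centralizer ((P : Subgroup G) : Set G)) : ℂ) ≠ 0 := by
    exact_mod_cast (Nat.card_pos (α := Subgroup.centralizer ((P : Subgroup G) : Set G))).ne'
  have hPc : Nat.card (P : Subgroup G) = p ^ (Nat.card G).factorization p :=
    P.card_eq_multiplicity
  have hw : ∀ y ∈ {u : G | u ∈ (P : Subgroup G) ∧ u ≠ 1},
      ((∑ᶠ ψ ∈ Cfsg.principalBlock M ↥(Subgroup.centralizer ({y} : Set G)),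
        Cfsg.charDegree (ψ : ↥(Subgroup.centralizer ({y} : Set G)) → ℂ) ^ 2) : ℚ)
      = ((Nat.card (P : Subgroup G) : ℚ)
          / (Nat.card (Subgroup.centralizer ((P : Subgroup G) : Set G)) : ℚ))
        * Nat.card ↥(Subgroup.normalizer ((P : Subgroup G) : Set G)
            ⊓ Subgroup.centralizer ({y} : Set G)) := by
    rintro y ⟨hy, hy1⟩
    obtain ⟨k, hk⟩ := index_core_p P hab hfix hy hy1
    have hyp : ∃ k : ℕ, orderOf y = p ^ k := by
      obtain ⟨k', hk'⟩ := (IsPGroup.iff_orderOf.mp P.isPGroup') ⟨y, hy⟩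
      exact ⟨k', by rw [← hk', Subgroup.orderOf_mk]⟩
    rw [principal_sq_sum hM y hyp hy1 k hk, inf_comm, hfrob y hy hy1]
    have hle : (P : Subgroup G) ≤ Subgroup.centralizer ({y} : Set G) := by
      intro x hx
      rw [Subgroup.mem_centralizer_singleton_iff]
      exact hab x hx y hy
    have hfac : (Nat.card (Subgroup.centralizer ({y} : Set G))).factorization p
        = (Nat.card G).factorization p := by
      apply le_antisymm
      · exact (Nat.factorization_le_iff_dvd Nat.card_pos.ne' Nat.card_pos.ne').mpr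
          (Subgroup.card_subgroup_dvd_card _) p
      · have h1 : p ^ (Nat.card G).factorization p
            ∣ Nat.card (Subgroup.centralizer ({y} : Set G)) := by
          rw [← hPc]
          exact Subgroup.card_dvd_of_le hle
        exact (hp.pow_dvd_iff_le_factorization Nat.card_pos.ne').mp h1
    rw [hfac, ← hPc]
    have hc0' : (Nat.card (Subgroup.centralizer ((P : Subgroup G) : Set G)) : ℚ) ≠ 0 := by
      exact_mod_cast (Nat.card_pos (α := Subgroup.centralizer ((P : Subgroup G) : Set G))).ne'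
    field_simp
  have hmain := brauer_columns hM (P : Subgroup G) P.isPGroup'
    (Subgroup.normalizer ((P : Subgroup G) : Set G)) le_rfl
    {u : G | u ∈ (P : Subgroup G) ∧ u ≠ 1}
    (fun u hu g hg => fusion_abelian_sylow P u g hu.1 hg)
    ((Nat.card (P : Subgroup G) : ℚ)
      / (Nat.card (Subgroup.centralizer ((P : Subgroup G) : Set G)) : ℚ)) hw
    (fun y : (P : Subgroup G) => ((ψ y : ℂˣ) : ℂ) - 1)
    (fun y : (P : Subgroup G) => ((ψ' y : ℂˣ) : ℂ) - 1)
    (by
      intro y hy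
      have hy1 : y = 1 := by
        by_contra hne
        exact hy ⟨y.2, fun h => hne (Subtype.ext h)⟩
      rw [hy1]
      simp)
  have hL : ∑ᶠ χ ∈ principalBlock M G, cpsi (P : Subgroup G) (χ : G → ℂ) ψ
        * conj (cpsi (P : Subgroup G) (χ : G → ℂ) ψ')
      = ((((Nat.card (P : Subgroup G) : ℚ)
          / (Nat.card (Subgroup.centralizer ((P : Subgroup G) : Set G)) : ℚ) : ℚ) : ℂ)
          / ((Nat.card (P : Subgroup G) : ℂ) ^ 2))
        * ∑ᶠ y : (P : Subgroup G), (((ψ y : ℂˣ) : ℂ) - 1)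
          * conj (∑ᶠ x : Subgroup.normalizer ((P : Subgroup G) : Set G),
            Cfsg.extendByZero (P : Subgroup G)
              (fun y : (P : Subgroup G) => ((ψ' y : ℂˣ) : ℂ) - 1)
              ((x : G) * (y : G) * (x : G)⁻¹)) := hmain
  rw [hL, finsum_eq_sum_of_fintype]
  have hinner : ∀ y : (P : Subgroup G),
      ∑ᶠ x : Subgroup.normalizer ((P : Subgroup G) : Set G),
        Cfsg.extendByZero (P : Subgroup G)
          (fun y : (P : Subgroup G) => ((ψ' y : ℂˣ) : ℂ) - 1) ((x : G) * (y : G) * (x : G)⁻¹)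
      = ∑ x : Subgroup.normalizer ((P : Subgroup G) : Set G),
        ((((dualConj (P : Subgroup G) x⁻¹ ψ') y : ℂˣ) : ℂ) - 1) := by
    intro y
    rw [finsum_eq_sum_of_fintype]
    apply Finset.sum_congr rfl
    intro x _
    have hmem : (x : G) * (y : G) * (x : G)⁻¹ ∈ (P : Subgroup G) := by
      rw [← normHom_coe]
      exact ((P : Subgroup G).normalizerMonoidHom x y).2
    rw [extendByZero_of_mem _ _ hmem, dualConj_apply']
    have h1 : (⟨(x : G) * (y : G) * (x : G)⁻¹, hmem⟩ : (P : Subgroup G))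
        = (P : Subgroup G).normalizerMonoidHom x y := Subtype.ext (normHom_coe _ x y).symm
    rw [h1]
  rw [Finset.sum_congr rfl (fun y _ => by rw [hinner y]),
    gram_rhs (P : Subgroup G) hfix ψ ψ' hψ hψ']
  have hN : (Nat.card (Subgroup.normalizer ((P : Subgroup G) : Set G)) : ℂ)
      = (((Subgroup.centralizer ((P : Subgroup G) : Set G)).relIndex
          (Subgroup.normalizer ((P : Subgroup G) : Set G)) : ℕ) : ℂ)
        * (Nat.card (Subgroup.centralizer ((P : Subgroup G) : Set G)) : ℂ) := by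
    have h1 := Subgroup.relIndex_mul_relIndex (⊥ : Subgroup G) _ _ bot_le hCN
    rw [Subgroup.relIndex_bot_left, Subgroup.relIndex_bot_left] at h1
    rw [← h1]
    push_cast
    ring
  rw [hN]
  push_cast
  split_ifs
  · field_simp
    ring
  · field_simp
    ring

end main

section nonvan

variable {G : Type*} [Group G] [Fintype G] {p : ℕ} [Fact p.Prime] {M : Ideal AlgInt}

open scoped IsMulCommutative in
/-- no character of the principal block has all coefficients zero -/
theorem cpsi_exists_ne (hM : IsPModular p M) (P : Sylow p G) [IsMulCommutative P]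
    (hP1 : Nat.card P ≠ 1) (χ : IrrCharacter G) (hχ : χ ∈ principalBlock M G) :
    ∃ ψ : (P : Subgroup G) →* ℂˣ, cpsi (P : Subgroup G) (χ : G → ℂ) ψ ≠ 0 := by
  classical
  by_contra hno
  have hall : ∀ ψ : (P : Subgroup G) →* ℂˣ, cpsi (P : Subgroup G) (χ : G → ℂ) ψ = 0 := by
    intro ψ
    by_contra h
    exact hno ⟨ψ, h⟩
  have hpr := isPrime_of_isPModular hM
  have hp : p.Prime := Fact.out
  have : Fintype (P : Subgroup G) := Fintype.ofFinite _
  have hvan : ∀ y : (P : Subgroup G), y ≠ 1 → (χ : G → ℂ) (y : G) = 0 := by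
    intro y hy
    rw [cpsi_value (P : Subgroup G) (χ : G → ℂ) y hy]
    simp only [hall, zero_mul]
    exact finsum_zero
  obtain ⟨n0, h0⟩ := classInner_isCharacter_nat
    (IsCharacter.restrict (isCharacter_of_isIrrCharacter χ.2) (P : Subgroup G))
    (isCharacter_of_isIrrCharacter (isIrrCharacter_of_hom (1 : (P : Subgroup G) →* ℂˣ)))
  rw [classInner_def] at h0
  have hsum : ∑ y : (P : Subgroup G), (χ : G → ℂ) (y : G)
      * conj ((((1 : (P : Subgroup G) →* ℂˣ) y : ℂˣ) : ℂ)) = (χ : G → ℂ) 1 := by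
    rw [Finset.sum_eq_single (1 : (P : Subgroup G))]
    · simp
    · intro y _ hy
      rw [hvan y hy, zero_mul]
    · intro h
      exact absurd (Finset.mem_univ _) h
  rw [hsum] at h0
  obtain ⟨d, hd1, hdpos, hddvd, _⟩ := irr_degree χ
  have hq0 : (Nat.card (P : Subgroup G) : ℂ) ≠ 0 := by
    exact_mod_cast (Nat.card_pos (α := (P : Subgroup G))).ne'
  have hdq : d = Nat.card (P : Subgroup G) * n0 := by
    have h1 : (d : ℂ) = (Nat.card (P : Subgroup G) : ℂ) * n0 := by
      rw [← hd1, ← h0]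
      field_simp
    exact_mod_cast h1
  have hPc : Nat.card (P : Subgroup G) = p ^ (Nat.card G).factorization p :=
    P.card_eq_multiplicity
  have hnd : ¬ p ∣ Nat.card G / d := by
    intro hdiv
    obtain ⟨t, ht⟩ := hdiv
    have h1 : Nat.card G = d * (p * t) := by
      rw [← ht]
      exact (Nat.mul_div_cancel' hddvd).symm
    have h3 : Nat.card G = p ^ (Nat.card G).factorization p * p * (n0 * t) := by
      rw [← hPc]
      calc Nat.card G = d * (p * t) := h1
        _ = Nat.card (P : Subgroup G) * n0 * (p * t) := by rw [← hdq]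
        _ = Nat.card (P : Subgroup G) * p * (n0 * t) := by ring
    have h2 : p ^ ((Nat.card G).factorization p + 1) ∣ Nat.card G := by
      rw [pow_succ]
      exact Dvd.intro _ h3.symm
    exact Nat.pow_succ_factorization_not_dvd Nat.card_pos.ne' hp h2
  have hs : SameBlock M (χ : G → ℂ) ((Cfsg.Agent.Lib.Helper8.trivIrr G : IrrCharacter G) : G → ℂ) :=
    sameBlock_symm M hχ
  have heq := eq_of_sameBlock_of_defect_zero hM χ (Cfsg.Agent.Lib.Helper8.trivIrr G) hs d hd1
    hddvd hnd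
  obtain ⟨y, hy⟩ : ∃ y : (P : Subgroup G), y ≠ 1 := by
    by_contra hno'
    apply hP1
    have hsub : Subsingleton (P : Subgroup G) := by
      constructor
      intro a b
      have ha : a = 1 := by
        by_contra h
        exact hno' ⟨a, h⟩
      have hb : b = 1 := by
        by_contra h
        exact hno' ⟨b, h⟩
      rw [ha, hb]
    exact Nat.card_unique
  have h1 := hvan y hy
  rw [← heq] at h1
  simp [Cfsg.Agent.Lib.Helper8.trivIrr] at h1

end nonvan

end Cfsg.Agent.Lib.Helper24
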