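import Mathlib
import Cfsg.Prelude.Def_Blocks
import Cfsg.Agent.Lib.Helper24.GramLattice
import Cfsg.Agent.Lib.Helper24.BLChar

set_option autoImplicit false

namespace Cfsg.Agent.Lib.Helper24

open Cfsg Cfsg.Agent.Lib.Helper2 Cfsg.Agent.Lib.Helper8 Cfsg.Agent.Lib.Helper25

open scoped ComplexConjugate

section lattice

open scoped IsMulCommutative in
/-- the number of linear characters of a finite abelian group -/
theorem card_hom_eq (A : Type*) [Group A] [Finite A] [IsMulCommutative A] :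
    Nat.card (A →* ℂˣ) = Nat.card A := by
  have hne : NeZero (Monoid.exponent A) := ⟨Monoid.exponent_ne_zero_of_finite⟩
  exact CommGroup.card_monoidHom_of_hasEnoughRootsOfUnity A ℂ

variable {G : Type*} [Group G] [Fintype G] {p : ℕ} [Fact p.Prime] {M : Ideal AlgInt}

/-- the coefficients of the principal character -/
theorem cpsi_triv (P : Subgroup G) (ψ : P →* ℂˣ) (hψ : ψ ≠ 1) :
    cpsi P (fun _ => (1 : ℂ)) ψ = -1 := by
  classical
  have : Fintype P := Fintype.ofFinite _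
  rw [cpsi_eq]
  have hq : (Nat.card P : ℂ) ≠ 0 := by
    exact_mod_cast (Nat.card_pos (α := P)).ne'
  have h1 := sum_hom_mul_inv (1 : P →* ℂˣ) ψ
  rw [if_neg (Ne.symm hψ)] at h1
  have h2 : ∑ y : P, (1 : ℂ) * ((((ψ y⁻¹ : ℂˣ) : ℂ)) - 1) = -(Nat.card P : ℂ) := by
    have e : ∀ y : P, (1 : ℂ) * ((((ψ y⁻¹ : ℂˣ) : ℂ)) - 1)
        = (((1 : P →* ℂˣ) y : ℂˣ) : ℂ) * ((ψ y⁻¹ : ℂˣ) : ℂ) - 1 := by
      intro y
      simp
    rw [Finset.sum_congr rfl (fun y _ => e y), Finset.sum_sub_distrib, h1]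
    simp [Nat.card_eq_fintype_card]
  rw [h2]
  field_simp

/-- the lattice structure of the coefficient vectors of the principal block -/
theorem bl_lattice (hM : IsPModular p M) (P : Sylow p G) [IsMulCommutative P]
    (m : ℕ) (hm2 : m + 1 < Nat.card P)
    (hCN : (Subgroup.centralizer ((P : Subgroup G) : Set G)).relIndex
      (Subgroup.normalizer ((P : Subgroup G) : Set G)) = m)
    (hfrob : ∀ y : G, y ∈ (P : Subgroup G) → y ≠ 1 →
      Subgroup.centralizer ({y} : Set G) ⊓ Subgroup.normalizer ((P : Subgroup G) : Set G)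
        = Subgroup.centralizer ((P : Subgroup G) : Set G)) :
    ∃ (δ d₀ : ℤ) (C₀ : IrrCharacter G → ℤ)
      (ζ : ((P : Subgroup G) →* ℂˣ) → IrrCharacter G),
      (δ = 1 ∨ δ = -1) ∧
      (∀ ψ : (P : Subgroup G) →* ℂˣ, ψ ≠ 1 → ∀ χ ∈ principalBlock M G,
        cpsi (P : Subgroup G) (χ : G → ℂ) ψ
          = (C₀ χ : ℂ) + if χ = ζ ψ then (δ : ℂ) else 0) ∧
      (∀ ψ : (P : Subgroup G) →* ℂˣ, ψ ≠ 1 → ζ ψ ∈ principalBlock M G) ∧
      (∀ ψ ψ' : (P : Subgroup G) →* ℂˣ, ψ ≠ 1 → ψ' ≠ 1 →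
        (ζ ψ = ζ ψ' ↔ ∃ x : Subgroup.normalizer ((P : Subgroup G) : Set G),
          ψ' = dualConj (P : Subgroup G) x ψ)) ∧
      (∀ ψ : (P : Subgroup G) →* ℂˣ, ψ ≠ 1 → C₀ (ζ ψ) = d₀) ∧
      (∑ᶠ χ ∈ principalBlock M G, C₀ χ ^ 2 + 2 * δ * d₀ = (m : ℤ)) ∧
      (∀ ψ : (P : Subgroup G) →* ℂˣ, ψ ≠ 1 →
        ∃ ψ' : (P : Subgroup G) →* ℂˣ, ψ' ≠ 1 ∧ ζ ψ' ≠ ζ ψ) := by
  classical
  have hp : p.Prime := Fact.out
  have : Fintype (P : Subgroup G) := Fintype.ofFinite _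
  have : Fintype ((P : Subgroup G) →* ℂˣ) := Fintype.ofFinite _
  have : Fintype (IrrCharacter G) := Fintype.ofFinite _
  have : Fintype ↥(principalBlock M G) := Fintype.ofFinite _
  have hfix := hfix_of_hfrob P hfrob
  choose cZ hcZ using fun (χ : IrrCharacter G) (ψ : (P : Subgroup G) →* ℂˣ) =>
    cpsi_int (P : Subgroup G) χ ψ
  choose dg hdg using fun (χ : IrrCharacter G) => irr_degree χ
  obtain ⟨R, hRdef⟩ : ∃ R : {ψ : (P : Subgroup G) →* ℂˣ // ψ ≠ 1} →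
      {ψ : (P : Subgroup G) →* ℂˣ // ψ ≠ 1} → Prop, ∀ i j, R i j ↔
        ∃ x : Subgroup.normalizer ((P : Subgroup G) : Set G),
          j.1 = dualConj (P : Subgroup G) x i.1 := ⟨_, fun _ _ => Iff.rfl⟩
  have hcardI : Nat.card {ψ : (P : Subgroup G) →* ℂˣ // ψ ≠ 1} = Nat.card P - 1 := by
    rw [Nat.subtype_card (Finset.univ.erase (1 : (P : Subgroup G) →* ℂˣ)) (by simp),
      Finset.card_erase_of_mem (Finset.mem_univ _), Finset.card_univ, ← Nat.card_eq_fintype_card,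
      card_hom_eq]
  have hG : ∀ i j : {ψ : (P : Subgroup G) →* ℂˣ // ψ ≠ 1},
      ∑ b : ↥(principalBlock M G), cZ b.1 i.1 * cZ b.1 j.1
        = (m : ℤ) + (if R i j then 1 else 0) := by
    intro i j
    have h := cpsi_gram hM P hfrob i.1 j.1 i.2 j.2
    rw [hCN, ← finsum_set_coe_eq_finsum_mem, finsum_eq_sum_of_fintype] at h
    have e : ∀ b : ↥(principalBlock M G), cpsi (P : Subgroup G) (b.1 : G → ℂ) i.1
        * conj (cpsi (P : Subgroup G) (b.1 : G → ℂ) j.1)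
          = ((cZ b.1 i.1 * cZ b.1 j.1 : ℤ) : ℂ) := by
      intro b
      rw [hcZ, hcZ, map_intCast]
      push_cast
      rfl
    rw [Finset.sum_congr rfl (fun b _ => e b), ← Int.cast_sum] at h
    by_cases hr : R i j
    · rw [if_pos hr]
      rw [if_pos ((hRdef i j).mp hr)] at h
      exact_mod_cast h
    · rw [if_neg hr]
      rw [if_neg (fun h' => hr ((hRdef i j).mpr h'))] at h
      exact_mod_cast h
  have hD : ∀ i : {ψ : (P : Subgroup G) →* ℂˣ // ψ ≠ 1},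
      ∑ b : ↥(principalBlock M G), (dg b.1 : ℤ) * cZ b.1 i.1 = 0 := by
    intro i
    have h1reg : ¬ p ∣ orderOf (1 : G) := by
      rw [orderOf_one]
      exact fun h => hp.one_lt.ne' (Nat.dvd_one.mp h)
    have h := cpsi_regular hM (P : Subgroup G) P.isPGroup' i.1 1 h1reg
    rw [← finsum_set_coe_eq_finsum_mem, finsum_eq_sum_of_fintype] at h
    have h2 : ((∑ b : ↥(principalBlock M G), (dg b.1 : ℤ) * cZ b.1 i.1 : ℤ) : ℂ) = ((0 : ℤ) : ℂ) := by
      push_cast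
      rw [← h]
      apply Finset.sum_congr rfl
      intro b _
      rw [hcZ, (hdg b.1).1]
      ring
    exact_mod_cast h2
  have hR : ∀ i, R i i := fun i => (hRdef i i).mpr ⟨1, (dualConj_one _ _).symm⟩
  have hne' : ∀ i, ∃ j, ¬ R i j := by
    intro i
    by_contra hall
    have hall' : ∀ j, R i j := by
      intro j
      by_contra h
      exact hall ⟨j, h⟩
    have hinj : Function.Injective (fun j : {ψ : (P : Subgroup G) →* ℂˣ // ψ ≠ 1} =>
        (⟨j.1, (hRdef i j).mp (hall' j)⟩ : {ψ' : (P : Subgroup G) →* ℂˣ //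
          ∃ x : Subgroup.normalizer ((P : Subgroup G) : Set G),
            ψ' = dualConj (P : Subgroup G) x i.1})) := by
      intro j j' h
      have h' := congrArg (fun z : {ψ' : (P : Subgroup G) →* ℂˣ //
          ∃ x : Subgroup.normalizer ((P : Subgroup G) : Set G),
            ψ' = dualConj (P : Subgroup G) x i.1} => z.1) h
      exact Subtype.ext h'
    have h1 := Nat.card_le_card_of_injective _ hinj
    rw [hcardI, card_orbit (P : Subgroup G) hfix i.1 i.2, hCN] at h1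
    omega
  have hI : Nonempty {ψ : (P : Subgroup G) →* ℂˣ // ψ ≠ 1} := by
    have h0 : 0 < Nat.card {ψ : (P : Subgroup G) →* ℂˣ // ψ ≠ 1} := by
      rw [hcardI]
      omega
    exact (Nat.card_pos_iff.mp h0).1
  obtain ⟨i₀⟩ := hI
  obtain ⟨j₀, hj₀⟩ := hne' i₀
  obtain ⟨δ, c₀, ζ', hδ, hc, hζ⟩ := gram_structure
    (fun (i : {ψ : (P : Subgroup G) →* ℂˣ // ψ ≠ 1}) (b : ↥(principalBlock M G)) => cZ b.1 i.1)
    (m : ℤ) R (fun b => (dg b.1 : ℤ)) (fun b => by exact_mod_cast (hdg b.1).2.1) hG hD hR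
    ⟨i₀, j₀, hj₀⟩
  have hδ2 : δ ^ 2 = 1 := by
    rcases hδ with rfl | rfl <;> norm_num
  have hsq : ∀ i, ∑ b, c₀ b ^ 2 + 2 * δ * c₀ (ζ' i) = (m : ℤ) := by
    intro i
    have h := hG i i
    rw [if_pos (hR i)] at h
    have e : ∀ b, cZ b.1 i.1 * cZ b.1 i.1
        = c₀ b ^ 2 + (if b = ζ' i then 2 * δ * c₀ b + δ ^ 2 else 0) := by
      intro b
      rw [hc i b]
      split_ifs <;> ring
    rw [Finset.sum_congr rfl (fun b _ => e b), Finset.sum_add_distrib,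
      Finset.sum_ite_eq' Finset.univ (ζ' i) (fun b => 2 * δ * c₀ b + δ ^ 2),
      if_pos (Finset.mem_univ _), hδ2] at h
    linarith
  have hd : ∀ i, c₀ (ζ' i) = c₀ (ζ' i₀) := by
    intro i
    have h1 := hsq i
    have h2 := hsq i₀
    rcases hδ with rfl | rfl <;> linarith
  refine ⟨δ, c₀ (ζ' i₀), fun χ => if h : χ ∈ principalBlock M G then c₀ ⟨χ, h⟩ else 0,
    fun ψ => if h : ψ ≠ 1 then (ζ' ⟨ψ, h⟩).1 else Cfsg.Agent.Lib.Helper8.trivIrr G, hδ,
    ?_, ?_, ?_, ?_, ?_, ?_⟩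
  · intro ψ hψ χ hχ
    rw [hcZ χ ψ, hc ⟨ψ, hψ⟩ ⟨χ, hχ⟩]
    simp only [dif_pos hχ, dif_pos hψ]
    by_cases h : (⟨χ, hχ⟩ : ↥(principalBlock M G)) = ζ' ⟨ψ, hψ⟩
    · rw [if_pos h, if_pos (congrArg Subtype.val h)]
      push_cast
      rfl
    · rw [if_neg h, if_neg (fun h' => h (Subtype.ext h'))]
      push_cast
      rfl
  · intro ψ hψ
    simp only [dif_pos hψ]
    exact (ζ' ⟨ψ, hψ⟩).2
  · intro ψ ψ' hψ hψ'
    simp only [dif_pos hψ, dif_pos hψ']
    rw [← Subtype.ext_iff]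
    exact (hζ ⟨ψ, hψ⟩ ⟨ψ', hψ'⟩).trans (hRdef _ _)
  · intro ψ hψ
    simp only [dif_pos hψ, dif_pos (ζ' ⟨ψ, hψ⟩).2, Subtype.coe_eta]
    exact hd ⟨ψ, hψ⟩
  · rw [← finsum_set_coe_eq_finsum_mem, finsum_eq_sum_of_fintype, ← hsq i₀]
    congr 1
    apply Finset.sum_congr rfl
    intro b _
    simp only [dif_pos b.2, Subtype.coe_eta]
  · intro ψ hψ
    obtain ⟨j, hj⟩ := hne' ⟨ψ, hψ⟩
    refine ⟨j.1, j.2, ?_⟩
    simp only [dif_pos hψ, dif_pos j.2, Subtype.coe_eta]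
    intro h
    exact hj ((hζ ⟨ψ, hψ⟩ j).mp (Subtype.ext h.symm))

end lattice

end Cfsg.Agent.Lib.Helper24
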