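import Mathlib
import Cfsg.Prelude.Def_Blocks
import Cfsg.Agent.Lib.Helper24.BLLattice

set_option autoImplicit false

namespace Cfsg.Agent.Lib.Helper24

open Cfsg Cfsg.Agent.Lib.Helper2 Cfsg.Agent.Lib.Helper8 Cfsg.Agent.Lib.Helper25

open scoped ComplexConjugate

section struct

variable {G : Type*} [Group G] [Fintype G] {p : ℕ} [Fact p.Prime] {M : Ideal AlgInt}

/-- the structure of the principal block for an abelian Sylow subgroup with a Frobenius-type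
normalizer, in terms of finite sets -/
theorem bl_struct (hM : IsPModular p M) (P : Sylow p G) [IsMulCommutative P]
    (hP1 : Nat.card P ≠ 1) (m : ℕ) (hm1 : 1 < m) (hm2 : m + 1 < Nat.card P)
    (hCN : (Subgroup.centralizer ((P : Subgroup G) : Set G)).relIndex
      (Subgroup.normalizer ((P : Subgroup G) : Set G)) = m)
    (hfrob : ∀ y : G, y ∈ (P : Subgroup G) → y ≠ 1 →
      Subgroup.centralizer ({y} : Set G) ⊓ Subgroup.normalizer ((P : Subgroup G) : Set G)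
        = Subgroup.centralizer ((P : Subgroup G) : Set G)) :
    ∃ (δ d₀ : ℤ) (C₀ : IrrCharacter G → ℤ)
      (ζ : ((P : Subgroup G) →* ℂˣ) → IrrCharacter G) (Bf Yf : Finset (IrrCharacter G)),
      (δ = 1 ∨ δ = -1) ∧
      (∀ χ, χ ∈ Bf ↔ χ ∈ principalBlock M G) ∧
      (∀ η, η ∈ Yf ↔ ∃ ψ : (P : Subgroup G) →* ℂˣ, ψ ≠ 1 ∧ ζ ψ = η) ∧
      Yf ⊆ Bf ∧
      (∀ ψ ψ' : (P : Subgroup G) →* ℂˣ, ψ ≠ 1 → ψ' ≠ 1 →
        (ζ ψ = ζ ψ' ↔ ∃ x : Subgroup.normalizer ((P : Subgroup G) : Set G),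
          ψ' = dualConj (P : Subgroup G) x ψ)) ∧
      (∀ χ ∈ Yf, C₀ χ = d₀) ∧
      Yf.card * m = Nat.card P - 1 ∧
      (∀ χ ∈ principalBlock M G, ∀ y : (P : Subgroup G), y ≠ 1 →
        (χ : G → ℂ) (y : G) = -(C₀ χ : ℂ) + (δ : ℂ) *
          ∑ᶠ ψ ∈ {ψ : (P : Subgroup G) →* ℂˣ | ψ ≠ 1 ∧ χ = ζ ψ}, ((ψ y : ℂˣ) : ℂ)) ∧
      (∀ χ ∈ principalBlock M G, ∀ z y : G, IsPPart p z y → y ∈ (P : Subgroup G) →
        y ≠ 1 → (χ : G → ℂ) z = (χ : G → ℂ) y) ∧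
      (∀ ψ : (P : Subgroup G) →* ℂˣ, ψ ≠ 1 → ∀ g : G, ¬ p ∣ orderOf g →
        ∑ χ ∈ Bf, (C₀ χ : ℂ) * (χ : G → ℂ) g + (δ : ℂ) * (ζ ψ : G → ℂ) g = 0) ∧
      (∀ η ∈ Yf, ∀ η' ∈ Yf, ∀ g : G, ¬ p ∣ orderOf g →
        (η : G → ℂ) g = (η' : G → ℂ) g) ∧
      (∀ χ ∈ Bf \ Yf, C₀ χ ≠ 0) ∧
      Cfsg.Agent.Lib.Helper8.trivIrr G ∈ Bf \ Yf ∧
      (∑ χ ∈ Bf \ Yf, C₀ χ ^ 2 + (Yf.card : ℤ) * d₀ ^ 2 + 2 * δ * d₀ = (m : ℤ)) ∧
      (∀ ψ : (P : Subgroup G) →* ℂˣ, ψ ≠ 1 →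
        ∃ ψ' : (P : Subgroup G) →* ℂˣ, ψ' ≠ 1 ∧ ζ ψ' ≠ ζ ψ) ∧
      (∀ ψ₁ : (P : Subgroup G) →* ℂˣ, ψ₁ ≠ 1 →
        Nat.card {ψ : (P : Subgroup G) →* ℂˣ // ψ ≠ 1 ∧ ζ ψ = ζ ψ₁} = m) := by
  classical
  have hp : p.Prime := Fact.out
  have hpr := isPrime_of_isPModular hM
  have : Fintype (P : Subgroup G) := Fintype.ofFinite _
  have : Fintype ((P : Subgroup G) →* ℂˣ) := Fintype.ofFinite _
  have : Fintype (IrrCharacter G) := Fintype.ofFinite _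
  have hfix := hfix_of_hfrob P hfrob
  have hcomm := sylow_comm P
  obtain ⟨δ, d₀, C₀, ζ, hδ, hc, hζB, hζR, hd₀, hnorm, hex⟩ :=
    bl_lattice hM P m hm2 hCN hfrob
  have hδ2 : δ ^ 2 = 1 := by
    rcases hδ with rfl | rfl <;> norm_num
  have hδ0 : (δ : ℂ) ≠ 0 := by
    rcases hδ with rfl | rfl <;> norm_num
  obtain ⟨Bf, hBf⟩ : ∃ Bf : Finset (IrrCharacter G), ∀ χ, χ ∈ Bf ↔ χ ∈ principalBlock M G :=
    ⟨Finset.univ.filter (fun χ => χ ∈ principalBlock M G), fun χ => by simp⟩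
  obtain ⟨Yf, hYf⟩ : ∃ Yf : Finset (IrrCharacter G), ∀ η, η ∈ Yf ↔
      ∃ ψ : (P : Subgroup G) →* ℂˣ, ψ ≠ 1 ∧ ζ ψ = η :=
    ⟨(Finset.univ.filter (fun ψ : (P : Subgroup G) →* ℂˣ => ψ ≠ 1)).image ζ, fun η => by simp⟩
  have hYB : Yf ⊆ Bf := by
    intro η hη
    obtain ⟨ψ, hψ, rfl⟩ := (hYf η).mp hη
    exact (hBf _).mpr (hζB ψ hψ)
  have hBcoe : principalBlock M G = (Bf : Set (IrrCharacter G)) := by
    ext χ
    rw [Finset.mem_coe, hBf]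
  have hYcard : Yf.card * m = Nat.card P - 1 := by
    have hS : (Finset.univ.filter (fun ψ : (P : Subgroup G) →* ℂˣ => ψ ≠ 1)).card
        = Nat.card P - 1 := by
      rw [Finset.filter_ne' Finset.univ (1 : (P : Subgroup G) →* ℂˣ),
        Finset.card_erase_of_mem (Finset.mem_univ _), Finset.card_univ,
        ← Nat.card_eq_fintype_card, card_hom_eq]
    rw [← hS, Finset.card_eq_sum_card_fiberwise (f := ζ) (t := Yf)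
      (fun ψ hψ => (hYf _).mpr ⟨ψ, (Finset.mem_filter.mp hψ).2, rfl⟩)]
    rw [Finset.sum_const_nat]
    intro b hb
    obtain ⟨ψ₁, hψ₁, rfl⟩ := (hYf b).mp hb
    rw [← hCN, ← card_orbit (P : Subgroup G) hfix ψ₁ hψ₁]
    symm
    apply Nat.subtype_card
    intro ψ'
    rw [Finset.mem_filter, Finset.mem_filter]
    constructor
    · rintro ⟨⟨-, h1⟩, h2⟩
      exact (hζR ψ₁ ψ' hψ₁ h1).mp h2.symm
    · rintro ⟨x, rfl⟩
      have h1 := dualConj_ne_one (P : Subgroup G) x ψ₁ hψ₁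
      exact ⟨⟨Finset.mem_univ _, h1⟩, ((hζR ψ₁ _ hψ₁ h1).mpr ⟨x, rfl⟩).symm⟩
  have hm0 : 0 < m := by omega
  have hr : (Nat.card P - 1) / m = Yf.card := by
    rw [← hYcard]
    exact Nat.mul_div_cancel _ hm0
  have hr2 : 2 ≤ Yf.card := by
    by_contra h
    have h1 : Yf.card ≤ 1 := by omega
    have h2 : Yf.card * m ≤ m := by simpa using Nat.mul_le_mul_right m h1
    rw [hYcard] at h2
    omega
  have hval : ∀ χ ∈ principalBlock M G, ∀ y : (P : Subgroup G), y ≠ 1 →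
      (χ : G → ℂ) (y : G) = -(C₀ χ : ℂ) + (δ : ℂ) * ∑ ψ : (P : Subgroup G) →* ℂˣ,
        if (ψ ≠ 1 ∧ χ = ζ ψ) then ((ψ y : ℂˣ) : ℂ) else 0 := by
    intro χ hχ y hy
    rw [cpsi_value (P : Subgroup G) (χ : G → ℂ) y hy, finsum_eq_sum_of_fintype]
    have e : ∀ ψ : (P : Subgroup G) →* ℂˣ,
        cpsi (P : Subgroup G) (χ : G → ℂ) ψ * ((ψ y : ℂˣ) : ℂ)
        = (C₀ χ : ℂ) * ((ψ y : ℂˣ) : ℂ) - (if ψ = 1 then (C₀ χ : ℂ) else 0)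
          + (δ : ℂ) * (if (ψ ≠ 1 ∧ χ = ζ ψ) then ((ψ y : ℂˣ) : ℂ) else 0) := by
      intro ψ
      by_cases hψ : ψ = 1
      · rw [hψ, cpsi_one, if_pos rfl, if_neg (fun h => h.1 rfl)]
        simp
      · rw [hc ψ hψ χ hχ, if_neg hψ]
        by_cases h2 : χ = ζ ψ
        · rw [if_pos h2, if_pos ⟨hψ, h2⟩]
          ring
        · rw [if_neg h2, if_neg (fun h => h2 h.2)]
          ring
    rw [Finset.sum_congr rfl (fun ψ _ => e ψ), Finset.sum_add_distrib, Finset.sum_sub_distrib,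
      ← Finset.mul_sum, ← Finset.mul_sum, sum_hom_apply, if_neg hy,
      Finset.sum_ite_eq' Finset.univ (1 : (P : Subgroup G) →* ℂˣ) (fun _ => (C₀ χ : ℂ)),
      if_pos (Finset.mem_univ _)]
    ring
  have hsec : ∀ χ ∈ principalBlock M G, ∀ z y : G, IsPPart p z y → y ∈ (P : Subgroup G) →
      y ≠ 1 → (χ : G → ℂ) z = (χ : G → ℂ) y := by
    intro χ hχ z y hzy hyP hy1
    obtain ⟨y', rfl, hcm, hk, hreg⟩ := hzy
    obtain ⟨k', hk'⟩ := index_core_p P hcomm hfix hyP hy1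
    have hmem : y' ∈ Subgroup.centralizer ({y} : Set G) := by
      rw [Subgroup.mem_centralizer_singleton_iff]
      exact hcm.eq.symm
    exact principal_section_const hM y hk k' hk' χ hχ ⟨y', hmem⟩
      (by rwa [Subgroup.orderOf_mk])
  have hreg : ∀ ψ : (P : Subgroup G) →* ℂˣ, ψ ≠ 1 → ∀ g : G, ¬ p ∣ orderOf g →
      ∑ χ ∈ Bf, (C₀ χ : ℂ) * (χ : G → ℂ) g + (δ : ℂ) * (ζ ψ : G → ℂ) g = 0 := by
    intro ψ hψ g hg
    have h := cpsi_regular hM (P : Subgroup G) P.isPGroup' ψ g hg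
    rw [hBcoe, finsum_mem_coe_finset] at h
    have e : ∀ χ ∈ Bf, cpsi (P : Subgroup G) (χ : G → ℂ) ψ * (χ : G → ℂ) g
        = (C₀ χ : ℂ) * (χ : G → ℂ) g
          + (if χ = ζ ψ then (δ : ℂ) * (χ : G → ℂ) g else 0) := by
      intro χ hχ
      rw [hc ψ hψ χ ((hBf χ).mp hχ)]
      split_ifs <;> ring
    rw [Finset.sum_congr rfl e, Finset.sum_add_distrib,
      Finset.sum_ite_eq' Bf (ζ ψ) (fun χ => (δ : ℂ) * (χ : G → ℂ) g),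
      if_pos ((hBf _).mpr (hζB ψ hψ))] at h
    exact h
  have hYreg : ∀ η ∈ Yf, ∀ η' ∈ Yf, ∀ g : G, ¬ p ∣ orderOf g →
      (η : G → ℂ) g = (η' : G → ℂ) g := by
    intro η hη η' hη' g hg
    obtain ⟨ψ, hψ, rfl⟩ := (hYf η).mp hη
    obtain ⟨ψ', hψ', rfl⟩ := (hYf η').mp hη'
    have h1 := hreg ψ hψ g hg
    have h2 := hreg ψ' hψ' g hg
    apply mul_left_cancel₀ hδ0
    linear_combination h1 - h2
  have hXne : ∀ χ ∈ Bf \ Yf, C₀ χ ≠ 0 := by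
    intro χ hχ h0
    obtain ⟨hχB, hχY⟩ := Finset.mem_sdiff.mp hχ
    have hχB' := (hBf χ).mp hχB
    obtain ⟨ψ, hψ⟩ := cpsi_exists_ne hM P hP1 χ hχB'
    apply hψ
    by_cases h1 : ψ = 1
    · rw [h1, cpsi_one]
    · rw [hc ψ h1 χ hχB', h0, if_neg (fun h => hχY ((hYf χ).mpr ⟨ψ, h1, h.symm⟩))]
      simp
  have htriv : Cfsg.Agent.Lib.Helper8.trivIrr G ∈ Bf \ Yf := by
    have hB : Cfsg.Agent.Lib.Helper8.trivIrr G ∈ principalBlock M G := by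
      show SameBlock M (fun _ : G => (1 : ℂ)) (fun _ : G => (1 : ℂ))
      exact sameBlock_refl M _
    refine Finset.mem_sdiff.mpr ⟨(hBf _).mpr hB, ?_⟩
    intro hY
    obtain ⟨ψ, hψ, hζψ⟩ := (hYf _).mp hY
    obtain ⟨ψ', hψ', hne⟩ := hex ψ hψ
    have h1 := hc ψ hψ _ hB
    have h2 := hc ψ' hψ' _ hB
    rw [if_pos hζψ.symm] at h1
    rw [if_neg (fun h => hne (h.symm.trans hζψ.symm))] at h2
    have h3 : cpsi (P : Subgroup G)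
        ((Cfsg.Agent.Lib.Helper8.trivIrr G : IrrCharacter G) : G → ℂ) ψ = -1 :=
      cpsi_triv (P : Subgroup G) ψ hψ
    have h4 : cpsi (P : Subgroup G)
        ((Cfsg.Agent.Lib.Helper8.trivIrr G : IrrCharacter G) : G → ℂ) ψ' = -1 :=
      cpsi_triv (P : Subgroup G) ψ' hψ'
    rw [h3] at h1
    rw [h4] at h2
    apply hδ0
    linear_combination h2 - h1
  have hC₀Y : ∀ χ ∈ Yf, C₀ χ = d₀ := by
    intro χ hχ
    obtain ⟨ψ, hψ, rfl⟩ := (hYf χ).mp hχ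
    exact hd₀ ψ hψ
  have hnorm' : ∑ χ ∈ Bf \ Yf, C₀ χ ^ 2 + (Yf.card : ℤ) * d₀ ^ 2 + 2 * δ * d₀ = (m : ℤ) := by
    rw [hBcoe, finsum_mem_coe_finset, ← Finset.sum_sdiff hYB,
      Finset.sum_congr rfl (fun χ hχ => by rw [hC₀Y χ hχ] : ∀ χ ∈ Yf, C₀ χ ^ 2 = d₀ ^ 2),
      Finset.sum_const, nsmul_eq_mul] at hnorm
    exact hnorm
  have hs : (Bf \ Yf).card ≤ m := by
    have h1 : ((Bf \ Yf).card : ℤ) ≤ ∑ χ ∈ Bf \ Yf, C₀ χ ^ 2 := by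
      have h := Finset.card_nsmul_le_sum (Bf \ Yf) (fun χ => C₀ χ ^ 2) 1 (fun χ hχ => by
        have h2 : 0 < C₀ χ ^ 2 :=
          lt_of_le_of_ne (sq_nonneg _) (Ne.symm (pow_ne_zero 2 (hXne χ hχ)))
        linarith)
      simpa using h
    have h2 : 0 ≤ (Yf.card : ℤ) * d₀ ^ 2 + 2 * δ * d₀ := by
      by_cases h0 : d₀ = 0
      · rw [h0]
        simp
      · have h3 : 1 ≤ d₀ ^ 2 := by
          have : 0 < d₀ ^ 2 := lt_of_le_of_ne (sq_nonneg _) (Ne.symm (pow_ne_zero 2 h0))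
          linarith
        have h4 : (2 : ℤ) ≤ Yf.card := by exact_mod_cast hr2
        have h5 : 0 ≤ (d₀ + δ) ^ 2 := sq_nonneg _
        nlinarith [mul_le_mul_of_nonneg_right h4 (sq_nonneg d₀), h3, h5, hδ2]
    have h3 : ((Bf \ Yf).card : ℤ) ≤ (m : ℤ) := by linarith
    exact_mod_cast h3
  have hvalF : ∀ χ ∈ principalBlock M G, ∀ y : (P : Subgroup G), y ≠ 1 →
      (χ : G → ℂ) (y : G) = -(C₀ χ : ℂ) + (δ : ℂ) *
        ∑ᶠ ψ ∈ {ψ : (P : Subgroup G) →* ℂˣ | ψ ≠ 1 ∧ χ = ζ ψ}, ((ψ y : ℂˣ) : ℂ) := by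
    intro χ hχ y hy
    rw [hval χ hχ y hy, finsum_mem_eq_sum_indicator]
    congr 2
    apply Finset.sum_congr rfl
    intro ψ _
    rw [Set.indicator_apply]
    by_cases hc' : ψ ≠ 1 ∧ χ = ζ ψ
    · rw [if_pos hc', if_pos (show ψ ∈ {ψ : (P : Subgroup G) →* ℂˣ | ψ ≠ 1 ∧ χ = ζ ψ} from hc')]
    · rw [if_neg hc', if_neg (show ψ ∉ {ψ : (P : Subgroup G) →* ℂˣ | ψ ≠ 1 ∧ χ = ζ ψ} from hc')]
  have hfibN : ∀ ψ₁ : (P : Subgroup G) →* ℂˣ, ψ₁ ≠ 1 →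
      Nat.card {ψ : (P : Subgroup G) →* ℂˣ // ψ ≠ 1 ∧ ζ ψ = ζ ψ₁} = m := by
    intro ψ₁ hψ₁
    rw [← hCN, ← card_orbit (P : Subgroup G) hfix ψ₁ hψ₁]
    apply Nat.card_congr
    refine ⟨fun ψ => ⟨ψ.1, (hζR ψ₁ ψ.1 hψ₁ ψ.2.1).mp ψ.2.2.symm⟩, fun ψ => ⟨ψ.1, ?_⟩, ?_, ?_⟩
    · obtain ⟨x, hx⟩ := ψ.2
      have h1 : ψ.1 ≠ 1 := by
        rw [hx]
        exact dualConj_ne_one (P : Subgroup G) x ψ₁ hψ₁
      exact ⟨h1, ((hζR ψ₁ ψ.1 hψ₁ h1).mpr ⟨x, hx⟩).symm⟩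
    · intro ψ
      rfl
    · intro ψ
      rfl
  exact ⟨δ, d₀, C₀, ζ, Bf, Yf, hδ, hBf, hYf, hYB, hζR, hC₀Y, hYcard, hvalF, hsec, hreg, hYreg,
    hXne, htriv, hnorm', hex, hfibN⟩

end struct

end Cfsg.Agent.Lib.Helper24
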