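import Mathlib
import Cfsg.Prelude.Def_Blocks
import Cfsg.Agent.Lib.Helper24.BLStruct

set_option autoImplicit false

namespace Cfsg.Agent.Lib.Helper24

open Cfsg Cfsg.Agent.Lib.Helper2 Cfsg.Agent.Lib.Helper8 Cfsg.Agent.Lib.Helper25

open scoped ComplexConjugate

/-- in a two element finite set, two elements different from a third one coincide -/
theorem eq_of_card_two {α : Type*} [DecidableEq α] (s : Finset α) (hs : s.card = 2)
    {a b c : α} (ha : a ∈ s) (hb : b ∈ s) (hc : c ∈ s) (hab : a ≠ b) (hcb : c ≠ b) : a = c := by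
  obtain ⟨u, v, huv, rfl⟩ := Finset.card_eq_two.mp hs
  simp only [Finset.mem_insert, Finset.mem_singleton] at ha hb hc
  rcases ha with ha | ha <;> rcases hb with hb | hb <;> rcases hc with hc | hc <;>
    first
    | exact ha.trans hc.symm
    | exact absurd (ha.trans hb.symm) hab
    | exact absurd (hc.trans hb.symm) hcb

/-- ten is not a prime power -/
theorem ten_ne_prime_pow (p : ℕ) (hp : p.Prime) (n : ℕ) : p ^ n ≠ 10 := by
  intro h
  have hn0 : n ≠ 0 := by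
    rintro rfl
    norm_num at h
  have h1 : p ∣ 2 * 5 := by
    have : p ∣ p ^ n := dvd_pow_self p hn0
    rw [h] at this
    exact this
  rcases (Nat.Prime.dvd_mul hp).mp h1 with h2 | h2
  · have hp2 : p = 2 := (Nat.prime_dvd_prime_iff_eq hp Nat.prime_two).mp h2
    rw [hp2] at h
    have h5 : 5 ∣ 2 ^ n := by
      rw [h]
      norm_num
    have := Nat.Prime.dvd_of_dvd_pow Nat.prime_five h5
    norm_num at this
  · have hp5 : p = 5 := (Nat.prime_dvd_prime_iff_eq hp Nat.prime_five).mp h2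
    rw [hp5] at h
    have h5 : 2 ∣ 5 ^ n := by
      rw [h]
      norm_num
    have := Nat.Prime.dvd_of_dvd_pow Nat.prime_two h5
    norm_num at this

section three

variable {G : Type*} [Group G] [Fintype G] {p : ℕ} [Fact p.Prime] {M : Ideal AlgInt}

/-- the principal block for an abelian Sylow subgroup whose normalizer acts as a Frobenius
group with complement of order three -/
theorem bl_three (hM : IsPModular p M) (P : Sylow p G) [IsMulCommutative P]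
    (hP1 : Nat.card P ≠ 1) (hm2 : 3 + 1 < Nat.card P)
    (hCN : (Subgroup.centralizer ((P : Subgroup G) : Set G)).relIndex
      (Subgroup.normalizer ((P : Subgroup G) : Set G)) = 3)
    (hfrob : ∀ y : G, y ∈ (P : Subgroup G) → y ≠ 1 →
      Subgroup.centralizer ({y} : Set G) ⊓ Subgroup.normalizer ((P : Subgroup G) : Set G)
        = Subgroup.centralizer ((P : Subgroup G) : Set G)) :
    ∃ (δ : ℤ) (a : IrrCharacter G → ℤ)
      (ζ : ((P : Subgroup G) →* ℂˣ) → IrrCharacter G) (Yf : Finset (IrrCharacter G))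
      (χ₂ χ₃ : IrrCharacter G),
      (δ = 1 ∨ δ = -1) ∧
      (∀ χ, χ ∈ principalBlock M G ↔
        (χ = Cfsg.Agent.Lib.Helper8.trivIrr G ∨ χ = χ₂ ∨ χ = χ₃ ∨ χ ∈ Yf)) ∧
      Cfsg.Agent.Lib.Helper8.trivIrr G ∉ Yf ∧ χ₂ ∉ Yf ∧ χ₃ ∉ Yf ∧
      χ₂ ≠ Cfsg.Agent.Lib.Helper8.trivIrr G ∧ χ₃ ≠ Cfsg.Agent.Lib.Helper8.trivIrr G ∧
      χ₂ ≠ χ₃ ∧
      Yf.card * 3 = Nat.card P - 1 ∧
      a (Cfsg.Agent.Lib.Helper8.trivIrr G) = 1 ∧ (a χ₂ = 1 ∨ a χ₂ = -1) ∧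
      (a χ₃ = 1 ∨ a χ₃ = -1) ∧
      (∀ η, η ∈ Yf ↔ ∃ ψ : (P : Subgroup G) →* ℂˣ, ψ ≠ 1 ∧ ζ ψ = η) ∧
      (∀ ψ ψ' : (P : Subgroup G) →* ℂˣ, ψ ≠ 1 → ψ' ≠ 1 →
        (ζ ψ = ζ ψ' ↔ ∃ x : Subgroup.normalizer ((P : Subgroup G) : Set G),
          ψ' = dualConj (P : Subgroup G) x ψ)) ∧
      (∀ χ : IrrCharacter G, (χ = Cfsg.Agent.Lib.Helper8.trivIrr G ∨ χ = χ₂ ∨ χ = χ₃) →
        ∀ y : (P : Subgroup G), y ≠ 1 → (χ : G → ℂ) (y : G) = (a χ : ℂ)) ∧
      (∀ ψ : (P : Subgroup G) →* ℂˣ, ψ ≠ 1 → ∀ y : (P : Subgroup G), y ≠ 1 →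
        (ζ ψ : G → ℂ) (y : G) = (δ : ℂ) *
          ∑ᶠ ψ' ∈ {ψ' : (P : Subgroup G) →* ℂˣ | ψ' ≠ 1 ∧ ζ ψ = ζ ψ'}, ((ψ' y : ℂˣ) : ℂ)) ∧
      (∀ χ ∈ principalBlock M G, ∀ z y : G, IsPPart p z y → y ∈ (P : Subgroup G) →
        y ≠ 1 → (χ : G → ℂ) z = (χ : G → ℂ) y) ∧
      (∀ η ∈ Yf, ∀ g : G, ¬ p ∣ orderOf g →
        1 + (a χ₂ : ℂ) * (χ₂ : G → ℂ) g + (a χ₃ : ℂ) * (χ₃ : G → ℂ) g
          - (δ : ℂ) * (η : G → ℂ) g = 0) := by
  classical
  have hp : p.Prime := Fact.out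
  have : Fintype (P : Subgroup G) := Fintype.ofFinite _
  have : Fintype ((P : Subgroup G) →* ℂˣ) := Fintype.ofFinite _
  obtain ⟨δ, d₀, C₀, ζ, Bf, Yf, hδ, hBf, hYf, hYB, hζR, hC₀Y, hYcard, hval, hsec, hreg, hYreg,
    hXne, htriv, hnorm, hex, hfib⟩ := bl_struct hM P hP1 3 (by norm_num) hm2 hCN hfrob
  have hδ2 : δ ^ 2 = 1 := by rcases hδ with rfl | rfl <;> norm_num
  have hδ0 : (δ : ℂ) ≠ 0 := by rcases hδ with rfl | rfl <;> norm_num
  push_cast at hnorm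
  have h1reg : ¬ p ∣ orderOf (1 : G) := by
    rw [orderOf_one]
    exact fun h => hp.one_lt.ne' (Nat.dvd_one.mp h)
  -- a nontrivial element
  have hnt : Nontrivial (P : Subgroup G) := by
    rw [← Finite.one_lt_card_iff_nontrivial]
    have h4 : 3 + 1 < Nat.card (P : Subgroup G) := hm2
    omega
  obtain ⟨y₀, hy₀⟩ := exists_ne (1 : (P : Subgroup G))
  -- the trivial character
  obtain ⟨htB, htY⟩ := Finset.mem_sdiff.mp htriv
  have hBtriv : Cfsg.Agent.Lib.Helper8.trivIrr G ∈ principalBlock M G := (hBf _).mp htB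
  -- values of the characters outside `Yf`
  have hvalX : ∀ χ ∈ Bf \ Yf, ∀ y : (P : Subgroup G), y ≠ 1 →
      (χ : G → ℂ) (y : G) = ((-C₀ χ : ℤ) : ℂ) := by
    intro χ hχ y hy
    obtain ⟨hχB, hχY⟩ := Finset.mem_sdiff.mp hχ
    have h := hval χ ((hBf χ).mp hχB) y hy
    have hempty : {ψ : (P : Subgroup G) →* ℂˣ | ψ ≠ 1 ∧ χ = ζ ψ} = ∅ :=
      Set.eq_empty_iff_forall_notMem.mpr
        (fun ψ h => hχY ((hYf _).mpr ⟨ψ, h.1, h.2.symm⟩))
    rw [hempty, finsum_mem_empty, mul_zero, add_zero] at h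
    rw [h]
    push_cast
    ring
  have hCt : C₀ (Cfsg.Agent.Lib.Helper8.trivIrr G) = -1 := by
    have h := hvalX _ htriv y₀ hy₀
    have h1 : ((Cfsg.Agent.Lib.Helper8.trivIrr G : IrrCharacter G) : G → ℂ) (y₀ : G) = 1 := rfl
    rw [h1] at h
    have h2 : ((C₀ (Cfsg.Agent.Lib.Helper8.trivIrr G) : ℤ) : ℂ) = ((-1 : ℤ) : ℂ) := by
      push_cast at h ⊢
      linear_combination h
    exact_mod_cast h2
  have hr2 : 2 ≤ Yf.card := by
    have h4 : 3 + 1 < Nat.card (P : Subgroup G) := hm2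
    have h5 : Yf.card * 3 = Nat.card (P : Subgroup G) - 1 := hYcard
    omega
  have hr2' : (2 : ℤ) ≤ (Yf.card : ℤ) := by exact_mod_cast hr2
  have hsplit : ∑ χ ∈ Bf \ Yf, C₀ χ ^ 2
      = 1 + ∑ χ ∈ (Bf \ Yf).erase (Cfsg.Agent.Lib.Helper8.trivIrr G), C₀ χ ^ 2 := by
    rw [← Finset.add_sum_erase (Bf \ Yf) _ htriv, hCt]
    norm_num
  have hpos : ∀ χ ∈ (Bf \ Yf).erase (Cfsg.Agent.Lib.Helper8.trivIrr G), 1 ≤ C₀ χ ^ 2 := by
    intro χ hχ
    have h0 := hXne χ (Finset.mem_of_mem_erase hχ)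
    have : 0 < C₀ χ ^ 2 := lt_of_le_of_ne (sq_nonneg _) (Ne.symm (pow_ne_zero 2 h0))
    linarith
  have hS0 : 0 ≤ ∑ χ ∈ (Bf \ Yf).erase (Cfsg.Agent.Lib.Helper8.trivIrr G), C₀ χ ^ 2 :=
    Finset.sum_nonneg (fun χ _ => sq_nonneg _)
  have hcase : d₀ = 0 ∨ (d₀ = -δ ∧ Yf.card ≤ 4) := by
    by_cases h0 : d₀ = 0
    · exact Or.inl h0
    · right
      have h1 : (Yf.card : ℤ) * d₀ ^ 2 + 2 * δ * d₀ ≤ 2 := by linarith
      have h2 : 0 ≤ (d₀ + δ) ^ 2 := sq_nonneg _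
      have h3 : d₀ ^ 2 ≤ 3 := by
        nlinarith [mul_le_mul_of_nonneg_right hr2' (sq_nonneg d₀)]
      have h4 : d₀ ≤ 1 := by nlinarith
      have h5 : -1 ≤ d₀ := by nlinarith
      have h6 : d₀ = 1 ∨ d₀ = -1 := by omega
      have h7 : d₀ ^ 2 = 1 := by rcases h6 with h | h <;> rw [h] <;> norm_num
      rw [h7] at h1
      have h8 : δ * d₀ = 1 ∨ δ * d₀ = -1 := by
        rcases hδ with h | h <;> rcases h6 with h' | h' <;> rw [h, h'] <;> norm_num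
      rcases h8 with h9 | h9
      · exfalso
        nlinarith
      · constructor
        · have : d₀ = δ ^ 2 * d₀ := by rw [hδ2, one_mul]
          rw [this]
          linear_combination δ * h9
        · have h10 : (Yf.card : ℤ) ≤ 4 := by nlinarith
          exact_mod_cast h10
  -- the relation on `p`-regular elements
  have hregX : ∀ η ∈ Yf, ∀ g : G, ¬ p ∣ orderOf g →
      ∑ χ ∈ Bf \ Yf, (C₀ χ : ℂ) * (χ : G → ℂ) g
        + (((Yf.card : ℤ) * d₀ + δ : ℤ) : ℂ) * (η : G → ℂ) g = 0 := by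
    intro η hη g hg
    obtain ⟨ψ, hψ, rfl⟩ := (hYf η).mp hη
    have h := hreg ψ hψ g hg
    rw [← Finset.sum_sdiff hYB, Finset.sum_congr rfl (fun χ hχ => by
        rw [hC₀Y χ hχ, hYreg χ hχ (ζ ψ) hη g hg] :
        ∀ χ ∈ Yf, (C₀ χ : ℂ) * (χ : G → ℂ) g = (d₀ : ℂ) * (ζ ψ : G → ℂ) g),
      Finset.sum_const, nsmul_eq_mul] at h
    push_cast
    linear_combination h
  -- exclusion of the exceptional configurations
  have hS3 : ∑ χ ∈ (Bf \ Yf).erase (Cfsg.Agent.Lib.Helper8.trivIrr G), C₀ χ ^ 2 = 2 ∧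
      (d₀ = 0 ∨ (d₀ = -δ ∧ Yf.card = 2)) := by
    rcases hcase with h0 | ⟨hd, hr4⟩
    · rw [h0] at hnorm
      refine ⟨?_, Or.inl h0⟩
      push_cast at hnorm
      linarith
    · have hr' : Yf.card = 2 ∨ Yf.card = 3 ∨ Yf.card = 4 := by omega
      rcases hr' with h2 | h3 | h4
      · refine ⟨?_, Or.inr ⟨hd, h2⟩⟩
        rw [hd, h2] at hnorm
        push_cast at hnorm
        nlinarith
      · exfalso
        obtain ⟨n, hn⟩ := (P.isPGroup').exists_card_eq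
        have h5 : Yf.card * 3 = Nat.card (P : Subgroup G) - 1 := hYcard
        have h6 : Nat.card (P : Subgroup G) = 10 := by omega
        exact ten_ne_prime_pow p hp n (hn.symm.trans h6)
      · exfalso
        have hz : ∑ χ ∈ (Bf \ Yf).erase (Cfsg.Agent.Lib.Helper8.trivIrr G), C₀ χ ^ 2 = 0 := by
          rw [hd, h4] at hnorm
          push_cast at hnorm
          nlinarith
        have hemp : (Bf \ Yf).erase (Cfsg.Agent.Lib.Helper8.trivIrr G) = ∅ := by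
          by_contra hne
          obtain ⟨χ, hχ⟩ := Finset.nonempty_iff_ne_empty.mpr hne
          have h1 : C₀ χ ^ 2
              ≤ ∑ χ ∈ (Bf \ Yf).erase (Cfsg.Agent.Lib.Helper8.trivIrr G), C₀ χ ^ 2 :=
            Finset.single_le_sum (f := fun χ => C₀ χ ^ 2)
              (fun χ _ => sq_nonneg (C₀ χ)) hχ
          have h2 := hpos χ hχ
          linarith
        obtain ⟨η, hη⟩ : ∃ η, η ∈ Yf := by
          apply Finset.card_pos.mp
          omega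
        have h := hregX η hη 1 h1reg
        rw [← Finset.add_sum_erase (Bf \ Yf) _ htriv, hemp, Finset.sum_empty, hCt, hd, h4] at h
        obtain ⟨d, hd1, hd2, -, -⟩ := irr_degree η
        rw [hd1] at h
        have h1 : ((Cfsg.Agent.Lib.Helper8.trivIrr G : IrrCharacter G) : G → ℂ) 1 = 1 := rfl
        rw [h1] at h
        have h2 : (-1 : ℤ) - 3 * δ * (d : ℤ) = 0 := by
          have h3 : (((-1 : ℤ) - 3 * δ * (d : ℤ) : ℤ) : ℂ) = 0 := by
            push_cast at h ⊢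
            linear_combination h
          exact_mod_cast h3
        rcases hδ with h | h <;> rw [h] at h2 <;> omega
  obtain ⟨hS2, hcase2⟩ := hS3
  -- the two further characters
  have hcard2 : ((Bf \ Yf).erase (Cfsg.Agent.Lib.Helper8.trivIrr G)).card = 2 := by
    have hle : (((Bf \ Yf).erase (Cfsg.Agent.Lib.Helper8.trivIrr G)).card : ℤ) ≤ 2 := by
      have h := Finset.card_nsmul_le_sum ((Bf \ Yf).erase (Cfsg.Agent.Lib.Helper8.trivIrr G))
        (fun χ => C₀ χ ^ 2) 1 hpos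
      rw [hS2] at h
      simpa using h
    have hle' : ((Bf \ Yf).erase (Cfsg.Agent.Lib.Helper8.trivIrr G)).card ≤ 2 := by
      exact_mod_cast hle
    have hne0 : ((Bf \ Yf).erase (Cfsg.Agent.Lib.Helper8.trivIrr G)).card ≠ 0 := by
      intro h0
      rw [Finset.card_eq_zero] at h0
      rw [h0, Finset.sum_empty] at hS2
      norm_num at hS2
    have hne1 : ((Bf \ Yf).erase (Cfsg.Agent.Lib.Helper8.trivIrr G)).card ≠ 1 := by
      intro h1
      obtain ⟨χ, hχ⟩ := Finset.card_eq_one.mp h1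
      rw [hχ, Finset.sum_singleton] at hS2
      have h3 : C₀ χ ≤ 1 := by nlinarith
      have h4 : -1 ≤ C₀ χ := by nlinarith
      have h5 : C₀ χ = -1 ∨ C₀ χ = 0 ∨ C₀ χ = 1 := by omega
      rcases h5 with h | h | h <;> rw [h] at hS2 <;> norm_num at hS2
    omega
  obtain ⟨χ₂, χ₃, h23, hpair⟩ := Finset.card_eq_two.mp hcard2
  have hχ₂mem : χ₂ ∈ (Bf \ Yf).erase (Cfsg.Agent.Lib.Helper8.trivIrr G) := by
    rw [hpair]
    exact Finset.mem_insert_self _ _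
  have hχ₃mem : χ₃ ∈ (Bf \ Yf).erase (Cfsg.Agent.Lib.Helper8.trivIrr G) := by
    rw [hpair]
    exact Finset.mem_insert_of_mem (Finset.mem_singleton_self _)
  have hχ₂X : χ₂ ∈ Bf \ Yf := Finset.mem_of_mem_erase hχ₂mem
  have hχ₃X : χ₃ ∈ Bf \ Yf := Finset.mem_of_mem_erase hχ₃mem
  have hχ₂t : χ₂ ≠ Cfsg.Agent.Lib.Helper8.trivIrr G := Finset.ne_of_mem_erase hχ₂mem
  have hχ₃t : χ₃ ≠ Cfsg.Agent.Lib.Helper8.trivIrr G := Finset.ne_of_mem_erase hχ₃mem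
  have hsq : C₀ χ₂ ^ 2 + C₀ χ₃ ^ 2 = 2 := by
    rw [hpair, Finset.sum_pair h23] at hS2
    exact hS2
  have hC₂ : C₀ χ₂ = 1 ∨ C₀ χ₂ = -1 := by
    have h1 := hpos χ₂ hχ₂mem
    have h2 := hpos χ₃ hχ₃mem
    have h3 : C₀ χ₂ ≤ 1 := by nlinarith
    have h4 : -1 ≤ C₀ χ₂ := by nlinarith
    have h5 := hXne χ₂ hχ₂X
    omega
  have hC₃ : C₀ χ₃ = 1 ∨ C₀ χ₃ = -1 := by
    have h1 := hpos χ₂ hχ₂mem
    have h2 := hpos χ₃ hχ₃mem
    have h3 : C₀ χ₃ ≤ 1 := by nlinarith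
    have h4 : -1 ≤ C₀ χ₃ := by nlinarith
    have h5 := hXne χ₃ hχ₃X
    omega
  have hXmem : ∀ χ, χ ∈ Bf \ Yf ↔
      (χ = Cfsg.Agent.Lib.Helper8.trivIrr G ∨ χ = χ₂ ∨ χ = χ₃) := by
    intro χ
    constructor
    · intro hχ
      by_cases ht : χ = Cfsg.Agent.Lib.Helper8.trivIrr G
      · exact Or.inl ht
      · right
        have hmem : χ ∈ (Bf \ Yf).erase (Cfsg.Agent.Lib.Helper8.trivIrr G) :=
          Finset.mem_erase.mpr ⟨ht, hχ⟩
        rw [hpair] at hmem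
        simpa using hmem
    · rintro (rfl | rfl | rfl)
      · exact htriv
      · exact hχ₂X
      · exact hχ₃X
  have hBmem : ∀ χ, χ ∈ principalBlock M G ↔
      (χ = Cfsg.Agent.Lib.Helper8.trivIrr G ∨ χ = χ₂ ∨ χ = χ₃ ∨ χ ∈ Yf) := by
    intro χ
    rw [← hBf]
    constructor
    · intro hχ
      by_cases hY : χ ∈ Yf
      · exact Or.inr (Or.inr (Or.inr hY))
      · rcases (hXmem χ).mp (Finset.mem_sdiff.mpr ⟨hχ, hY⟩) with h | h | h
        · exact Or.inl h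
        · exact Or.inr (Or.inl h)
        · exact Or.inr (Or.inr (Or.inl h))
    · rintro (h | h | h | h)
      · exact (Finset.mem_sdiff.mp ((hXmem χ).mpr (Or.inl h))).1
      · exact (Finset.mem_sdiff.mp ((hXmem χ).mpr (Or.inr (Or.inl h)))).1
      · exact (Finset.mem_sdiff.mp ((hXmem χ).mpr (Or.inr (Or.inr h)))).1
      · exact hYB h
  have hregX' : ∀ η ∈ Yf, ∀ g : G, ¬ p ∣ orderOf g →
      1 + ((-C₀ χ₂ : ℤ) : ℂ) * (χ₂ : G → ℂ) g + ((-C₀ χ₃ : ℤ) : ℂ) * (χ₃ : G → ℂ) g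
        - (((Yf.card : ℤ) * d₀ + δ : ℤ) : ℂ) * (η : G → ℂ) g = 0 := by
    intro η hη g hg
    have h := hregX η hη g hg
    rw [← Finset.add_sum_erase (Bf \ Yf) _ htriv, hpair, Finset.sum_pair h23, hCt] at h
    have h1 : ((Cfsg.Agent.Lib.Helper8.trivIrr G : IrrCharacter G) : G → ℂ) g = 1 := rfl
    rw [h1] at h
    push_cast at h ⊢
    linear_combination -h
  have ha₂ : (-C₀ χ₂ = 1 ∨ -C₀ χ₂ = -1) := by
    rcases hC₂ with h | h
    · exact Or.inr (by rw [h])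
    · exact Or.inl (by rw [h]; norm_num)
  have ha₃ : (-C₀ χ₃ = 1 ∨ -C₀ χ₃ = -1) := by
    rcases hC₃ with h | h
    · exact Or.inr (by rw [h])
    · exact Or.inl (by rw [h]; norm_num)
  have hvalX' : ∀ χ : IrrCharacter G,
      (χ = Cfsg.Agent.Lib.Helper8.trivIrr G ∨ χ = χ₂ ∨ χ = χ₃) →
      ∀ y : (P : Subgroup G), y ≠ 1 → (χ : G → ℂ) (y : G) = ((-C₀ χ : ℤ) : ℂ) :=
    fun χ hχ y hy => hvalX χ ((hXmem χ).mpr hχ) y hy
  rcases hcase2 with hd0 | ⟨hd, hr2''⟩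
  · -- the generic case
    refine ⟨δ, fun χ => -C₀ χ, ζ, Yf, χ₂, χ₃, hδ, hBmem, htY,
      (Finset.mem_sdiff.mp hχ₂X).2, (Finset.mem_sdiff.mp hχ₃X).2, hχ₂t, hχ₃t, h23, hYcard,
      by show -C₀ _ = 1; rw [hCt]; norm_num, ha₂, ha₃, hYf, hζR, hvalX', ?_, hsec, ?_⟩
    · intro ψ hψ y hy
      have hζB : ζ ψ ∈ principalBlock M G := (hBf _).mp (hYB ((hYf _).mpr ⟨ψ, hψ, rfl⟩))
      rw [hval (ζ ψ) hζB y hy, hC₀Y _ ((hYf _).mpr ⟨ψ, hψ, rfl⟩), hd0]
      push_cast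
      ring
    · intro η hη g hg
      have h := hregX' η hη g hg
      rw [hd0] at h
      simpa using h
  · -- the case of two exceptional characters, where the roles are exchanged
    have hσ : ∀ ψ : (P : Subgroup G) →* ℂˣ, ∃ ψ' : (P : Subgroup G) →* ℂˣ,
        ψ ≠ 1 → (ψ' ≠ 1 ∧ ζ ψ' ≠ ζ ψ) := by
      intro ψ
      by_cases h : ψ = 1
      · exact ⟨1, fun h' => absurd h h'⟩
      · obtain ⟨ψ', h1, h2⟩ := hex ψ h
        exact ⟨ψ', fun _ => ⟨h1, h2⟩⟩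
    choose σ hσ using hσ
    have hmemY : ∀ ψ : (P : Subgroup G) →* ℂˣ, ψ ≠ 1 → ζ ψ ∈ Yf :=
      fun ψ hψ => (hYf _).mpr ⟨ψ, hψ, rfl⟩
    have hother : ∀ ψ ψ' : (P : Subgroup G) →* ℂˣ, ψ ≠ 1 → ψ' ≠ 1 →
        (ζ (σ ψ) = ζ (σ ψ') ↔ ζ ψ = ζ ψ') := by
      intro ψ ψ' hψ hψ'
      obtain ⟨h1, h2⟩ := hσ ψ hψ
      obtain ⟨h1', h2'⟩ := hσ ψ' hψ'
      constructor
      · intro h
        by_contra hne
        have e1 : ζ (σ ψ) = ζ ψ' :=
          eq_of_card_two Yf hr2'' (hmemY _ h1) (hmemY _ hψ) (hmemY _ hψ') h2 (Ne.symm hne)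
        have e2 : ζ (σ ψ') = ζ ψ :=
          eq_of_card_two Yf hr2'' (hmemY _ h1') (hmemY _ hψ') (hmemY _ hψ) h2' hne
        exact hne (e2.symm.trans (h.symm.trans e1))
      · intro h
        exact eq_of_card_two Yf hr2'' (hmemY _ h1) (hmemY _ hψ) (hmemY _ h1') h2
          (by rw [h]; exact h2')
    refine ⟨-δ, fun χ => -C₀ χ, fun ψ => ζ (σ ψ), Yf, χ₂, χ₃, ?_, hBmem, htY,
      (Finset.mem_sdiff.mp hχ₂X).2, (Finset.mem_sdiff.mp hχ₃X).2, hχ₂t, hχ₃t, h23, hYcard,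
      by show -C₀ _ = 1; rw [hCt]; norm_num, ha₂, ha₃, ?_, ?_, hvalX', ?_, hsec, ?_⟩
    · rcases hδ with h | h
      · exact Or.inr (by rw [h])
      · exact Or.inl (by rw [h]; norm_num)
    · intro η
      constructor
      · intro hη
        obtain ⟨ψ₀, hψ₀, rfl⟩ := (hYf η).mp hη
        obtain ⟨h1, h2⟩ := hσ ψ₀ hψ₀
        obtain ⟨h1', h2'⟩ := hσ (σ ψ₀) h1
        exact ⟨σ ψ₀, h1, eq_of_card_two Yf hr2'' (hmemY _ h1') (hmemY _ h1) (hmemY _ hψ₀)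
          h2' (Ne.symm h2)⟩
      · rintro ⟨ψ, hψ, rfl⟩
        exact hmemY _ (hσ ψ hψ).1
    · intro ψ ψ' hψ hψ'
      show ζ (σ ψ) = ζ (σ ψ') ↔ _
      rw [hother ψ ψ' hψ hψ']
      exact hζR ψ ψ' hψ hψ'
    · intro ψ hψ y hy
      obtain ⟨h1, h2⟩ := hσ ψ hψ
      show (ζ (σ ψ) : G → ℂ) (y : G) = _
      have hζB : ζ (σ ψ) ∈ principalBlock M G := (hBf _).mp (hYB (hmemY _ h1))
      rw [hval (ζ (σ ψ)) hζB y hy, hC₀Y _ (hmemY _ h1), hd]
      -- the two sums add up to the sum over all nontrivial characters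
      have hsum : ∑ᶠ ψ' ∈ {ψ' : (P : Subgroup G) →* ℂˣ | ψ' ≠ 1 ∧ ζ (σ ψ) = ζ ψ'},
            ((ψ' y : ℂˣ) : ℂ)
          + ∑ᶠ ψ' ∈ {ψ' : (P : Subgroup G) →* ℂˣ | ψ' ≠ 1 ∧ ζ (σ ψ) = ζ (σ ψ')},
            ((ψ' y : ℂˣ) : ℂ) = -1 := by
        rw [finsum_mem_eq_sum_indicator, finsum_mem_eq_sum_indicator, ← Finset.sum_add_distrib]
        have hall := sum_hom_apply (A := (P : Subgroup G)) y
        rw [if_neg hy] at hall
        have e : ∀ ψ' : (P : Subgroup G) →* ℂˣ,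
            Set.indicator {ψ' : (P : Subgroup G) →* ℂˣ | ψ' ≠ 1 ∧ ζ (σ ψ) = ζ ψ'}
              (fun ψ' => ((ψ' y : ℂˣ) : ℂ)) ψ'
            + Set.indicator {ψ' : (P : Subgroup G) →* ℂˣ | ψ' ≠ 1 ∧ ζ (σ ψ) = ζ (σ ψ')}
              (fun ψ' => ((ψ' y : ℂˣ) : ℂ)) ψ'
            = ((ψ' y : ℂˣ) : ℂ) - (if ψ' = 1 then 1 else 0) := by
          intro ψ'
          rw [Set.indicator_apply, Set.indicator_apply]
          by_cases h1' : ψ' = 1
          · rw [if_neg (fun h => h.1 h1'), if_neg (fun h => h.1 h1'), if_pos h1', h1']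
            simp
          · rw [if_neg h1']
            by_cases hc : ζ (σ ψ) = ζ ψ'
            · have hc' : ¬ ζ (σ ψ) = ζ (σ ψ') := by
                rw [hother ψ ψ' hψ h1']
                intro h
                exact h2 (hc.trans h.symm)
              rw [if_pos ⟨h1', hc⟩, if_neg (fun h => hc' h.2)]
              ring
            · have hc' : ζ (σ ψ) = ζ (σ ψ') := by
                rw [hother ψ ψ' hψ h1']
                exact (eq_of_card_two Yf hr2'' (hmemY _ hψ) (hmemY _ h1) (hmemY _ h1')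
                  (Ne.symm h2) (Ne.symm hc))
              rw [if_neg (fun h => hc h.2), if_pos ⟨h1', hc'⟩]
              ring
        rw [Finset.sum_congr rfl (fun ψ' _ => e ψ'), Finset.sum_sub_distrib, hall,
          Finset.sum_ite_eq' Finset.univ (1 : (P : Subgroup G) →* ℂˣ) (fun _ => (1 : ℂ)),
          if_pos (Finset.mem_univ _)]
        ring
      push_cast
      linear_combination (δ : ℂ) * hsum
    · intro η hη g hg
      have h := hregX' η hη g hg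
      rw [hd, hr2''] at h
      push_cast at h ⊢
      linear_combination h

end three

end Cfsg.Agent.Lib.Helper24
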