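import Mathlib
import Cfsg.Prelude.Def_Blocks
import Cfsg.Agent.Lib.Helper24.BLThree
import Cfsg.Agent.Lib.Helper24.BLAlg
import Cfsg.Agent.Lib.Helper25.InvolSums

set_option autoImplicit false

namespace Cfsg.Agent.Lib.Helper24

open Cfsg Cfsg.Agent.Lib.Helper2 Cfsg.Agent.Lib.Helper8 Cfsg.Agent.Lib.Helper25

open scoped ComplexConjugate

/-- the value of an irreducible character at an involution is an integer -/
theorem invol_value_int {G : Type*} [Group G] (χ : IrrCharacter G) (t : G) (ht : t * t = 1) :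
    ∃ c : ℤ, (χ : G → ℂ) t = (c : ℂ) := by
  obtain ⟨n, ρ, hρ, hχ⟩ := χ.2
  have h2 : ρ t * ρ t = 1 := by rw [← map_mul, ht, map_one]
  obtain ⟨e, he⟩ : ∃ e : Module.End ℂ (Fin n → ℂ), e = (1 / 2 : ℂ) • (1 + ρ t) := ⟨_, rfl⟩
  have hid : IsIdempotentElem e := by
    show e * e = e
    have hsq : (1 + ρ t) * (1 + ρ t) = (2 : ℂ) • (1 + ρ t) := by
      have h3 : (1 + ρ t) * (1 + ρ t) = 1 + ρ t + ρ t + ρ t * ρ t := by noncomm_ring
      rw [h3, h2, two_smul]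
      abel
    rw [he, smul_mul_smul_comm, hsq, smul_smul]
    norm_num
  have htr := (LinearMap.IsIdempotentElem.isProj_range e hid).trace
  have h3 : LinearMap.trace ℂ (Fin n → ℂ) (ρ t)
      = 2 * LinearMap.trace ℂ (Fin n → ℂ) e - (n : ℂ) := by
    rw [he, map_smul, map_add, LinearMap.trace_one, Module.finrank_fin_fun]
    simp only [smul_eq_mul]
    ring
  refine ⟨2 * (Module.finrank ℂ (LinearMap.range e) : ℤ) - n, ?_⟩
  rw [← hχ]
  show LinearMap.trace ℂ (Fin n → ℂ) (ρ t) = _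
  rw [h3, htr]
  push_cast
  ring

/-- an element lying in no proper normal subgroup is not in the kernel of a nontrivial
irreducible character -/
theorem not_ker_of_top {G : Type*} [Group G] [Fintype G] (χ : IrrCharacter G)
    (hne : (χ : G → ℂ) ≠ fun _ => 1) (t : G)
    (hK : ∀ K : Subgroup G, K.Normal → t ∈ K → K = ⊤) :
    (χ : G → ℂ) t ≠ (χ : G → ℂ) 1 := by
  intro ht
  obtain ⟨K, hKn, hKmem⟩ := Cfsg.Agent.S4646.exists_ker χ
  have htop := hK K hKn ((hKmem t).mpr ht)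
  apply hne
  have hall : ∀ g, (χ : G → ℂ) g = (χ : G → ℂ) 1 := fun g =>
    (hKmem g).mp (htop ▸ Subgroup.mem_top g)
  have h1 := classInner_irr χ.2 (isIrrCharacter_one (G := G))
  have hcne := card_ne_zero_complex G
  have h2 : classInner (χ : G → ℂ) (fun _ => 1) = (χ : G → ℂ) 1 := by
    rw [classInner_def]
    simp only [hall, map_one, mul_one, Finset.sum_const, Finset.card_univ, nsmul_eq_mul]
    rw [← Nat.card_eq_fintype_card]
    field_simp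
  rw [h2] at h1
  by_contra he
  rw [if_neg he] at h1
  exact irr_one_ne_zero χ.2 h1

/-- an element of `P` inverted by some element of the group has square one, when the
normalizer acts freely with a quotient of order three -/
theorem inverted_sq {G : Type*} [Group G] [Finite G] {p : ℕ} [Fact p.Prime] (P : Sylow p G)
    [IsMulCommutative P]
    (hCN : (Subgroup.centralizer ((P : Subgroup G) : Set G)).relIndex
      (Subgroup.normalizer ((P : Subgroup G) : Set G)) = 3)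
    (hfrob : ∀ y : G, y ∈ (P : Subgroup G) → y ≠ 1 →
      Subgroup.centralizer ({y} : Set G) ⊓ Subgroup.normalizer ((P : Subgroup G) : Set G)
        = Subgroup.centralizer ((P : Subgroup G) : Set G))
    (y : G) (hy : y ∈ (P : Subgroup G)) (a : G) (ha : a * y * a⁻¹ = y⁻¹) : y * y = 1 := by
  have : Fintype G := Fintype.ofFinite G
  by_cases hy1 : y = 1
  · rw [hy1, one_mul]
  have hinvP : a * y * a⁻¹ ∈ (P : Subgroup G) := by
    rw [ha]
    exact inv_mem hy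
  obtain ⟨n, hn, hn'⟩ := fusion_abelian_sylow P y a hy hinvP
  rw [ha] at hn'
  have hfix := hfix_of_hfrob P hfrob
  have hn2 : n * n ∈ Subgroup.centralizer ((P : Subgroup G) : Set G) := by
    apply hfix (n * n) (mul_mem hn hn) y hy hy1
    calc n * n * y * (n * n)⁻¹ = n * (n * y * n⁻¹) * n⁻¹ := by group
      _ = n * y⁻¹ * n⁻¹ := by rw [hn']
      _ = (n * y * n⁻¹)⁻¹ := by group
      _ = y := by rw [hn', inv_inv]
  have hn3 : n ^ 3 ∈ Subgroup.centralizer ((P : Subgroup G) : Set G) := by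
    have h := Subgroup.pow_index_mem
      ((Subgroup.centralizer ((P : Subgroup G) : Set G)).subgroupOf
        (Subgroup.normalizer ((P : Subgroup G) : Set G)))
      (⟨n, hn⟩ : Subgroup.normalizer ((P : Subgroup G) : Set G))
    have hidx : ((Subgroup.centralizer ((P : Subgroup G) : Set G)).subgroupOf
        (Subgroup.normalizer ((P : Subgroup G) : Set G))).index = 3 := hCN
    rw [hidx] at h
    exact Subgroup.mem_subgroupOf.mp h
  have hnC : n ∈ Subgroup.centralizer ((P : Subgroup G) : Set G) := by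
    have e : n = n ^ 3 * (n * n)⁻¹ := by group
    rw [e]
    exact mul_mem hn3 (inv_mem hn2)
  have hcomm : y * n = n * y := Subgroup.mem_centralizer_iff.mp hnC y hy
  have hinv : y⁻¹ = y := by
    rw [← hn', ← hcomm, mul_inv_cancel_right]
  calc y * y = y⁻¹ * y := by rw [hinv]
    _ = 1 := inv_mul_cancel y

/-- splitting a sum over a block consisting of three characters and a finite set -/
theorem block_sum_split {G : Type*} [Group G] [Fintype (IrrCharacter G)]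
    [DecidableEq (IrrCharacter G)]
    (B : Set (IrrCharacter G)) [DecidablePred (· ∈ B)] (χ₁ χ₂ χ₃ : IrrCharacter G)
    (Yf : Finset (IrrCharacter G))
    (hBmem : ∀ χ, χ ∈ B ↔ (χ = χ₁ ∨ χ = χ₂ ∨ χ = χ₃ ∨ χ ∈ Yf))
    (h1Y : χ₁ ∉ Yf) (h2Y : χ₂ ∉ Yf) (h3Y : χ₃ ∉ Yf) (h21 : χ₂ ≠ χ₁) (h31 : χ₃ ≠ χ₁)
    (h23 : χ₂ ≠ χ₃) (f : IrrCharacter G → ℂ) :
    ∑ χ : IrrCharacter G, (if χ ∈ B then f χ else 0)
      = f χ₁ + f χ₂ + f χ₃ + ∑ η ∈ Yf, f η := by
  have hT : ∀ χ, χ ∈ insert χ₁ (insert χ₂ (insert χ₃ Yf)) ↔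
      (χ = χ₁ ∨ χ = χ₂ ∨ χ = χ₃ ∨ χ ∈ Yf) := by
    intro χ
    simp only [Finset.mem_insert]
  have e1 : ∑ χ : IrrCharacter G, (if χ ∈ B then f χ else 0)
      = ∑ χ ∈ insert χ₁ (insert χ₂ (insert χ₃ Yf)), (if χ ∈ B then f χ else 0) := by
    symm
    apply Finset.sum_subset (Finset.subset_univ _)
    intro χ _ hχ
    rw [if_neg]
    intro hB
    exact hχ ((hT χ).mpr ((hBmem χ).mp hB))
  have e2 : ∑ χ ∈ insert χ₁ (insert χ₂ (insert χ₃ Yf)), (if χ ∈ B then f χ else 0)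
      = ∑ χ ∈ insert χ₁ (insert χ₂ (insert χ₃ Yf)), f χ :=
    Finset.sum_congr rfl (fun χ hχ => if_pos ((hBmem χ).mpr ((hT χ).mp hχ)))
  rw [e1, e2, Finset.sum_insert, Finset.sum_insert, Finset.sum_insert h3Y]
  · ring
  · simp only [Finset.mem_insert, not_or]
    exact ⟨h23, h2Y⟩
  · simp only [Finset.mem_insert, not_or]
    exact ⟨Ne.symm h21, Ne.symm h31, h1Y⟩

section odd

variable {G : Type*} [Group G] [Fintype G] {p : ℕ} [Fact p.Prime] {M : Ideal AlgInt}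

/-- the elements of a Sylow subgroup have prime power order -/
theorem sylow_orderOf (P : Sylow p G) (y : G) (hy : y ∈ (P : Subgroup G)) :
    ∃ k : ℕ, orderOf y = p ^ k := by
  have hp : p.Prime := Fact.out
  obtain ⟨k, hk⟩ := (P.isPGroup') ⟨y, hy⟩
  have h1 : y ^ p ^ k = 1 := by
    have := congrArg Subtype.val hk
    simpa using this
  obtain ⟨j, -, hj⟩ := (Nat.dvd_prime_pow hp).mp (orderOf_dvd_of_pow_eq_one h1)
  exact ⟨j, hj⟩

/-- the involution part of the structure of the principal block, odd case -/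
theorem bl_three_odd (hM : IsPModular p M) (P : Sylow p G) [IsMulCommutative P]
    (hp2 : p ≠ 2)
    (hCN : (Subgroup.centralizer ((P : Subgroup G) : Set G)).relIndex
      (Subgroup.normalizer ((P : Subgroup G) : Set G)) = 3)
    (hfrob : ∀ y : G, y ∈ (P : Subgroup G) → y ≠ 1 →
      Subgroup.centralizer ({y} : Set G) ⊓ Subgroup.normalizer ((P : Subgroup G) : Set G)
        = Subgroup.centralizer ((P : Subgroup G) : Set G))
    (δ a₂ a₃ : ℤ) (Yf : Finset (IrrCharacter G)) (χ₂ χ₃ : IrrCharacter G)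
    (hδ : δ = 1 ∨ δ = -1) (ha₂ : a₂ = 1 ∨ a₂ = -1) (ha₃ : a₃ = 1 ∨ a₃ = -1)
    (hBmem : ∀ χ, χ ∈ principalBlock M G ↔
      (χ = Cfsg.Agent.Lib.Helper8.trivIrr G ∨ χ = χ₂ ∨ χ = χ₃ ∨ χ ∈ Yf))
    (htY : Cfsg.Agent.Lib.Helper8.trivIrr G ∉ Yf) (h2Y : χ₂ ∉ Yf) (h3Y : χ₃ ∉ Yf)
    (h2t : χ₂ ≠ Cfsg.Agent.Lib.Helper8.trivIrr G)
    (h3t : χ₃ ≠ Cfsg.Agent.Lib.Helper8.trivIrr G) (h23 : χ₂ ≠ χ₃)
    (hv₂ : ∀ y : (P : Subgroup G), y ≠ 1 → (χ₂ : G → ℂ) (y : G) = (a₂ : ℂ))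
    (hv₃ : ∀ y : (P : Subgroup G), y ≠ 1 → (χ₃ : G → ℂ) (y : G) = (a₃ : ℂ))
    (hreg : ∀ η ∈ Yf, ∀ g : G, ¬ p ∣ orderOf g →
      1 + (a₂ : ℂ) * (χ₂ : G → ℂ) g + (a₃ : ℂ) * (χ₃ : G → ℂ) g
        - (δ : ℂ) * (η : G → ℂ) g = 0)
    (hYne : Yf.Nonempty) (y₀ : (P : Subgroup G)) (hy₀ : y₀ ≠ 1)
    (t : G) (ht : orderOf t = 2) (hK : ∀ K : Subgroup G, K.Normal → t ∈ K → K = ⊤) :
    ((if a₂ = -1 then 1 else 0) + (if a₃ = -1 then 1 else 0) + (if δ = 1 then 1 else 0) = 2) ∧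
    ∀ η ∈ Yf, IsSquare (charDegree (η : G → ℂ)
      * (charDegree (χ₂ : G → ℂ) * charDegree (χ₃ : G → ℂ))) := by
  classical
  have hp : p.Prime := Fact.out
  have : Fintype (IrrCharacter G) := Fintype.ofFinite _
  have hB : IsPBlock M (principalBlock M G) := ⟨Cfsg.Agent.Lib.Helper8.trivIrr G, rfl⟩
  have h1reg : ¬ p ∣ orderOf (1 : G) := by
    rw [orderOf_one]
    exact fun h => hp.one_lt.ne' (Nat.dvd_one.mp h)
  have htt : t * t = 1 := by
    have h := pow_orderOf_eq_one t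
    rw [ht, pow_two] at h
    exact h
  have htreg : ¬ p ∣ orderOf t := by
    rw [ht]
    intro h
    exact hp2 ((Nat.prime_dvd_prime_iff_eq hp Nat.prime_two).mp h)
  have hδ0 : (δ : ℂ) ≠ 0 := by rcases hδ with rfl | rfl <;> norm_num
  have hδ' : -δ = 1 ∨ -δ = -1 := by
    rcases hδ with h | h
    · exact Or.inr (by rw [h])
    · exact Or.inl (by rw [h]; norm_num)
  have hy₀P : (y₀ : G) ∈ (P : Subgroup G) := y₀.2
  have hy₀1 : (y₀ : G) ≠ 1 := fun h => hy₀ (Subtype.ext h)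
  have hy₀pow : ∃ k : ℕ, orderOf (y₀ : G) = p ^ k := sylow_orderOf P _ hy₀P
  have hninv : ∀ g : G, (g * t * g⁻¹) * (y₀ : G) * (g * t * g⁻¹)⁻¹ ≠ (y₀ : G)⁻¹ := by
    intro g hg
    have hsq := inverted_sq P hCN hfrob (y₀ : G) hy₀P _ hg
    obtain ⟨k, hk⟩ := hy₀pow
    have hdvd : orderOf (y₀ : G) ∣ 2 :=
      orderOf_dvd_of_pow_eq_one (by rw [pow_two]; exact hsq)
    rw [hk] at hdvd
    have hk0 : k = 0 := by
      by_contra hk0
      have h2 : p ∣ 2 := dvd_trans (dvd_pow_self p hk0) hdvd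
      exact hp2 ((Nat.prime_dvd_prime_iff_eq hp Nat.prime_two).mp h2)
    rw [hk0, pow_zero] at hk
    exact hy₀1 (orderOf_eq_one_iff.mp hk)
  have hsplit := block_sum_split (principalBlock M G) (Cfsg.Agent.Lib.Helper8.trivIrr G)
    χ₂ χ₃ Yf hBmem htY h2Y h3Y h2t h3t h23
  have hχ₂ne : (χ₂ : G → ℂ) ≠ fun _ => 1 := by
    intro h
    exact h2t (Subtype.ext h)
  have e1 : ∀ g : G, ((Cfsg.Agent.Lib.Helper8.trivIrr G : IrrCharacter G) : G → ℂ) g = 1 :=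
    fun _ => rfl
  have main : ∀ η ∈ Yf,
      ((if a₂ = -1 then 1 else 0) + (if a₃ = -1 then 1 else 0) + (if δ = 1 then 1 else 0) = 2) ∧
      IsSquare (charDegree (η : G → ℂ)
        * (charDegree (χ₂ : G → ℂ) * charDegree (χ₃ : G → ℂ))) := by
    intro η hη
    obtain ⟨x₂, hx₂, hx₂pos, -, hd₂⟩ := irr_degree χ₂
    obtain ⟨x₃, hx₃, hx₃pos, -, hd₃⟩ := irr_degree χ₃
    obtain ⟨x₄, hx₄, hx₄pos, -, hd₄⟩ := irr_degree η
    obtain ⟨c₂, hc₂⟩ := invol_value_int χ₂ t htt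
    obtain ⟨c₃, hc₃⟩ := invol_value_int χ₃ t htt
    obtain ⟨c₄, hc₄⟩ := invol_value_int η t htt
    have hx₂0 : (x₂ : ℂ) ≠ 0 := by exact_mod_cast hx₂pos.ne'
    have hx₃0 : (x₃ : ℂ) ≠ 0 := by exact_mod_cast hx₃pos.ne'
    have hx₄0 : (x₄ : ℂ) ≠ 0 := by exact_mod_cast hx₄pos.ne'
    have hYreg : ∀ η' ∈ Yf, ∀ g : G, ¬ p ∣ orderOf g →
        (η' : G → ℂ) g = (η : G → ℂ) g := by
      intro η' hη' g hg
      have h1 := hreg η hη g hg
      have h2 := hreg η' hη' g hg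
      apply mul_left_cancel₀ hδ0
      linear_combination h1 - h2
    have hR1 : (1 : ℂ) + a₂ * x₂ + a₃ * x₃ - δ * x₄ = 0 := by
      have h := hreg η hη 1 h1reg
      rw [hx₂, hx₃, hx₄] at h
      exact h
    have R1 : 1 + a₂ * (x₂ : ℤ) + a₃ * x₃ + (-δ) * x₄ = 0 := by
      have h' : ((1 + a₂ * (x₂ : ℤ) + a₃ * x₃ + (-δ) * x₄ : ℤ) : ℂ) = 0 := by
        push_cast
        linear_combination hR1
      exact_mod_cast h'
    have R3 : 1 + a₂ * c₂ + a₃ * c₃ + (-δ) * c₄ = 0 := by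
      have h := hreg η hη t htreg
      rw [hc₂, hc₃, hc₄] at h
      have h' : ((1 + a₂ * c₂ + a₃ * c₃ + (-δ) * c₄ : ℤ) : ℂ) = 0 := by
        push_cast
        linear_combination h
      exact_mod_cast h'
    have hYsum : ∑ η' ∈ Yf, (η' : G → ℂ) (y₀ : G) = -(δ : ℂ) := by
      have h := block_orth_pelements hM (principalBlock M G) hB 1 (y₀ : G)
        ⟨0, by rw [orderOf_one, pow_zero]⟩ hy₀pow (fun hc => hy₀1 (isConj_one_left.mp hc))
      rw [hsplit (fun χ => (χ : G → ℂ) (y₀ : G) * conj ((χ : G → ℂ) 1))] at h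
      have e4 : ∑ η' ∈ Yf, (η' : G → ℂ) (y₀ : G) * conj ((η' : G → ℂ) 1)
          = (x₄ : ℂ) * ∑ η' ∈ Yf, (η' : G → ℂ) (y₀ : G) := by
        rw [Finset.mul_sum]
        apply Finset.sum_congr rfl
        intro η' hη'
        rw [hYreg η' hη' 1 h1reg, hx₄, map_natCast]
        ring
      rw [e1, e1, hv₂ y₀ hy₀, hv₃ y₀ hy₀, hx₂, hx₃, e4] at h
      simp only [map_one, map_natCast] at h
      apply mul_left_cancel₀ hx₄0
      linear_combination h - hR1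
    have R2 : (x₂ : ℤ) * x₃ * x₄ + a₂ * c₂ ^ 2 * x₃ * x₄ + a₃ * c₃ ^ 2 * x₂ * x₄
        + (-δ) * c₄ ^ 2 * x₂ * x₃ = 0 := by
      have h := sum_block_sq_involution hM (principalBlock M G) hB t htt (y₀ : G) hy₀pow hninv
      rw [hsplit (fun χ => (χ : G → ℂ) (y₀ : G)
        * ((χ : G → ℂ) t ^ 2 / (χ : G → ℂ) 1))] at h
      have e4 : ∑ η' ∈ Yf, (η' : G → ℂ) (y₀ : G) * ((η' : G → ℂ) t ^ 2 / (η' : G → ℂ) 1)
          = -(δ : ℂ) * ((c₄ : ℂ) ^ 2 / (x₄ : ℂ)) := by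
        rw [← hYsum, Finset.sum_mul]
        apply Finset.sum_congr rfl
        intro η' hη'
        rw [hYreg η' hη' 1 h1reg, hYreg η' hη' t htreg, hx₄, hc₄]
      rw [e1, e1, e1, hv₂ y₀ hy₀, hv₃ y₀ hy₀, hx₂, hx₃, hc₂, hc₃, e4] at h
      have key : ((x₂ : ℂ) * x₃ * x₄ + a₂ * (c₂ : ℂ) ^ 2 * x₃ * x₄ + a₃ * (c₃ : ℂ) ^ 2 * x₂ * x₄
          + (-δ) * (c₄ : ℂ) ^ 2 * x₂ * x₃)
          = ((x₂ : ℂ) * x₃ * x₄) * ((1 : ℂ) * ((1 : ℂ) ^ 2 / 1)
            + (a₂ : ℂ) * ((c₂ : ℂ) ^ 2 / (x₂ : ℂ)) + (a₃ : ℂ) * ((c₃ : ℂ) ^ 2 / (x₃ : ℂ))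
            + -(δ : ℂ) * ((c₄ : ℂ) ^ 2 / (x₄ : ℂ))) := by
        field_simp
      have h' : (((x₂ : ℤ) * x₃ * x₄ + a₂ * c₂ ^ 2 * x₃ * x₄ + a₃ * c₃ ^ 2 * x₂ * x₄
          + (-δ) * c₄ ^ 2 * x₂ * x₃ : ℤ) : ℂ) = 0 := by
        push_cast
        rw [key, h, mul_zero]
      exact_mod_cast h'
    have hne : c₂ ≠ (x₂ : ℤ) := by
      intro h
      apply not_ker_of_top χ₂ hχ₂ne t hK
      rw [hc₂, hx₂, h]
      push_cast
      rfl
    obtain ⟨hcount, hsq⟩ := four_term_odd a₂ a₃ (-δ) ha₂ ha₃ hδ' x₂ x₃ x₄ hx₂pos hx₃pos hx₄pos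
      c₂ c₃ c₄ R1 R3 R2 hne
    refine ⟨?_, ?_⟩
    · simp only [neg_inj] at hcount
      exact hcount
    · rw [hd₄, hd₂, hd₃]
      exact hsq
  obtain ⟨η₀, hη₀⟩ := hYne
  exact ⟨(main η₀ hη₀).1, fun η hη => (main η hη).2⟩

end odd

end Cfsg.Agent.Lib.Helper24
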