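import Mathlib
import Cfsg.Prelude.Def_Blocks
import Cfsg.Agent.Lib.Helper24.BLGroup
import Cfsg.Agent.Lib.Helper25.InvolSums

set_option autoImplicit false

namespace Cfsg.Agent.Lib.Helper24

open Cfsg Cfsg.Agent.Lib.Helper2 Cfsg.Agent.Lib.Helper8 Cfsg.Agent.Lib.Helper25

open scoped ComplexConjugate

/-- an element of prime power order is conjugate into a given Sylow subgroup -/
theorem conj_mem_sylow {H : Type*} [Group H] [Finite H] {p : ℕ} [Fact p.Prime] (S : Sylow p H)
    (w : H) (hw : ∃ k : ℕ, orderOf w = p ^ k) : ∃ h : H, h * w * h⁻¹ ∈ (S : Subgroup H) := by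
  obtain ⟨k, hk⟩ := hw
  have hW : IsPGroup p (Subgroup.zpowers w) := by
    apply IsPGroup.of_card (n := k)
    rw [Nat.card_zpowers, hk]
  obtain ⟨Q', hQ'⟩ := hW.exists_le_sylow
  obtain ⟨c, hc⟩ := MulAction.exists_smul_eq H Q' S
  refine ⟨c, ?_⟩
  have hwQ : w ∈ (Q' : Subgroup H) := hQ' (Subgroup.mem_zpowers w)
  rw [← hc, Sylow.coe_subgroup_smul, Subgroup.mem_smul_pointwise_iff_exists]
  exact ⟨w, hwQ, by rw [MulAut.smul_def, MulAut.conj_apply]⟩

/-- the Sylow subgroup of the centralizer of a non-identity element of an abelian Sylow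
subgroup with freely acting normalizer is central in its normalizer -/
theorem sylow_subtype_normalizer_le {G : Type*} [Group G] [Finite G] {p : ℕ} [Fact p.Prime]
    (P : Sylow p G)
    (hab : ∀ x ∈ P, ∀ y ∈ P, x * y = y * x)
    (hfixC : ∀ n ∈ Subgroup.normalizer (P : Set G), ∀ u ∈ P, u ≠ 1 → n * u * n⁻¹ = u →
      n ∈ Subgroup.centralizer (P : Set G))
    {u : G} (hu : u ∈ P) (hu1 : u ≠ 1)
    (hle : (P : Subgroup G) ≤ Subgroup.centralizer ({u} : Set G)) :
    Subgroup.normalizer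
        (((P.subtype hle : Sylow p (Subgroup.centralizer ({u} : Set G)))) :
          Set (Subgroup.centralizer ({u} : Set G)))
      ≤ Subgroup.centralizer
        (((P.subtype hle : Sylow p (Subgroup.centralizer ({u} : Set G)))) :
          Set (Subgroup.centralizer ({u} : Set G))) := by
  have hP'mem : ∀ y : Subgroup.centralizer ({u} : Set G),
      y ∈ (P.subtype hle : Subgroup (Subgroup.centralizer ({u} : Set G))) ↔ (y : G) ∈ P := by
    intro y
    rw [Sylow.coe_subtype, Subgroup.mem_subgroupOf]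
    rfl
  intro n hn
  have hnu : (n : G) * u = u * (n : G) := Subgroup.mem_centralizer_singleton_iff.mp n.2
  have hun : (n : G) * u * (n : G)⁻¹ = u := by
    rw [hnu, mul_inv_cancel_right]
  have hnN : (n : G) ∈ Subgroup.normalizer (P : Set G) := by
    refine (Subgroup.mem_normalizer_iff (H := (P : Subgroup G))).mpr ?_
    intro z
    have hiff := Subgroup.mem_normalizer_iff
      (H := (P.subtype hle : Subgroup (Subgroup.centralizer ({u} : Set G)))) (g := n)
    have hn' := hiff.mp hn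
    constructor
    · intro hz
      have hzC : z ∈ Subgroup.centralizer ({u} : Set G) := hle hz
      have h1 := (hn' ⟨z, hzC⟩).mp ((hP'mem _).mpr hz)
      exact (hP'mem _).mp h1
    · intro hz
      have hzC : z ∈ Subgroup.centralizer ({u} : Set G) := by
        have h2 : (n : G) * z * (n : G)⁻¹ ∈ Subgroup.centralizer ({u} : Set G) := hle hz
        have h3 : z = (n : G)⁻¹ * ((n : G) * z * (n : G)⁻¹) * (n : G) := by group
        rw [h3]
        exact mul_mem (mul_mem (inv_mem n.2) h2) n.2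
      have h1 := (hn' ⟨z, hzC⟩).mpr ((hP'mem _).mpr hz)
      exact (hP'mem _).mp h1
  have hnC := hfixC (n : G) hnN u hu hu1 hun
  rw [Subgroup.mem_centralizer_iff]
  intro y hy
  have hyP : (y : G) ∈ P := (hP'mem y).mp hy
  apply Subtype.ext
  have h4 := (Subgroup.mem_centralizer_iff.mp hnC) (y : G) hyP
  exact h4

/-- the transfer argument: a product of two `p`-elements of the centralizer of `y` lying in
the `p`-section of the inverse of `y` gives a factorization inside the Sylow subgroup -/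
theorem section_product {G : Type*} [Group G] [Finite G] {p : ℕ} [Fact p.Prime] (P : Sylow p G)
    (hab : ∀ x ∈ P, ∀ y ∈ P, x * y = y * x)
    (hfixC : ∀ n ∈ Subgroup.normalizer (P : Set G), ∀ u ∈ P, u ≠ 1 → n * u * n⁻¹ = u →
      n ∈ Subgroup.centralizer (P : Set G))
    (y : G) (hy : y ∈ P) (hy1 : y ≠ 1) (c u v : G)
    (hc : y * c = c * y) (hcp : ¬ p ∣ orderOf c)
    (hu : u * y = y * u) (hv : v * y = y * v)
    (hup : ∃ k : ℕ, orderOf u = p ^ k) (hvp : ∃ k : ℕ, orderOf v = p ^ k)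
    (huv : u * v * (y * c) = 1) :
    ∃ g₁ g₂ : G, g₁ * u * g₁⁻¹ ∈ P ∧ g₂ * v * g₂⁻¹ ∈ P ∧
      (g₁ * u * g₁⁻¹) * (g₂ * v * g₂⁻¹) * y = 1 := by
  classical
  have hp : p.Prime := Fact.out
  have hle : (P : Subgroup G) ≤ Subgroup.centralizer ({y} : Set G) := by
    intro x hx
    rw [Subgroup.mem_centralizer_singleton_iff]
    exact hab x hx y hy
  have hP'mem : ∀ z : Subgroup.centralizer ({y} : Set G),
      z ∈ (P.subtype hle : Subgroup (Subgroup.centralizer ({y} : Set G))) ↔ (z : G) ∈ P := by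
    intro z
    rw [Sylow.coe_subtype, Subgroup.mem_subgroupOf]
    rfl
  have hN := sylow_subtype_normalizer_le P hab hfixC hy hy1 hle
  have hcommP' : ∀ a b : ((P.subtype hle : Sylow p (Subgroup.centralizer ({y} : Set G))) :
      Subgroup (Subgroup.centralizer ({y} : Set G))), a * b = b * a := by
    intro a b
    apply Subtype.ext
    apply Subtype.ext
    exact hab _ ((hP'mem a.1).mp a.2) _ ((hP'mem b.1).mp b.2)
  obtain ⟨π, hπ⟩ : ∃ π : Subgroup.centralizer ({y} : Set G) →*
      ((P.subtype hle : Sylow p (Subgroup.centralizer ({y} : Set G))) :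
        Subgroup (Subgroup.centralizer ({y} : Set G))),
      π = MonoidHom.transferSylow (P.subtype hle) hN := ⟨_, rfl⟩
  have hπP : ∀ w : Subgroup.centralizer ({y} : Set G),
      w ∈ (P.subtype hle : Subgroup (Subgroup.centralizer ({y} : Set G))) →
      ((π w : ((P.subtype hle : Sylow p (Subgroup.centralizer ({y} : Set G))) :
        Subgroup (Subgroup.centralizer ({y} : Set G)))) : Subgroup.centralizer ({y} : Set G))
      = w ^ ((P.subtype hle : Sylow p (Subgroup.centralizer ({y} : Set G))) :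
        Subgroup (Subgroup.centralizer ({y} : Set G))).index := by
    intro w hw
    rw [hπ, MonoidHom.transferSylow_eq_pow (P.subtype hle) hN w hw]
  have hπconj : ∀ h w : Subgroup.centralizer ({y} : Set G), π (h * w * h⁻¹) = π w := by
    intro h w
    rw [map_mul, map_mul, map_inv, hcommP' (π h) (π w), mul_inv_cancel_right]
  have hπreg : ∀ w : Subgroup.centralizer ({y} : Set G), ¬ p ∣ orderOf w → π w = 1 := by
    intro w hw
    obtain ⟨k, hk⟩ := ((P.subtype hle).isPGroup') (π w)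
    obtain ⟨j, -, hj⟩ := (Nat.dvd_prime_pow hp).mp (orderOf_dvd_of_pow_eq_one hk)
    have hdvd : orderOf (π w) ∣ orderOf w := orderOf_map_dvd π w
    by_cases hj0 : j = 0
    · rw [hj0, pow_zero] at hj
      exact orderOf_eq_one_iff.mp hj
    · exfalso
      apply hw
      rw [hj] at hdvd
      exact dvd_trans (dvd_pow_self p hj0) hdvd
  have hyH : y ∈ Subgroup.centralizer ({y} : Set G) :=
    Subgroup.mem_centralizer_singleton_iff.mpr rfl
  have hcH : c ∈ Subgroup.centralizer ({y} : Set G) :=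
    Subgroup.mem_centralizer_singleton_iff.mpr hc.symm
  have huH : u ∈ Subgroup.centralizer ({y} : Set G) :=
    Subgroup.mem_centralizer_singleton_iff.mpr hu
  have hvH : v ∈ Subgroup.centralizer ({y} : Set G) :=
    Subgroup.mem_centralizer_singleton_iff.mpr hv
  obtain ⟨h₁, hh₁⟩ := conj_mem_sylow (P.subtype hle)
    (⟨u, huH⟩ : Subgroup.centralizer ({y} : Set G)) (by rwa [Subgroup.orderOf_mk])
  obtain ⟨h₂, hh₂⟩ := conj_mem_sylow (P.subtype hle)
    (⟨v, hvH⟩ : Subgroup.centralizer ({y} : Set G)) (by rwa [Subgroup.orderOf_mk])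
  obtain ⟨u₀, hu₀⟩ : ∃ u₀ : Subgroup.centralizer ({y} : Set G),
      u₀ = h₁ * ⟨u, huH⟩ * h₁⁻¹ := ⟨_, rfl⟩
  obtain ⟨v₀, hv₀⟩ : ∃ v₀ : Subgroup.centralizer ({y} : Set G),
      v₀ = h₂ * ⟨v, hvH⟩ * h₂⁻¹ := ⟨_, rfl⟩
  rw [← hu₀] at hh₁
  rw [← hv₀] at hh₂
  have hprod : (⟨u, huH⟩ : Subgroup.centralizer ({y} : Set G)) * ⟨v, hvH⟩
      * (⟨y, hyH⟩ * ⟨c, hcH⟩) = 1 := Subtype.ext huv
  have h1 := congrArg π hprod
  rw [map_mul, map_mul, map_mul, map_one, hπreg ⟨c, hcH⟩ (by rwa [Subgroup.orderOf_mk]),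
    mul_one, ← hπconj h₁ ⟨u, huH⟩, ← hπconj h₂ ⟨v, hvH⟩, ← hu₀, ← hv₀] at h1
  have hyP' : (⟨y, hyH⟩ : Subgroup.centralizer ({y} : Set G))
      ∈ (P.subtype hle : Subgroup (Subgroup.centralizer ({y} : Set G))) := (hP'mem _).mpr hy
  have h2 := congrArg Subtype.val h1
  rw [Subgroup.coe_mul, Subgroup.coe_mul, hπP _ hh₁, hπP _ hh₂, hπP _ hyP', Subgroup.coe_one]
    at h2
  have hcomm1 : Commute u₀ v₀ := by
    have h := hcommP' ⟨u₀, hh₁⟩ ⟨v₀, hh₂⟩
    exact congrArg Subtype.val h
  have hcomm2 : Commute (u₀ * v₀) ⟨y, hyH⟩ := by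
    have h := hcommP' ⟨u₀ * v₀, mul_mem hh₁ hh₂⟩ ⟨⟨y, hyH⟩, hyP'⟩
    exact congrArg Subtype.val h
  have h3 : (u₀ * v₀ * ⟨y, hyH⟩) ^ ((P.subtype hle : Sylow p
      (Subgroup.centralizer ({y} : Set G))) :
        Subgroup (Subgroup.centralizer ({y} : Set G))).index = 1 := by
    rw [hcomm2.mul_pow, hcomm1.mul_pow]
    exact h2
  have hzP' : u₀ * v₀ * ⟨y, hyH⟩
      ∈ (P.subtype hle : Subgroup (Subgroup.centralizer ({y} : Set G))) :=
    mul_mem (mul_mem hh₁ hh₂) hyP'
  have hz1 : u₀ * v₀ * (⟨y, hyH⟩ : Subgroup.centralizer ({y} : Set G)) = 1 := by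
    obtain ⟨k, hk⟩ := ((P.subtype hle).isPGroup') ⟨_, hzP'⟩
    have hk' : (u₀ * v₀ * (⟨y, hyH⟩ : Subgroup.centralizer ({y} : Set G))) ^ p ^ k = 1 := by
      have h5 := congrArg Subtype.val hk
      rw [Subgroup.coe_pow, Subgroup.coe_one] at h5
      exact h5
    obtain ⟨j, -, hj⟩ := (Nat.dvd_prime_pow hp).mp (orderOf_dvd_of_pow_eq_one hk')
    have hdvd := orderOf_dvd_of_pow_eq_one h3
    by_cases hj0 : j = 0
    · rw [hj0, pow_zero] at hj
      exact orderOf_eq_one_iff.mp hj
    · exfalso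
      rw [hj] at hdvd
      exact (P.subtype hle).not_dvd_index (dvd_trans (dvd_pow_self p hj0) hdvd)
  refine ⟨(h₁ : G), (h₂ : G), ?_, ?_, ?_⟩
  · have h := (hP'mem _).mp hh₁
    rw [hu₀] at h
    exact h
  · have h := (hP'mem _).mp hh₂
    rw [hv₀] at h
    exact h
  · have h4 := congrArg Subtype.val hz1
    rw [hu₀, hv₀] at h4
    exact h4

section convl

variable {G : Type*} [Group G] [Fintype G]

/-- where the counting function does not vanish there is a factorization -/
theorem conv_ne_zero_conj (t z : G) (h : conv (colFun t) (colFun t) z ≠ 0) :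
    ∃ u v : G, IsConj u t ∧ IsConj v t ∧ u * v = z := by
  classical
  unfold conv at h
  obtain ⟨g, -, hg⟩ := Finset.exists_ne_zero_of_sum_ne_zero h
  have h1 : colFun t (z * g⁻¹) ≠ 0 := left_ne_zero_of_mul hg
  have h2 : colFun t g ≠ 0 := right_ne_zero_of_mul hg
  have hc1 : IsConj (z * g⁻¹) t := by
    by_contra hn
    exact h1 (colFun_of_not_isConj hn)
  have hc2 : IsConj g t := by
    by_contra hn
    exact h2 (colFun_of_not_isConj hn)
  exact ⟨z * g⁻¹, g, hc1, hc2, by group⟩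

variable {p : ℕ} {M : Ideal AlgInt}

/-- a block sum attached to an element `t` vanishes at a `p`-element on whose section the
counting function vanishes -/
theorem sum_block_sq_of_vanish [Fact p.Prime] (hM : IsPModular p M)
    (B : Set (IrrCharacter G)) (hB : IsPBlock M B) [Fintype (IrrCharacter G)]
    [DecidablePred (· ∈ B)] (t : G) (y : G)
    (hy : ∃ k : ℕ, orderOf y = p ^ k)
    (hvan : ∀ c : G, y * c = c * y → ¬ p ∣ orderOf c →
      conv (colFun t) (colFun t) (y * c)⁻¹ = 0) :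
    ∑ χ : IrrCharacter G, (if χ ∈ B then
      (χ : G → ℂ) y * ((χ : G → ℂ) t ^ 2 / (χ : G → ℂ) 1) else 0) = 0 := by
  classical
  have hp : p.Prime := Fact.out
  have h1reg : ¬ p ∣ orderOf (1 : G) := by
    rw [orderOf_one]
    exact fun h => hp.one_lt.ne' (Nat.dvd_one.mp h)
  have h0 := blockPart_section_eq_zero hM y hy (fun z => conv (colFun t) (colFun t) z⁻¹)
    (cvt_isClassFunction t) hvan B hB 1 (by rw [mul_one, one_mul]) h1reg
  rw [mul_one, blockPart_eq_sum_irr] at h0
  have hne := card_ne_zero_complex G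
  have e : ∑ χ : IrrCharacter G, (if χ ∈ B then
      (χ : G → ℂ) y * ((χ : G → ℂ) t ^ 2 / (χ : G → ℂ) 1) else 0)
      = (Nat.card G : ℂ)⁻¹ * ∑ ψ : IrrCharacter G, (if ψ ∈ B then
          classInner (fun z => conv (colFun t) (colFun t) z⁻¹) (ψ : G → ℂ) * (ψ : G → ℂ) y
          else 0) := by
    rw [Finset.mul_sum]
    apply Finset.sum_congr rfl
    intro χ _
    by_cases hχ : χ ∈ B
    · rw [if_pos hχ, if_pos hχ, classInner_cvt]
      field_simp
    · rw [if_neg hχ, if_neg hχ, mul_zero]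
  rw [e, h0, mul_zero]

end convl

end Cfsg.Agent.Lib.Helper24
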