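import Mathlib
import Cfsg.Prelude.Def_Blocks
import Cfsg.Agent.Lib.Helper24.BLChar
import Cfsg.Agent.Lib.Helper24.BLLattice

set_option autoImplicit false

namespace Cfsg.Agent.Lib.Helper24

open Cfsg Cfsg.Agent.Lib.Helper2 Cfsg.Agent.Lib.Helper8 Cfsg.Agent.Lib.Helper25

open scoped ComplexConjugate

section orbsum

variable {G : Type*} [Group G] (P : Subgroup G)

theorem normHom_inv_coe (x : Subgroup.normalizer (P : Set G)) (w : P) :
    ((((P.normalizerMonoidHom x)⁻¹ : MulAut P) w : P) : G) = (x : G)⁻¹ * (w : G) * (x : G) := by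
  rw [← map_inv, normHom_coe]
  simp

theorem dualConj_eval (x : Subgroup.normalizer (P : Set G)) (ψ : P →* ℂˣ) (w : P) :
    dualConj P x ψ w = ψ (((P.normalizerMonoidHom x)⁻¹ : MulAut P) w) := rfl

/-- the sum over an orbit of linear characters as a sum over the normalizer -/
theorem orbit_sum_eq [Finite G]
    (hfix : ∀ n ∈ Subgroup.normalizer (P : Set G), ∀ u ∈ P, u ≠ 1 → n * u * n⁻¹ = u →
      n ∈ Subgroup.centralizer (P : Set G))
    [Fintype (P →* ℂˣ)] [Fintype (Subgroup.normalizer (P : Set G))]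
    (ψ : P →* ℂˣ) (hψ : ψ ≠ 1) (w : P) :
    (Nat.card (Subgroup.centralizer (P : Set G)) : ℂ) *
      ∑ᶠ ψ' ∈ {ψ' : P →* ℂˣ | ∃ x : Subgroup.normalizer (P : Set G), ψ' = dualConj P x ψ},
        ((ψ' w : ℂˣ) : ℂ)
    = ∑ x : Subgroup.normalizer (P : Set G), (((dualConj P x ψ) w : ℂˣ) : ℂ) := by
  classical
  rw [finsum_mem_eq_sum_indicator, Finset.mul_sum]
  have e : ∀ x : Subgroup.normalizer (P : Set G), (((dualConj P x ψ) w : ℂˣ) : ℂ)
      = ∑ ψ' : P →* ℂˣ, if dualConj P x ψ = ψ' then ((ψ' w : ℂˣ) : ℂ) else 0 := by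
    intro x
    rw [Finset.sum_ite_eq Finset.univ (dualConj P x ψ) (fun ψ' => ((ψ' w : ℂˣ) : ℂ)),
      if_pos (Finset.mem_univ _)]
  rw [Finset.sum_congr rfl (fun x _ => e x), Finset.sum_comm]
  apply Finset.sum_congr rfl
  intro ψ' _
  have hc := card_smul_eq P hfix ψ ψ' hψ
  rw [Nat.card_eq_fintype_card, Fintype.card_subtype] at hc
  have e2 : ∑ x : Subgroup.normalizer (P : Set G),
      (if dualConj P x ψ = ψ' then ((ψ' w : ℂˣ) : ℂ) else 0)
      = ((Finset.univ.filter (fun x : Subgroup.normalizer (P : Set G) =>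
          dualConj P x ψ = ψ')).card : ℂ) * ((ψ' w : ℂˣ) : ℂ) := by
    rw [← Finset.sum_filter, Finset.sum_const, nsmul_eq_mul]
  rw [e2, hc, Set.indicator_apply]
  by_cases h : ψ' ∈ {ψ' : P →* ℂˣ | ∃ x : Subgroup.normalizer (P : Set G),
      ψ' = dualConj P x ψ}
  · have h' : ∃ x : Subgroup.normalizer (P : Set G), ψ' = dualConj P x ψ := h
    rw [if_pos h, if_pos h']
  · have h' : ¬ ∃ x : Subgroup.normalizer (P : Set G), ψ' = dualConj P x ψ := h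
    rw [if_neg h, if_neg h']
    simp

open Classical in
/-- a sum of triple products of orbit sums -/
theorem triple_sum [IsMulCommutative P] [Finite P]
    [Fintype (P →* ℂˣ)] [Fintype (Subgroup.normalizer (P : Set G))]
    (y t₀ : P)
    (hW : ∀ x₁ x₂ x₃ : Subgroup.normalizer (P : Set G),
      ((P.normalizerMonoidHom x₁)⁻¹ : MulAut P) y * ((P.normalizerMonoidHom x₂)⁻¹ : MulAut P) t₀
        * ((P.normalizerMonoidHom x₃)⁻¹ : MulAut P) t₀ ≠ 1) :
    ∑ ψ ∈ Finset.univ.filter (fun ψ : P →* ℂˣ => ψ ≠ 1),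
      (∑ x : Subgroup.normalizer (P : Set G), (((dualConj P x ψ) y : ℂˣ) : ℂ))
        * (∑ x : Subgroup.normalizer (P : Set G), (((dualConj P x ψ) t₀ : ℂˣ) : ℂ)) ^ 2
      = -((Nat.card (Subgroup.normalizer (P : Set G)) : ℂ) ^ 3) := by
  classical
  have hexp : ∀ ψ : P →* ℂˣ,
      (∑ x : Subgroup.normalizer (P : Set G), (((dualConj P x ψ) y : ℂˣ) : ℂ))
        * (∑ x : Subgroup.normalizer (P : Set G), (((dualConj P x ψ) t₀ : ℂˣ) : ℂ)) ^ 2
      = ∑ x₁ : Subgroup.normalizer (P : Set G), ∑ x₂ : Subgroup.normalizer (P : Set G),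
          ∑ x₃ : Subgroup.normalizer (P : Set G),
          ((ψ (((P.normalizerMonoidHom x₁)⁻¹ : MulAut P) y
            * ((P.normalizerMonoidHom x₂)⁻¹ : MulAut P) t₀
            * ((P.normalizerMonoidHom x₃)⁻¹ : MulAut P) t₀) : ℂˣ) : ℂ) := by
    intro ψ
    rw [pow_two, Finset.sum_mul_sum, Finset.sum_mul_sum]
    apply Finset.sum_congr rfl
    intro x₁ _
    apply Finset.sum_congr rfl
    intro x₂ _
    rw [Finset.mul_sum]
    apply Finset.sum_congr rfl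
    intro x₃ _
    rw [dualConj_eval, dualConj_eval, dualConj_eval, map_mul, map_mul, Units.val_mul,
      Units.val_mul]
    ring
  rw [Finset.sum_congr rfl (fun ψ _ => hexp ψ), Finset.sum_comm]
  have hin : ∀ x₁ x₂ x₃ : Subgroup.normalizer (P : Set G),
      ∑ ψ ∈ Finset.univ.filter (fun ψ : P →* ℂˣ => ψ ≠ 1),
        ((ψ (((P.normalizerMonoidHom x₁)⁻¹ : MulAut P) y
            * ((P.normalizerMonoidHom x₂)⁻¹ : MulAut P) t₀
            * ((P.normalizerMonoidHom x₃)⁻¹ : MulAut P) t₀) : ℂˣ) : ℂ) = -1 := by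
    intro x₁ x₂ x₃
    rw [Finset.filter_ne' Finset.univ (1 : P →* ℂˣ),
      Finset.sum_erase_eq_sub (Finset.mem_univ _), sum_hom_apply, if_neg (hW x₁ x₂ x₃)]
    simp
  have step : ∀ x₁ : Subgroup.normalizer (P : Set G),
      ∑ ψ ∈ Finset.univ.filter (fun ψ : P →* ℂˣ => ψ ≠ 1),
        ∑ x₂ : Subgroup.normalizer (P : Set G), ∑ x₃ : Subgroup.normalizer (P : Set G),
          ((ψ (((P.normalizerMonoidHom x₁)⁻¹ : MulAut P) y
            * ((P.normalizerMonoidHom x₂)⁻¹ : MulAut P) t₀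
            * ((P.normalizerMonoidHom x₃)⁻¹ : MulAut P) t₀) : ℂˣ) : ℂ)
      = ∑ _x₂ : Subgroup.normalizer (P : Set G), ∑ _x₃ : Subgroup.normalizer (P : Set G),
          (-1 : ℂ) := by
    intro x₁
    rw [Finset.sum_comm]
    apply Finset.sum_congr rfl
    intro x₂ _
    rw [Finset.sum_comm]
    apply Finset.sum_congr rfl
    intro x₃ _
    exact hin x₁ x₂ x₃
  rw [Finset.sum_congr rfl (fun x₁ _ => step x₁)]
  simp only [Finset.sum_const, Finset.card_univ, nsmul_eq_mul]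
  rw [← Nat.card_eq_fintype_card]
  ring

end orbsum

section ysum

variable {G : Type*} [Group G] [Fintype G] {p : ℕ} [Fact p.Prime]

/-- the sum over the exceptional characters of the products of their values at `y` and the
squares of their values at `t₀` -/
theorem ysum_eq (P : Sylow p G) [IsMulCommutative P]
    (hfix : ∀ n ∈ Subgroup.normalizer ((P : Subgroup G) : Set G), ∀ u ∈ (P : Subgroup G),
      u ≠ 1 → n * u * n⁻¹ = u → n ∈ Subgroup.centralizer ((P : Subgroup G) : Set G))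
    (hCN : (Subgroup.centralizer ((P : Subgroup G) : Set G)).relIndex
      (Subgroup.normalizer ((P : Subgroup G) : Set G)) = 3)
    (δ : ℤ) (hδ : δ = 1 ∨ δ = -1)
    (ζ : ((P : Subgroup G) →* ℂˣ) → IrrCharacter G) (Yf : Finset (IrrCharacter G))
    (hYf : ∀ η, η ∈ Yf ↔ ∃ ψ : (P : Subgroup G) →* ℂˣ, ψ ≠ 1 ∧ ζ ψ = η)
    (hζR : ∀ ψ ψ' : (P : Subgroup G) →* ℂˣ, ψ ≠ 1 → ψ' ≠ 1 →
      (ζ ψ = ζ ψ' ↔ ∃ x : Subgroup.normalizer ((P : Subgroup G) : Set G),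
        ψ' = dualConj (P : Subgroup G) x ψ))
    (hvalY : ∀ ψ : (P : Subgroup G) →* ℂˣ, ψ ≠ 1 → ∀ y : (P : Subgroup G), y ≠ 1 →
      (ζ ψ : G → ℂ) (y : G) = (δ : ℂ) *
        ∑ᶠ ψ' ∈ {ψ' : (P : Subgroup G) →* ℂˣ | ψ' ≠ 1 ∧ ζ ψ = ζ ψ'}, ((ψ' y : ℂˣ) : ℂ))
    (y t₀ : (P : Subgroup G)) (hy : y ≠ 1) (ht₀ : t₀ ≠ 1)
    (hW : ∀ n₁ n₂ : G, n₁ ∈ Subgroup.normalizer ((P : Subgroup G) : Set G) →
      n₂ ∈ Subgroup.normalizer ((P : Subgroup G) : Set G) →
      (n₁ * (t₀ : G) * n₁⁻¹) * (n₂ * (t₀ : G) * n₂⁻¹) * (y : G) ≠ 1) :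
    ∑ η ∈ Yf, (η : G → ℂ) (y : G) * (η : G → ℂ) (t₀ : G) ^ 2 = -9 * (δ : ℂ) := by
  classical
  have : Fintype (P : Subgroup G) := Fintype.ofFinite _
  have : Fintype ((P : Subgroup G) →* ℂˣ) := Fintype.ofFinite _
  have : Fintype (Subgroup.normalizer ((P : Subgroup G) : Set G)) := Fintype.ofFinite _
  -- the condition in terms of the action on `P`
  have hW' : ∀ x₁ x₂ x₃ : Subgroup.normalizer ((P : Subgroup G) : Set G),
      (((P : Subgroup G).normalizerMonoidHom x₁)⁻¹ : MulAut (P : Subgroup G)) y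
        * (((P : Subgroup G).normalizerMonoidHom x₂)⁻¹ : MulAut (P : Subgroup G)) t₀
        * (((P : Subgroup G).normalizerMonoidHom x₃)⁻¹ : MulAut (P : Subgroup G)) t₀ ≠ 1 := by
    intro x₁ x₂ x₃ h
    have h1 := congrArg Subtype.val h
    rw [Subgroup.coe_mul, Subgroup.coe_mul, normHom_inv_coe, normHom_inv_coe, normHom_inv_coe,
      Subgroup.coe_one] at h1
    have hbc : ((x₂ : G)⁻¹ * (t₀ : G) * (x₂ : G)) * ((x₃ : G)⁻¹ * (t₀ : G) * (x₃ : G))
        = ((x₁ : G)⁻¹ * (y : G) * (x₁ : G))⁻¹ := by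
      have h2 : ((x₁ : G)⁻¹ * (y : G) * (x₁ : G))
          * (((x₂ : G)⁻¹ * (t₀ : G) * (x₂ : G)) * ((x₃ : G)⁻¹ * (t₀ : G) * (x₃ : G))) = 1 := by
        rw [← mul_assoc]
        exact h1
      exact eq_inv_of_mul_eq_one_right h2
    apply hW ((x₁ : G) * (x₂ : G)⁻¹) ((x₁ : G) * (x₃ : G)⁻¹)
      (mul_mem x₁.2 (inv_mem x₂.2)) (mul_mem x₁.2 (inv_mem x₃.2))
    calc ((x₁ : G) * (x₂ : G)⁻¹) * (t₀ : G) * ((x₁ : G) * (x₂ : G)⁻¹)⁻¹
          * (((x₁ : G) * (x₃ : G)⁻¹) * (t₀ : G) * ((x₁ : G) * (x₃ : G)⁻¹)⁻¹) * (y : G)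
        = (x₁ : G) * (((x₂ : G)⁻¹ * (t₀ : G) * (x₂ : G))
          * ((x₃ : G)⁻¹ * (t₀ : G) * (x₃ : G))) * (x₁ : G)⁻¹ * (y : G) := by group
      _ = (x₁ : G) * ((x₁ : G)⁻¹ * (y : G) * (x₁ : G))⁻¹ * (x₁ : G)⁻¹ * (y : G) := by rw [hbc]
      _ = 1 := by group
  -- the orbits
  have hset : ∀ ψ : (P : Subgroup G) →* ℂˣ, ψ ≠ 1 →
      {ψ' : (P : Subgroup G) →* ℂˣ | ψ' ≠ 1 ∧ ζ ψ = ζ ψ'}
        = {ψ' : (P : Subgroup G) →* ℂˣ |
          ∃ x : Subgroup.normalizer ((P : Subgroup G) : Set G),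
            ψ' = dualConj (P : Subgroup G) x ψ} := by
    intro ψ hψ
    ext ψ'
    constructor
    · rintro ⟨h1, h2⟩
      exact (hζR ψ ψ' hψ h1).mp h2
    · rintro ⟨x, hx⟩
      have hψ' : ψ' ≠ 1 := by
        rw [hx]
        exact dualConj_ne_one (P : Subgroup G) x ψ hψ
      exact ⟨hψ', (hζR ψ ψ' hψ hψ').mpr ⟨x, hx⟩⟩
  have hcard : Nat.card (Subgroup.normalizer ((P : Subgroup G) : Set G))
      = 3 * Nat.card (Subgroup.centralizer ((P : Subgroup G) : Set G)) := by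
    have h1 := Subgroup.card_mul_index
      ((Subgroup.centralizer ((P : Subgroup G) : Set G)).subgroupOf
        (Subgroup.normalizer ((P : Subgroup G) : Set G)))
    have h2 : ((Subgroup.centralizer ((P : Subgroup G) : Set G)).subgroupOf
        (Subgroup.normalizer ((P : Subgroup G) : Set G))).index = 3 := hCN
    have h3 : Nat.card ((Subgroup.centralizer ((P : Subgroup G) : Set G)).subgroupOf
        (Subgroup.normalizer ((P : Subgroup G) : Set G)))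
        = Nat.card (Subgroup.centralizer ((P : Subgroup G) : Set G)) :=
      Nat.card_congr (Subgroup.subgroupOfEquivOfLe
        (Subgroup.centralizer_le_normalizer _)).toEquiv
    rw [h2, h3] at h1
    omega
  have hcC : (Nat.card (Subgroup.centralizer ((P : Subgroup G) : Set G)) : ℂ) ≠ 0 := by
    exact_mod_cast (Nat.card_pos (α := Subgroup.centralizer ((P : Subgroup G) : Set G))).ne'
  have hNC : (Nat.card (Subgroup.normalizer ((P : Subgroup G) : Set G)) : ℂ)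
      = 3 * (Nat.card (Subgroup.centralizer ((P : Subgroup G) : Set G)) : ℂ) := by
    rw [hcard]
    push_cast
    ring
  have hvalavg : ∀ ψ : (P : Subgroup G) →* ℂˣ, ψ ≠ 1 → ∀ w : (P : Subgroup G), w ≠ 1 →
      (Nat.card (Subgroup.centralizer ((P : Subgroup G) : Set G)) : ℂ) * (ζ ψ : G → ℂ) (w : G)
        = (δ : ℂ) * ∑ x : Subgroup.normalizer ((P : Subgroup G) : Set G),
          (((dualConj (P : Subgroup G) x ψ) w : ℂˣ) : ℂ) := by
    intro ψ hψ w hw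
    rw [hvalY ψ hψ w hw, hset ψ hψ, ← orbit_sum_eq (P : Subgroup G) hfix ψ hψ w]
    ring
  have hδ3 : (δ : ℂ) ^ 3 = δ := by rcases hδ with rfl | rfl <;> norm_num
  have hsumψ : ∑ ψ ∈ Finset.univ.filter (fun ψ : (P : Subgroup G) →* ℂˣ => ψ ≠ 1),
      (ζ ψ : G → ℂ) (y : G) * (ζ ψ : G → ℂ) (t₀ : G) ^ 2 = -27 * (δ : ℂ) := by
    have h3 : ∑ ψ ∈ Finset.univ.filter (fun ψ : (P : Subgroup G) →* ℂˣ => ψ ≠ 1),
        (∑ x : Subgroup.normalizer ((P : Subgroup G) : Set G),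
            (((dualConj (P : Subgroup G) x ψ) y : ℂˣ) : ℂ))
          * (∑ x : Subgroup.normalizer ((P : Subgroup G) : Set G),
            (((dualConj (P : Subgroup G) x ψ) t₀ : ℂˣ) : ℂ)) ^ 2
        = -((Nat.card (Subgroup.normalizer ((P : Subgroup G) : Set G)) : ℂ) ^ 3) := by
      convert triple_sum (P : Subgroup G) y t₀ hW'
    have hC3 : (Nat.card (Subgroup.centralizer ((P : Subgroup G) : Set G)) : ℂ) ^ 3 ≠ 0 :=
      pow_ne_zero 3 hcC
    apply mul_left_cancel₀ hC3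
    rw [Finset.mul_sum]
    have e : ∀ ψ ∈ Finset.univ.filter (fun ψ : (P : Subgroup G) →* ℂˣ => ψ ≠ 1),
        (Nat.card (Subgroup.centralizer ((P : Subgroup G) : Set G)) : ℂ) ^ 3
          * ((ζ ψ : G → ℂ) (y : G) * (ζ ψ : G → ℂ) (t₀ : G) ^ 2)
        = (δ : ℂ) ^ 3 * ((∑ x : Subgroup.normalizer ((P : Subgroup G) : Set G),
            (((dualConj (P : Subgroup G) x ψ) y : ℂˣ) : ℂ))
          * (∑ x : Subgroup.normalizer ((P : Subgroup G) : Set G),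
            (((dualConj (P : Subgroup G) x ψ) t₀ : ℂˣ) : ℂ)) ^ 2) := by
      intro ψ hψ
      have hψ1 : ψ ≠ 1 := (Finset.mem_filter.mp hψ).2
      have h1 := hvalavg ψ hψ1 y hy
      have h2 := hvalavg ψ hψ1 t₀ ht₀
      calc (Nat.card (Subgroup.centralizer ((P : Subgroup G) : Set G)) : ℂ) ^ 3
            * ((ζ ψ : G → ℂ) (y : G) * (ζ ψ : G → ℂ) (t₀ : G) ^ 2)
          = ((Nat.card (Subgroup.centralizer ((P : Subgroup G) : Set G)) : ℂ)
              * (ζ ψ : G → ℂ) (y : G))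
            * ((Nat.card (Subgroup.centralizer ((P : Subgroup G) : Set G)) : ℂ)
              * (ζ ψ : G → ℂ) (t₀ : G)) ^ 2 := by ring
        _ = _ := by
          rw [h1, h2]
          ring
    rw [Finset.sum_congr rfl e, ← Finset.mul_sum, h3, hNC, hδ3]
    ring
  have hfibre : ∀ η ∈ Yf, ((Finset.univ.filter
      (fun ψ : (P : Subgroup G) →* ℂˣ => ψ ≠ 1)).filter (fun ψ => ζ ψ = η)).card = 3 := by
    intro η hη
    obtain ⟨ψ₁, hψ₁, rfl⟩ := (hYf η).mp hη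
    rw [← hCN, ← card_orbit (P : Subgroup G) hfix ψ₁ hψ₁]
    symm
    apply Nat.subtype_card
    intro ψ'
    rw [Finset.mem_filter, Finset.mem_filter]
    constructor
    · rintro ⟨⟨-, h1⟩, h2⟩
      exact (hζR ψ₁ ψ' hψ₁ h1).mp h2.symm
    · rintro ⟨x, rfl⟩
      have h1 := dualConj_ne_one (P : Subgroup G) x ψ₁ hψ₁
      exact ⟨⟨Finset.mem_univ _, h1⟩, ((hζR ψ₁ _ hψ₁ h1).mpr ⟨x, rfl⟩).symm⟩
  have hfw := Finset.sum_fiberwise_of_maps_to
    (s := Finset.univ.filter (fun ψ : (P : Subgroup G) →* ℂˣ => ψ ≠ 1)) (t := Yf) (g := ζ)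
    (fun ψ hψ => (hYf _).mpr ⟨ψ, (Finset.mem_filter.mp hψ).2, rfl⟩)
    (fun ψ => (ζ ψ : G → ℂ) (y : G) * (ζ ψ : G → ℂ) (t₀ : G) ^ 2)
  rw [hsumψ] at hfw
  have e3 : ∀ η ∈ Yf, ∑ ψ ∈ (Finset.univ.filter
        (fun ψ : (P : Subgroup G) →* ℂˣ => ψ ≠ 1)).filter (fun ψ => ζ ψ = η),
        (ζ ψ : G → ℂ) (y : G) * (ζ ψ : G → ℂ) (t₀ : G) ^ 2
      = 3 * ((η : G → ℂ) (y : G) * (η : G → ℂ) (t₀ : G) ^ 2) := by
    intro η hη
    rw [Finset.sum_congr rfl (fun ψ hψ => by rw [(Finset.mem_filter.mp hψ).2] :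
        ∀ ψ ∈ (Finset.univ.filter
          (fun ψ : (P : Subgroup G) →* ℂˣ => ψ ≠ 1)).filter (fun ψ => ζ ψ = η),
        (ζ ψ : G → ℂ) (y : G) * (ζ ψ : G → ℂ) (t₀ : G) ^ 2
          = (η : G → ℂ) (y : G) * (η : G → ℂ) (t₀ : G) ^ 2),
      Finset.sum_const, hfibre η hη, nsmul_eq_mul]
    norm_num
  rw [Finset.sum_congr rfl e3, ← Finset.mul_sum] at hfw
  linear_combination (1 / 3 : ℂ) * hfw

end ysum

end Cfsg.Agent.Lib.Helper24
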