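import Mathlib
import Cfsg.Prelude.Def_Blocks
import Cfsg.Agent.Lib.Helper24.BLInv
import Cfsg.Agent.Lib.Helper24.BLTwoA
import Cfsg.Agent.Lib.Helper24.BLTwoB
import Cfsg.Agent.Lib.Helper25.CharSum

set_option autoImplicit false

namespace Cfsg.Agent.Lib.Helper24

open Cfsg Cfsg.Agent.Lib.Helper2 Cfsg.Agent.Lib.Helper8 Cfsg.Agent.Lib.Helper25

open scoped ComplexConjugate

section two

variable {G : Type*} [Group G] [Fintype G] {p : ℕ} [Fact p.Prime] {M : Ideal AlgInt}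

/-- the involution part of the structure of the principal block, even case: there is no
involution outside all proper normal subgroups -/
theorem bl_three_two (hM : IsPModular p M) (P : Sylow p G) [IsMulCommutative P]
    (hp2 : p = 2) (hm2 : 3 + 1 < Nat.card P)
    (hCN : (Subgroup.centralizer ((P : Subgroup G) : Set G)).relIndex
      (Subgroup.normalizer ((P : Subgroup G) : Set G)) = 3)
    (hfrob : ∀ y : G, y ∈ (P : Subgroup G) → y ≠ 1 →
      Subgroup.centralizer ({y} : Set G) ⊓ Subgroup.normalizer ((P : Subgroup G) : Set G)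
        = Subgroup.centralizer ((P : Subgroup G) : Set G))
    (δ a₂ a₃ : ℤ) (ζ : ((P : Subgroup G) →* ℂˣ) → IrrCharacter G)
    (Yf : Finset (IrrCharacter G)) (χ₂ χ₃ : IrrCharacter G)
    (hδ : δ = 1 ∨ δ = -1) (ha₂ : a₂ = 1 ∨ a₂ = -1) (ha₃ : a₃ = 1 ∨ a₃ = -1)
    (hBmem : ∀ χ, χ ∈ principalBlock M G ↔
      (χ = Cfsg.Agent.Lib.Helper8.trivIrr G ∨ χ = χ₂ ∨ χ = χ₃ ∨ χ ∈ Yf))
    (htY : Cfsg.Agent.Lib.Helper8.trivIrr G ∉ Yf) (h2Y : χ₂ ∉ Yf) (h3Y : χ₃ ∉ Yf)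
    (h2t : χ₂ ≠ Cfsg.Agent.Lib.Helper8.trivIrr G)
    (h3t : χ₃ ≠ Cfsg.Agent.Lib.Helper8.trivIrr G) (h23 : χ₂ ≠ χ₃)
    (hYcard : Yf.card * 3 = Nat.card P - 1)
    (hYf : ∀ η, η ∈ Yf ↔ ∃ ψ : (P : Subgroup G) →* ℂˣ, ψ ≠ 1 ∧ ζ ψ = η)
    (hζR : ∀ ψ ψ' : (P : Subgroup G) →* ℂˣ, ψ ≠ 1 → ψ' ≠ 1 →
      (ζ ψ = ζ ψ' ↔ ∃ x : Subgroup.normalizer ((P : Subgroup G) : Set G),
        ψ' = dualConj (P : Subgroup G) x ψ))
    (hv₂ : ∀ y : (P : Subgroup G), y ≠ 1 → (χ₂ : G → ℂ) (y : G) = (a₂ : ℂ))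
    (hv₃ : ∀ y : (P : Subgroup G), y ≠ 1 → (χ₃ : G → ℂ) (y : G) = (a₃ : ℂ))
    (hvalY : ∀ ψ : (P : Subgroup G) →* ℂˣ, ψ ≠ 1 → ∀ y : (P : Subgroup G), y ≠ 1 →
      (ζ ψ : G → ℂ) (y : G) = (δ : ℂ) *
        ∑ᶠ ψ' ∈ {ψ' : (P : Subgroup G) →* ℂˣ | ψ' ≠ 1 ∧ ζ ψ = ζ ψ'}, ((ψ' y : ℂˣ) : ℂ))
    (hreg : ∀ η ∈ Yf, ∀ g : G, ¬ p ∣ orderOf g →
      1 + (a₂ : ℂ) * (χ₂ : G → ℂ) g + (a₃ : ℂ) * (χ₃ : G → ℂ) g
        - (δ : ℂ) * (η : G → ℂ) g = 0)
    (t : G) (ht : orderOf t = 2) (hK : ∀ K : Subgroup G, K.Normal → t ∈ K → K = ⊤) :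
    False := by
  classical
  have hp : p.Prime := Fact.out
  have : Fintype (IrrCharacter G) := Fintype.ofFinite _
  have : Fintype (P : Subgroup G) := Fintype.ofFinite _
  have hB : IsPBlock M (principalBlock M G) := ⟨Cfsg.Agent.Lib.Helper8.trivIrr G, rfl⟩
  have h1reg : ¬ p ∣ orderOf (1 : G) := by
    rw [orderOf_one]
    exact fun h => hp.one_lt.ne' (Nat.dvd_one.mp h)
  have hfix := hfix_of_hfrob P hfrob
  have hcomm := sylow_comm P
  have hδ0 : (δ : ℂ) ≠ 0 := by rcases hδ with rfl | rfl <;> norm_num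
  -- conjugating the involution into `P`
  obtain ⟨g, hg⟩ := conj_mem_sylow P t ⟨1, by rw [ht, hp2, pow_one]⟩
  obtain ⟨t₀, ht₀def⟩ : ∃ t₀ : G, t₀ = g * t * g⁻¹ := ⟨_, rfl⟩
  rw [← ht₀def] at hg
  have htt : t * t = 1 := by
    have h := pow_orderOf_eq_one t
    rw [ht, pow_two] at h
    exact h
  have ht₀sq : t₀ * t₀ = 1 := by
    rw [ht₀def]
    calc g * t * g⁻¹ * (g * t * g⁻¹) = g * (t * t) * g⁻¹ := by group
      _ = 1 := by rw [htt]; group
  have ht₀1 : t₀ ≠ 1 := by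
    intro h
    rw [ht₀def] at h
    have h1 : t = 1 := by
      have e : t = g⁻¹ * (g * t * g⁻¹) * g := by group
      rw [e, h]
      group
    rw [h1, orderOf_one] at ht
    norm_num at ht
  have hK₀ : ∀ K : Subgroup G, K.Normal → t₀ ∈ K → K = ⊤ := by
    intro K hKn ht₀K
    apply hK K hKn
    have e : t = g⁻¹ * t₀ * g⁻¹⁻¹ := by
      rw [ht₀def]
      group
    rw [e]
    exact hKn.conj_mem t₀ ht₀K g⁻¹
  -- the order of `P`
  have hP16 : 16 ≤ Nat.card (P : Subgroup G) := by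
    obtain ⟨k, hk⟩ := (P.isPGroup').exists_card_eq
    have h4 : 3 + 1 < Nat.card (P : Subgroup G) := hm2
    have h5 : Yf.card * 3 = Nat.card (P : Subgroup G) - 1 := hYcard
    have hk' : Nat.card (P : Subgroup G) = 2 ^ k := hk.trans (by rw [hp2])
    have hk4 : 4 ≤ k := by
      by_contra hlt
      have hk3 : k = 0 ∨ k = 1 ∨ k = 2 ∨ k = 3 := by omega
      rcases hk3 with rfl | rfl | rfl | rfl
      · have h9 : Nat.card (P : Subgroup G) = 1 := by rw [hk']; norm_num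
        omega
      · have h9 : Nat.card (P : Subgroup G) = 2 := by rw [hk']; norm_num
        omega
      · have h9 : Nat.card (P : Subgroup G) = 4 := by rw [hk']; norm_num
        omega
      · have h9 : Nat.card (P : Subgroup G) = 8 := by rw [hk']; norm_num
        omega
    calc 16 = 2 ^ 4 := by norm_num
      _ ≤ 2 ^ k := Nat.pow_le_pow_right (by norm_num) hk4
      _ = Nat.card (P : Subgroup G) := hk'.symm
  -- an element of `P` which is not the inverse of a product of two conjugates of `t₀`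
  obtain ⟨y, hy1, hyW⟩ : ∃ y : (P : Subgroup G), y ≠ 1 ∧
      ∀ n₁ n₂ : G, n₁ ∈ Subgroup.normalizer ((P : Subgroup G) : Set G) →
        n₂ ∈ Subgroup.normalizer ((P : Subgroup G) : Set G) →
        (n₁ * t₀ * n₁⁻¹) * (n₂ * t₀ * n₂⁻¹) * (y : G) ≠ 1 := by
    have : Fintype (Subgroup.normalizer ((P : Subgroup G) : Set G) ⧸
        (Subgroup.centralizer ((P : Subgroup G) : Set G)).subgroupOf
          (Subgroup.normalizer ((P : Subgroup G) : Set G))) := Fintype.ofFinite _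
    obtain ⟨O, hOdef⟩ : ∃ O : Finset G, O = Finset.univ.image
        (fun q : Subgroup.normalizer ((P : Subgroup G) : Set G) ⧸
          (Subgroup.centralizer ((P : Subgroup G) : Set G)).subgroupOf
            (Subgroup.normalizer ((P : Subgroup G) : Set G)) =>
          ((q.out : Subgroup.normalizer ((P : Subgroup G) : Set G)) : G) * t₀
            * ((q.out : Subgroup.normalizer ((P : Subgroup G) : Set G)) : G)⁻¹) := ⟨_, rfl⟩
    have hO : ∀ n ∈ Subgroup.normalizer ((P : Subgroup G) : Set G), n * t₀ * n⁻¹ ∈ O := by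
      intro n hn
      obtain ⟨c, hc⟩ := QuotientGroup.mk_out_eq_mul
        ((Subgroup.centralizer ((P : Subgroup G) : Set G)).subgroupOf
          (Subgroup.normalizer ((P : Subgroup G) : Set G)))
        (⟨n, hn⟩ : Subgroup.normalizer ((P : Subgroup G) : Set G))
      rw [hOdef]
      refine Finset.mem_image.mpr ⟨(QuotientGroup.mk
        (⟨n, hn⟩ : Subgroup.normalizer ((P : Subgroup G) : Set G)) :
          Subgroup.normalizer ((P : Subgroup G) : Set G) ⧸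
          (Subgroup.centralizer ((P : Subgroup G) : Set G)).subgroupOf
            (Subgroup.normalizer ((P : Subgroup G) : Set G))), Finset.mem_univ _, ?_⟩
      · rw [hc]
        have hcC : ((c : Subgroup.normalizer ((P : Subgroup G) : Set G)) : G)
            ∈ Subgroup.centralizer ((P : Subgroup G) : Set G) := Subgroup.mem_subgroupOf.mp c.2
        have hcomm' : t₀ * ((c : Subgroup.normalizer ((P : Subgroup G) : Set G)) : G)
            = ((c : Subgroup.normalizer ((P : Subgroup G) : Set G)) : G) * t₀ :=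
          Subgroup.mem_centralizer_iff.mp hcC t₀ hg
        show (n * ((c : Subgroup.normalizer ((P : Subgroup G) : Set G)) : G)) * t₀
          * (n * ((c : Subgroup.normalizer ((P : Subgroup G) : Set G)) : G))⁻¹ = n * t₀ * n⁻¹
        calc (n * ((c : Subgroup.normalizer ((P : Subgroup G) : Set G)) : G)) * t₀
              * (n * ((c : Subgroup.normalizer ((P : Subgroup G) : Set G)) : G))⁻¹
            = n * (((c : Subgroup.normalizer ((P : Subgroup G) : Set G)) : G) * t₀)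
              * ((c : Subgroup.normalizer ((P : Subgroup G) : Set G)) : G)⁻¹ * n⁻¹ := by group
          _ = n * (t₀ * ((c : Subgroup.normalizer ((P : Subgroup G) : Set G)) : G))
              * ((c : Subgroup.normalizer ((P : Subgroup G) : Set G)) : G)⁻¹ * n⁻¹ := by
            rw [hcomm']
          _ = n * t₀ * n⁻¹ := by group
    have hOcard : O.card ≤ 3 := by
      rw [hOdef]
      refine le_trans Finset.card_image_le ?_
      rw [Finset.card_univ, ← Nat.card_eq_fintype_card, ← Subgroup.index_eq_card]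
      exact le_of_eq hCN
    obtain ⟨W, hWdef⟩ : ∃ W : Finset G,
        W = (O ×ˢ O).image (fun q : G × G => (q.1 * q.2)⁻¹) := ⟨_, rfl⟩
    have hWcard : W.card ≤ 9 := by
      rw [hWdef]
      calc ((O ×ˢ O).image (fun q : G × G => (q.1 * q.2)⁻¹)).card ≤ (O ×ˢ O).card :=
            Finset.card_image_le
        _ = O.card * O.card := Finset.card_product _ _
        _ ≤ 3 * 3 := Nat.mul_le_mul hOcard hOcard
    by_contra hno
    have hall : ∀ y : (P : Subgroup G), y ≠ 1 → (y : G) ∈ W := by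
      intro y hy
      by_contra hyW
      apply hno
      refine ⟨y, hy, ?_⟩
      intro n₁ n₂ hn₁ hn₂ h
      apply hyW
      rw [hWdef]
      refine Finset.mem_image.mpr ⟨(n₁ * t₀ * n₁⁻¹, n₂ * t₀ * n₂⁻¹),
        Finset.mem_product.mpr ⟨hO n₁ hn₁, hO n₂ hn₂⟩, ?_⟩
      show (n₁ * t₀ * n₁⁻¹ * (n₂ * t₀ * n₂⁻¹))⁻¹ = (y : G)
      exact (eq_inv_of_mul_eq_one_right h).symm
    have hcardle : (Finset.univ.erase (1 : (P : Subgroup G))).card ≤ W.card := by
      apply Finset.card_le_card_of_injOn (fun y : (P : Subgroup G) => (y : G))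
      · intro y hy
        exact Finset.mem_coe.mpr (hall y (Finset.ne_of_mem_erase (Finset.mem_coe.mp hy)))
      · intro a _ b _ hab'
        exact Subtype.ext hab'
    rw [Finset.card_erase_of_mem (Finset.mem_univ _), Finset.card_univ,
      ← Nat.card_eq_fintype_card] at hcardle
    omega
  have hyP : (y : G) ∈ (P : Subgroup G) := y.2
  have hyG1 : (y : G) ≠ 1 := fun h => hy1 (Subtype.ext h)
  have hypow := sylow_orderOf P (y : G) hyP
  -- vanishing of the counting function on the section of `y`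
  have hvan : ∀ c : G, (y : G) * c = c * (y : G) → ¬ p ∣ orderOf c →
      conv (colFun t₀) (colFun t₀) ((y : G) * c)⁻¹ = 0 := by
    intro c hc hcp
    by_contra hne
    obtain ⟨u, v, hcu, hcv, huv⟩ := conv_ne_zero_conj t₀ _ hne
    obtain ⟨gu, hgu⟩ := isConj_iff.mp hcu
    obtain ⟨gv, hgv⟩ := isConj_iff.mp hcv
    have hu_eq : u = gu⁻¹ * t₀ * gu := by
      rw [← hgu]
      group
    have hv_eq : v = gv⁻¹ * t₀ * gv := by
      rw [← hgv]
      group
    have huu : u * u = 1 := by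
      rw [hu_eq]
      calc gu⁻¹ * t₀ * gu * (gu⁻¹ * t₀ * gu) = gu⁻¹ * (t₀ * t₀) * gu := by group
        _ = 1 := by rw [ht₀sq]; group
    have hvv : v * v = 1 := by
      rw [hv_eq]
      calc gv⁻¹ * t₀ * gv * (gv⁻¹ * t₀ * gv) = gv⁻¹ * (t₀ * t₀) * gv := by group
        _ = 1 := by rw [ht₀sq]; group
    have huinv : u⁻¹ = u := (eq_inv_of_mul_eq_one_left huu).symm
    have hvinv : v⁻¹ = v := (eq_inv_of_mul_eq_one_left hvv).symm
    have e : (y : G) * c = v * u := by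
      have h1 : ((y : G) * c)⁻¹⁻¹ = (u * v)⁻¹ := by rw [huv]
      rw [inv_inv, mul_inv_rev, huinv, hvinv] at h1
      exact h1
    have hinv : u * ((y : G) * c) * u⁻¹ = ((y : G) * c)⁻¹ := by
      calc u * ((y : G) * c) * u⁻¹ = u * (v * u) * u := by rw [e, huinv]
        _ = u * v * (u * u) := by group
        _ = u * v := by rw [huu, mul_one]
        _ = ((y : G) * c)⁻¹ := huv
    have hyinv := inverted_ppart (y : G) c u hypow hc hcp hinv
    have hysq := inverted_sq P hCN hfrob (y : G) hyP u hyinv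
    have hy_inv : (y : G)⁻¹ = (y : G) := (eq_inv_of_mul_eq_one_left hysq).symm
    have hu_comm : u * (y : G) = (y : G) * u := by
      rw [hy_inv] at hyinv
      calc u * (y : G) = (u * (y : G) * u⁻¹) * u := by group
        _ = (y : G) * u := by rw [hyinv]
    have hv_comm : v * (y : G) = (y : G) * v := by
      have hv' : v = u⁻¹ * ((y : G) * c)⁻¹ := by
        rw [← huv]
        group
      have hmem : v ∈ Subgroup.centralizer ({(y : G)} : Set G) := by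
        rw [hv']
        refine mul_mem (inv_mem ?_) (inv_mem (mul_mem ?_ ?_))
        · exact Subgroup.mem_centralizer_singleton_iff.mpr hu_comm
        · exact Subgroup.mem_centralizer_singleton_iff.mpr rfl
        · exact Subgroup.mem_centralizer_singleton_iff.mpr hc.symm
      exact Subgroup.mem_centralizer_singleton_iff.mp hmem
    have hpow2 : ∀ w : G, w * w = 1 → ∃ k : ℕ, orderOf w = p ^ k := by
      intro w hw
      have hdvd : orderOf w ∣ p ^ 1 := by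
        rw [hp2, pow_one]
        exact orderOf_dvd_of_pow_eq_one (by rw [pow_two]; exact hw)
      obtain ⟨j, -, hj⟩ := (Nat.dvd_prime_pow hp).mp hdvd
      exact ⟨j, hj⟩
    have huv' : u * v * ((y : G) * c) = 1 := by
      rw [huv]
      exact inv_mul_cancel _
    obtain ⟨g₁, g₂, hg₁P, hg₂P, hprod⟩ := section_product P hcomm hfix (y : G) hyP hyG1 c u v
      hc hcp hu_comm hv_comm (hpow2 u huu) (hpow2 v hvv) huv'
    have e₁ : g₁ * u * g₁⁻¹ = (g₁ * gu⁻¹) * t₀ * (g₁ * gu⁻¹)⁻¹ := by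
      rw [hu_eq]
      group
    have e₂ : g₂ * v * g₂⁻¹ = (g₂ * gv⁻¹) * t₀ * (g₂ * gv⁻¹)⁻¹ := by
      rw [hv_eq]
      group
    rw [e₁] at hg₁P hprod
    rw [e₂] at hg₂P hprod
    obtain ⟨n₁, hn₁, hn₁'⟩ := fusion_abelian_sylow P t₀ (g₁ * gu⁻¹) hg hg₁P
    obtain ⟨n₂, hn₂, hn₂'⟩ := fusion_abelian_sylow P t₀ (g₂ * gv⁻¹) hg hg₂P
    rw [← hn₁', ← hn₂'] at hprod
    exact hyW n₁ n₂ hn₁ hn₂ hprod
  -- the block sum relation at `y`
  have hsum := sum_block_sq_of_vanish hM (principalBlock M G) hB t₀ (y : G) hypow hvan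
  have hsplit := block_sum_split (principalBlock M G) (Cfsg.Agent.Lib.Helper8.trivIrr G)
    χ₂ χ₃ Yf hBmem htY h2Y h3Y h2t h3t h23
  rw [hsplit (fun χ => (χ : G → ℂ) (y : G) * ((χ : G → ℂ) t₀ ^ 2 / (χ : G → ℂ) 1))] at hsum
  obtain ⟨η₀, hη₀⟩ : ∃ η, η ∈ Yf := by
    apply Finset.card_pos.mp
    have h5 : Yf.card * 3 = Nat.card (P : Subgroup G) - 1 := hYcard
    omega
  obtain ⟨x₂, hx₂, hx₂pos, -, -⟩ := irr_degree χ₂
  obtain ⟨x₃, hx₃, hx₃pos, -, -⟩ := irr_degree χ₃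
  obtain ⟨x₄, hx₄, hx₄pos, -, -⟩ := irr_degree η₀
  have hx₂0 : (x₂ : ℂ) ≠ 0 := by exact_mod_cast hx₂pos.ne'
  have hx₃0 : (x₃ : ℂ) ≠ 0 := by exact_mod_cast hx₃pos.ne'
  have hx₄0 : (x₄ : ℂ) ≠ 0 := by exact_mod_cast hx₄pos.ne'
  have hYreg1 : ∀ η' ∈ Yf, (η' : G → ℂ) 1 = (x₄ : ℂ) := by
    intro η' hη'
    have h1 := hreg η₀ hη₀ 1 h1reg
    have h2 := hreg η' hη' 1 h1reg
    rw [← hx₄]
    apply mul_left_cancel₀ hδ0
    linear_combination h1 - h2
  have hR1 : (1 : ℂ) + a₂ * x₂ + a₃ * x₃ - δ * x₄ = 0 := by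
    have h := hreg η₀ hη₀ 1 h1reg
    rw [hx₂, hx₃, hx₄] at h
    exact h
  have R1 : 1 + a₂ * (x₂ : ℤ) + a₃ * x₃ - δ * x₄ = 0 := by
    have h' : ((1 + a₂ * (x₂ : ℤ) + a₃ * x₃ - δ * x₄ : ℤ) : ℂ) = 0 := by
      push_cast
      linear_combination hR1
    exact_mod_cast h'
  have ht₀P1 : (⟨t₀, hg⟩ : (P : Subgroup G)) ≠ 1 := fun h => ht₀1 (congrArg Subtype.val h)
  have hYs := ysum_eq P hfix hCN δ hδ ζ Yf hYf hζR hvalY y ⟨t₀, hg⟩ hy1 ht₀P1 hyW
  have e4 : ∑ η' ∈ Yf, (η' : G → ℂ) (y : G) * ((η' : G → ℂ) t₀ ^ 2 / (η' : G → ℂ) 1)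
      = (-9 * (δ : ℂ)) / (x₄ : ℂ) := by
    rw [← hYs, Finset.sum_div]
    apply Finset.sum_congr rfl
    intro η' hη'
    rw [hYreg1 η' hη']
    ring
  have e1 : ∀ g : G, ((Cfsg.Agent.Lib.Helper8.trivIrr G : IrrCharacter G) : G → ℂ) g = 1 :=
    fun _ => rfl
  have hv₂t : (χ₂ : G → ℂ) t₀ = (a₂ : ℂ) := hv₂ ⟨t₀, hg⟩ ht₀P1
  have hv₃t : (χ₃ : G → ℂ) t₀ = (a₃ : ℂ) := hv₃ ⟨t₀, hg⟩ ht₀P1
  have ha₂sq : (a₂ : ℂ) ^ 2 = 1 := by rcases ha₂ with h | h <;> rw [h] <;> norm_num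
  have ha₃sq : (a₃ : ℂ) ^ 2 = 1 := by rcases ha₃ with h | h <;> rw [h] <;> norm_num
  rw [e1, e1, e1, hv₂ y hy1, hv₃ y hy1, hv₂t, hv₃t, hx₂, hx₃, e4, ha₂sq, ha₃sq] at hsum
  have R2 : (x₂ : ℤ) * x₃ * x₄ + a₂ * x₃ * x₄ + a₃ * x₂ * x₄ - 9 * δ * x₂ * x₃ = 0 := by
    have key : ((x₂ : ℂ) * x₃ * x₄ + a₂ * x₃ * x₄ + a₃ * x₂ * x₄ - 9 * δ * x₂ * x₃)
        = ((x₂ : ℂ) * x₃ * x₄) * ((1 : ℂ) * ((1 : ℂ) ^ 2 / 1) + (a₂ : ℂ) * (1 / (x₂ : ℂ))
          + (a₃ : ℂ) * (1 / (x₃ : ℂ)) + -9 * (δ : ℂ) / (x₄ : ℂ)) := by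
      field_simp
      ring
    have h' : (((x₂ : ℤ) * x₃ * x₄ + a₂ * x₃ * x₄ + a₃ * x₂ * x₄ - 9 * δ * x₂ * x₃ : ℤ) : ℂ)
        = 0 := by
      push_cast
      rw [key, hsum, mul_zero]
    exact_mod_cast h'
  -- the degree bounds
  have hdeg : ∀ (χ : IrrCharacter G) (a : ℤ) (x : ℕ), (χ : G → ℂ) 1 = (x : ℂ) →
      (∀ w : (P : Subgroup G), w ≠ 1 → (χ : G → ℂ) (w : G) = (a : ℂ)) → a = -1 → 15 ≤ x := by
    intro χ a x hx hv ha
    obtain ⟨d, hd⟩ := sum_subgroup_char (χ : G → ℂ) (isCharacter_of_isIrrCharacter χ.2)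
      (P : Subgroup G)
    have hsplitP : ∑ w : (P : Subgroup G), (χ : G → ℂ) (w : G)
        = (χ : G → ℂ) ((1 : (P : Subgroup G)) : G)
          + ∑ w ∈ Finset.univ.erase (1 : (P : Subgroup G)), (χ : G → ℂ) (w : G) :=
      (Finset.add_sum_erase Finset.univ (fun w : (P : Subgroup G) => (χ : G → ℂ) (w : G))
        (Finset.mem_univ _)).symm
    have hcard1 : 1 ≤ Nat.card (P : Subgroup G) := by omega
    have e : ∑ w ∈ Finset.univ.erase (1 : (P : Subgroup G)), (χ : G → ℂ) (w : G)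
        = ((Nat.card (P : Subgroup G) : ℂ) - 1) * (a : ℂ) := by
      rw [Finset.sum_congr rfl (fun w hw => hv w (Finset.ne_of_mem_erase hw)), Finset.sum_const,
        Finset.card_erase_of_mem (Finset.mem_univ _), Finset.card_univ,
        ← Nat.card_eq_fintype_card, nsmul_eq_mul, Nat.cast_sub hcard1, Nat.cast_one]
    have hx' : (χ : G → ℂ) ((1 : (P : Subgroup G)) : G) = (x : ℂ) := hx
    rw [hsplitP, e, ha, hx'] at hd
    have h3 : (x : ℤ) - ((Nat.card (P : Subgroup G) : ℤ) - 1)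
        = (Nat.card (P : Subgroup G) : ℤ) * d := by
      have h4 : (((x : ℤ) - ((Nat.card (P : Subgroup G) : ℤ) - 1) : ℤ) : ℂ)
          = (((Nat.card (P : Subgroup G) : ℤ) * d : ℤ) : ℂ) := by
        push_cast
        push_cast at hd
        linear_combination hd
      exact_mod_cast h4
    have h5 : (0 : ℤ) ≤ (Nat.card (P : Subgroup G) : ℤ) * d := by positivity
    have h6 : (16 : ℤ) ≤ (Nat.card (P : Subgroup G) : ℤ) := by exact_mod_cast hP16
    have h7 : (15 : ℤ) ≤ (x : ℤ) := by linarith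
    exact_mod_cast h7
  obtain ⟨h₂a, h₂x⟩ := four_term_two a₂ a₃ δ ha₂ ha₃ hδ x₂ x₃ x₄ hx₂pos hx₃pos hx₄pos
    (hdeg χ₂ a₂ x₂ hx₂ hv₂) (hdeg χ₃ a₃ x₃ hx₃ hv₃) R1 R2
  have hχ₂ne : (χ₂ : G → ℂ) ≠ fun _ => 1 := fun h => h2t (Subtype.ext h)
  apply not_ker_of_top χ₂ hχ₂ne t₀ hK₀
  rw [hv₂t, hx₂, h₂a, h₂x]
  norm_num

end two

end Cfsg.Agent.Lib.Helper24
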