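import Cfsg.Agent.S4426

set_option autoImplicit false

/-!
The integer matrix of truncated inner products `[χ̃, ξ]` of irreducible characters, where `χ̃`
is `p ^ a * χ` on the `p`-regular elements and zero elsewhere: symmetry, the sum of squares of
a row, divisibility by the `p`-parts of the degrees, and the behaviour for characters of
height zero and of positive height.
-/

namespace Cfsg.Agent.Lib.Helper24

open Cfsg Cfsg.Agent.Lib.Helper2 Cfsg.Agent.Lib.Helper25 Cfsg.Agent.S4426

open scoped ComplexConjugate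

section mat

variable {G : Type*} [Group G] [Fintype G]

/-- the integer `[χ̃, ξ]` -/
noncomputable def mInt (p : ℕ) [Fact p.Prime] (χ ξ : IrrCharacter G) : ℤ :=
  (trunc_int p χ ξ).choose

theorem mInt_spec (p : ℕ) [Fact p.Prime] (χ ξ : IrrCharacter G) :
    classInner (trunc p (χ : G → ℂ)) (ξ : G → ℂ) = (mInt p χ ξ : ℂ) :=
  (trunc_int p χ ξ).choose_spec

theorem mInt_symm (p : ℕ) [Fact p.Prime] (χ ξ : IrrCharacter G) : mInt p χ ξ = mInt p ξ χ := by
  have h1 := trunc_symm_int p (χ : G → ℂ) (ξ : G → ℂ) (mInt p χ ξ) (mInt_spec p χ ξ)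
  rw [mInt_spec p ξ χ] at h1
  exact_mod_cast h1.symm

/-- the sum of the squares of a row -/
theorem mInt_sum_sq (p : ℕ) [Fact p.Prime] [Fintype (IrrCharacter G)] (χ : IrrCharacter G) :
    ∑ ψ : IrrCharacter G, mInt p χ ψ ^ 2
      = (p : ℤ) ^ (Nat.card G).factorization p * mInt p χ χ := by
  have hcf : IsClassFunction G (trunc p (χ : G → ℂ)) :=
    trunc_isClassFunction p (isClassFunction_of_isIrrCharacter χ.2)
  have hexp : trunc p (χ : G → ℂ)
      = ∑ ψ : IrrCharacter G, (mInt p χ ψ : ℂ) • (ψ : G → ℂ) := by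
    have h := class_fun_expand (trunc p (χ : G → ℂ)) hcf
    refine h.trans ?_
    apply Finset.sum_congr rfl
    intro ψ _
    rw [mInt_spec]
  have h1 : classInner (trunc p (χ : G → ℂ)) (trunc p (χ : G → ℂ))
      = ∑ ψ : IrrCharacter G, (mInt p χ ψ : ℂ) * (mInt p χ ψ : ℂ) := by
    conv_lhs => rw [hexp]
    rw [classInner_sum_right]
    apply Finset.sum_congr rfl
    intro ψ _
    rw [classInner_smul_right, ← hexp, mInt_spec]
    simp
  have h2 : classInner (trunc p (χ : G → ℂ)) (trunc p (χ : G → ℂ))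
      = (p : ℂ) ^ (Nat.card G).factorization p * (mInt p χ χ : ℂ) := by
    have e : ∀ y : G, trunc p (χ : G → ℂ) y * conj (trunc p (χ : G → ℂ) y)
        = (p : ℂ) ^ (Nat.card G).factorization p
          * (trunc p (χ : G → ℂ) y * conj ((χ : G → ℂ) y)) := by
      intro y
      simp only [trunc]
      split_ifs
      · simp
      · simp only [map_mul, Complex.conj_natCast]
        push_cast
        ring
    rw [← mInt_spec, classInner_def, classInner_def, Finset.sum_congr rfl (fun y _ => e y),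
      ← Finset.mul_sum]
    ring
  have h3 : ((∑ ψ : IrrCharacter G, mInt p χ ψ ^ 2 : ℤ) : ℂ)
      = (((p : ℤ) ^ (Nat.card G).factorization p * mInt p χ χ : ℤ) : ℂ) := by
    rw [h1] at h2
    push_cast
    rw [← h2]
    apply Finset.sum_congr rfl
    intro ψ _
    ring
  exact_mod_cast h3

/-- the entries outside the block vanish -/
theorem mInt_eq_zero_of_not_mem {p : ℕ} [Fact p.Prime] {M : Ideal AlgInt} (hM : IsPModular p M)
    (B : Set (IrrCharacter G)) (hB : IsPBlock M B) (χ : IrrCharacter G) (hχ : χ ∈ B)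
    (ψ : IrrCharacter G) (hψ : ψ ∉ B) : mInt p χ ψ = 0 := by
  by_contra hne
  apply hψ
  apply mem_of_inner_ne_zero hM B hB χ hχ ψ
  rw [mInt_spec]
  exact_mod_cast hne

/-- the entries are divisible by the `p`-part of the degree of the second character -/
theorem pow_dvd_mInt_right (p : ℕ) [Fact p.Prime] (χ ξ : IrrCharacter G) :
    (p : ℤ) ^ (charDegree (ξ : G → ℂ)).factorization p ∣ mInt p χ ξ := by
  rw [padicValInt_dvd_iff]
  by_cases h0 : mInt p χ ξ = 0
  · exact Or.inl h0
  · exact Or.inr (le_padic_of p χ ξ _ (mInt_spec p χ ξ) h0)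

/-- the entries are divisible by the `p`-part of the degree of the first character -/
theorem pow_dvd_mInt_left (p : ℕ) [Fact p.Prime] (χ ξ : IrrCharacter G) :
    (p : ℤ) ^ (charDegree (χ : G → ℂ)).factorization p ∣ mInt p χ ξ := by
  rw [mInt_symm]
  exact pow_dvd_mInt_right p ξ χ

/-- the row of a character of height zero -/
theorem mInt_of_height_zero {p : ℕ} [Fact p.Prime] {M : Ideal AlgInt} (hM : IsPModular p M)
    (B : Set (IrrCharacter G)) (hB : IsPBlock M B) (χ : IrrCharacter G) (hχ : χ ∈ B)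
    (h0 : blockHeight p B (χ : G → ℂ) = 0) (ξ : IrrCharacter G) (hξ : ξ ∈ B) :
    mInt p χ ξ ≠ 0 ∧ padicValInt p (mInt p χ ξ) = (charDegree (ξ : G → ℂ)).factorization p := by
  obtain ⟨n, hn, hn0, hnv⟩ := (Cfsg.Agent.S4426.result p M hM B hB χ hχ).2.mp h0 ξ hξ
  have hn' : classInner (trunc p (χ : G → ℂ)) (ξ : G → ℂ) = (n : ℂ) := hn
  rw [mInt_spec] at hn'
  have : mInt p χ ξ = n := by exact_mod_cast hn'
  rw [this]
  exact ⟨hn0, hnv⟩

/-- the diagonal entry of a character of positive height -/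
theorem pow_succ_dvd_mInt_self {p : ℕ} [Fact p.Prime] {M : Ideal AlgInt} (hM : IsPModular p M)
    (B : Set (IrrCharacter G)) (hB : IsPBlock M B) (χ : IrrCharacter G) (hχ : χ ∈ B)
    (hpos : blockHeight p B (χ : G → ℂ) ≠ 0) :
    (p : ℤ) ^ ((charDegree (χ : G → ℂ)).factorization p + 1) ∣ mInt p χ χ := by
  by_contra hnd
  apply hpos
  have h1 := pow_dvd_mInt_right p χ χ
  rw [padicValInt_dvd_iff] at h1 hnd
  have hz0 : mInt p χ χ ≠ 0 := fun h => hnd (Or.inl h)
  have hv : padicValInt p (mInt p χ χ) = (charDegree (χ : G → ℂ)).factorization p := by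
    rcases h1 with h1 | h1
    · exact absurd h1 hz0
    · have h2 : ¬ (charDegree (χ : G → ℂ)).factorization p + 1 ≤ padicValInt p (mInt p χ χ) :=
        fun h => hnd (Or.inr h)
      omega
  exact (Cfsg.Agent.S4426.result p M hM B hB χ hχ).1.mpr
    ⟨χ, hχ, mInt p χ χ, mInt_spec p χ χ, hz0, hv⟩

omit [Fintype G] in
/-- a nonempty set of irreducible characters has a member of height zero -/
theorem exists_height_zero (p : ℕ) (B : Set (IrrCharacter G)) (hne : B.Nonempty) :
    ∃ χ₀ ∈ B, blockHeight p B (χ₀ : G → ℂ) = 0 ∧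
      ∀ ξ ∈ B, (charDegree (χ₀ : G → ℂ)).factorization p
        ≤ (charDegree (ξ : G → ℂ)).factorization p := by
  have hSne : ((fun ψ : IrrCharacter G => (charDegree (ψ : G → ℂ)).factorization p) '' B).Nonempty :=
    hne.image _
  obtain ⟨χ₀, hχ₀, he⟩ := Nat.sInf_mem hSne
  have he' : (charDegree (χ₀ : G → ℂ)).factorization p
      = sInf ((fun ψ : IrrCharacter G => (charDegree (ψ : G → ℂ)).factorization p) '' B) := he
  refine ⟨χ₀, hχ₀, ?_, ?_⟩
  · unfold blockHeight
    rw [he', Nat.sub_self]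
  · intro ξ hξ
    rw [he']
    exact Nat.sInf_le ⟨ξ, hξ, rfl⟩

end mat

end Cfsg.Agent.Lib.Helper24
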