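import Mathlib

namespace Cfsg.Agent.Lib.Helper24

/-- Orbit-stabilizer for conjugation, in `Nat.card` form. -/
theorem conj_card_aux {G : Type*} [Group G] [Finite G] (g : G) :
    Nat.card (MulAction.orbit (ConjAct G) g) * Nat.card (Subgroup.centralizer ({g} : Set G)) =
      Nat.card G := by
  rw [Subgroup.nat_card_centralizer_nat_card_stabilizer, ← Nat.card_prod]
  exact Nat.card_congr ((MulAction.orbitProdStabilizerEquivGroup (ConjAct G) g).trans
    ConjAct.ofConjAct.toEquiv)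

/-- Camina pair: for `u ∉ N` the centralizer of `u` in `G` has the same order as the
centralizer of its image in `G ⧸ N`. -/
theorem cam_card {G : Type*} [Group G] [Finite G] (N : Subgroup G) [N.Normal]
    (hcam : ∀ g : G, g ∉ N → ∀ n ∈ N, ∃ x : G, x * g * x⁻¹ = g * n) (u : G) (hu : u ∉ N) :
    Nat.card (Subgroup.centralizer ({u} : Set G)) =
      Nat.card (Subgroup.centralizer ({(QuotientGroup.mk u : G ⧸ N)} : Set (G ⧸ N))) := by
  classical
  have h1 := conj_card_aux u
  have h2 := conj_card_aux (QuotientGroup.mk u : G ⧸ N)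
  have h3 : Nat.card G = Nat.card (G ⧸ N) * Nat.card N :=
    Subgroup.card_eq_card_quotient_mul_card_subgroup N
  have h4 : Nat.card (MulAction.orbit (ConjAct G) u) =
      Nat.card N * Nat.card (MulAction.orbit (ConjAct (G ⧸ N)) (QuotientGroup.mk u : G ⧸ N)) := by
    have hset : MulAction.orbit (ConjAct G) u = (QuotientGroup.mk : G → G ⧸ N) ⁻¹'
        (MulAction.orbit (ConjAct (G ⧸ N)) (QuotientGroup.mk u : G ⧸ N)) := by
      ext y
      rw [Set.mem_preimage, ConjAct.mem_orbit_conjAct, ConjAct.mem_orbit_conjAct, isConj_iff,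
        isConj_iff]
      constructor
      · rintro ⟨c, hc⟩
        refine ⟨QuotientGroup.mk c, ?_⟩
        rw [← hc]
        rfl
      · rintro ⟨c, hc⟩
        obtain ⟨c, rfl⟩ := QuotientGroup.mk_surjective c
        have h5 : ((c * y * c⁻¹ : G) : G ⧸ N) = (u : G ⧸ N) := hc
        have h6 : u⁻¹ * (c * y * c⁻¹) ∈ N := QuotientGroup.eq.1 h5.symm
        obtain ⟨x, hx⟩ := hcam u hu _ h6
        refine ⟨x⁻¹ * c, ?_⟩
        have h7 : x * u * x⁻¹ = c * y * c⁻¹ := by
          rw [hx]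
          group
        calc x⁻¹ * c * y * (x⁻¹ * c)⁻¹ = x⁻¹ * (c * y * c⁻¹) * x := by group
          _ = x⁻¹ * (x * u * x⁻¹) * x := by rw [h7]
          _ = u := by group
    rw [hset, Nat.card_congr (QuotientGroup.preimageMkEquivSubgroupProdSet N _), Nat.card_prod]
  have hGN : 0 < Nat.card (G ⧸ N) := Nat.card_pos
  have hNpos : 0 < Nat.card N := Nat.card_pos
  have hO : 0 < Nat.card (MulAction.orbit (ConjAct (G ⧸ N)) (QuotientGroup.mk u : G ⧸ N)) := by
    rcases Nat.eq_zero_or_pos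
      (Nat.card (MulAction.orbit (ConjAct (G ⧸ N)) (QuotientGroup.mk u : G ⧸ N))) with h0 | h0
    · rw [h0, zero_mul] at h2
      omega
    · exact h0
  have h8 : Nat.card N * Nat.card (MulAction.orbit (ConjAct (G ⧸ N)) (QuotientGroup.mk u : G ⧸ N)) *
      Nat.card (Subgroup.centralizer ({u} : Set G)) =
      Nat.card N * Nat.card (MulAction.orbit (ConjAct (G ⧸ N)) (QuotientGroup.mk u : G ⧸ N)) *
      Nat.card (Subgroup.centralizer ({(QuotientGroup.mk u : G ⧸ N)} : Set (G ⧸ N))) := by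
    calc Nat.card N * Nat.card (MulAction.orbit (ConjAct (G ⧸ N)) (QuotientGroup.mk u : G ⧸ N)) *
          Nat.card (Subgroup.centralizer ({u} : Set G))
        = Nat.card (MulAction.orbit (ConjAct G) u) *
          Nat.card (Subgroup.centralizer ({u} : Set G)) := by rw [h4]
      _ = Nat.card G := h1
      _ = Nat.card (G ⧸ N) * Nat.card N := h3
      _ = (Nat.card (MulAction.orbit (ConjAct (G ⧸ N)) (QuotientGroup.mk u : G ⧸ N)) *
          Nat.card (Subgroup.centralizer ({(QuotientGroup.mk u : G ⧸ N)} : Set (G ⧸ N)))) *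
          Nat.card N := by rw [h2]
      _ = Nat.card N * Nat.card (MulAction.orbit (ConjAct (G ⧸ N)) (QuotientGroup.mk u : G ⧸ N)) *
          Nat.card (Subgroup.centralizer ({(QuotientGroup.mk u : G ⧸ N)} : Set (G ⧸ N))) := by ring
  exact Nat.eq_of_mul_eq_mul_left (Nat.mul_pos hNpos hO) h8

/-- Camina pair with a supplement `G1` of `N`: centralizers of elements of `G1` outside `N`
lie in `G1`, and `(G1, N ⊓ G1)` is again a Camina pair. -/
theorem cam_supp {G : Type*} [Group G] [Finite G] (N : Subgroup G) [N.Normal]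
    (hcam : ∀ g : G, g ∉ N → ∀ n ∈ N, ∃ x : G, x * g * x⁻¹ = g * n) (G1 : Subgroup G)
    (hsup : G1 ⊔ N = ⊤) :
    (∀ u ∈ G1, u ∉ N → Subgroup.centralizer ({u} : Set G) ≤ G1) ∧
    (∀ u ∈ G1, u ∉ N → ∀ m ∈ N, m ∈ G1 → ∃ c ∈ G1, c * u * c⁻¹ = u * m) := by
  classical
  have key : ∀ u ∈ G1, u ∉ N → ∀ x : G, u⁻¹ * (x * u * x⁻¹) ∈ N →
      u⁻¹ * (x * u * x⁻¹) ∈ G1 → x ∈ G1 := by
    intro u hu1 huN
    let X : Set G := {x | u⁻¹ * (x * u * x⁻¹) ∈ N ⊓ G1}
    let D : Set G := {d | d ∈ G1 ∧ (QuotientGroup.mk d : G ⧸ N) ∈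
      Subgroup.centralizer ({(QuotientGroup.mk u : G ⧸ N)} : Set (G ⧸ N))}
    have hDX : D ⊆ X := by
      rintro d ⟨hd1, hd2⟩
      have h1 := Subgroup.mem_centralizer_iff.1 hd2 (QuotientGroup.mk u) (Set.mem_singleton _)
      have h2 : ((u * d : G) : G ⧸ N) = ((d * u : G) : G ⧸ N) := h1
      have h3 : (u * d)⁻¹ * (d * u) ∈ N := QuotientGroup.eq.1 h2
      have h4 := (inferInstance : N.Normal).conj_mem _ h3 d
      have h5 : d * ((u * d)⁻¹ * (d * u)) * d⁻¹ = u⁻¹ * (d * u * d⁻¹) := by group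
      rw [h5] at h4
      refine ⟨h4, ?_⟩
      exact G1.mul_mem (G1.inv_mem hu1) (G1.mul_mem (G1.mul_mem hd1 hu1) (G1.inv_mem hd1))
    have hXle : Nat.card X ≤ Nat.card (N ⊓ G1 : Subgroup G) *
        Nat.card (Subgroup.centralizer ({u} : Set G)) := by
      rw [← Nat.card_prod]
      have hrep : ∀ m : G, ∃ r : G, ∀ x : G, u⁻¹ * (x * u * x⁻¹) = m →
          u⁻¹ * (r * u * r⁻¹) = m := by
        intro m
        by_cases h : ∃ x : G, u⁻¹ * (x * u * x⁻¹) = m
        · obtain ⟨r, hr⟩ := h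
          exact ⟨r, fun _ _ => hr⟩
        · exact ⟨1, fun x hx => absurd ⟨x, hx⟩ h⟩
      choose rep hrep using hrep
      have hmemC : ∀ x : G, (rep (u⁻¹ * (x * u * x⁻¹)))⁻¹ * x ∈
          Subgroup.centralizer ({u} : Set G) := by
        intro x
        have h1 := hrep (u⁻¹ * (x * u * x⁻¹)) x rfl
        generalize rep (u⁻¹ * (x * u * x⁻¹)) = r at h1 ⊢
        have h2 : r * u * r⁻¹ = x * u * x⁻¹ := mul_left_cancel h1
        rw [Subgroup.mem_centralizer_iff]
        intro y hy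
        rw [Set.mem_singleton_iff] at hy
        rw [hy]
        have h3 : u = r⁻¹ * (x * u * x⁻¹) * r := by
          rw [← h2]
          group
        calc u * (r⁻¹ * x) = (r⁻¹ * (x * u * x⁻¹) * r) * (r⁻¹ * x) :=
              congrArg (· * (r⁻¹ * x)) h3
          _ = r⁻¹ * x * u := by group
      apply Nat.card_le_card_of_injective (fun x : X =>
        ((⟨u⁻¹ * ((x : G) * u * (x : G)⁻¹), x.2⟩ : (N ⊓ G1 : Subgroup G)),
          (⟨(rep (u⁻¹ * ((x : G) * u * (x : G)⁻¹)))⁻¹ * (x : G), hmemC x⟩ :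
            Subgroup.centralizer ({u} : Set G))))
      intro x x' hxx
      simp only [Prod.mk.injEq, Subtype.mk.injEq] at hxx
      obtain ⟨h1, h2⟩ := hxx
      rw [h1] at h2
      exact Subtype.ext (mul_left_cancel h2)
    have hDge : Nat.card (N ⊓ G1 : Subgroup G) *
        Nat.card (Subgroup.centralizer ({(QuotientGroup.mk u : G ⧸ N)} : Set (G ⧸ N))) ≤
        Nat.card D := by
      have hsec : ∀ k : G ⧸ N, ∃ g1 : G, g1 ∈ G1 ∧ (QuotientGroup.mk g1 : G ⧸ N) = k := by
        intro k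
        obtain ⟨g, rfl⟩ := QuotientGroup.mk_surjective k
        have hg : g ∈ G1 ⊔ N := hsup ▸ Subgroup.mem_top g
        obtain ⟨y, hy, z, hz, rfl⟩ := Subgroup.mem_sup_of_normal_right.1 hg
        refine ⟨y, hy, ?_⟩
        rw [QuotientGroup.eq]
        simpa using hz
      choose s hs1 hs2 using hsec
      have hmk : ∀ a : (N ⊓ G1 : Subgroup G) ×
          Subgroup.centralizer ({(QuotientGroup.mk u : G ⧸ N)} : Set (G ⧸ N)),
          ((s (a.2 : G ⧸ N) * (a.1 : G) : G) : G ⧸ N) = (a.2 : G ⧸ N) := by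
        intro a
        have h1 : ((a.1 : G) : G ⧸ N) = 1 := (QuotientGroup.eq_one_iff _).2 a.1.2.1
        rw [QuotientGroup.mk_mul, h1, mul_one, hs2]
      have hmemD : ∀ a : (N ⊓ G1 : Subgroup G) ×
          Subgroup.centralizer ({(QuotientGroup.mk u : G ⧸ N)} : Set (G ⧸ N)),
          s (a.2 : G ⧸ N) * (a.1 : G) ∈ D := by
        intro a
        refine ⟨G1.mul_mem (hs1 _) a.1.2.2, ?_⟩
        rw [hmk a]
        exact a.2.2
      rw [← Nat.card_prod]
      apply Nat.card_le_card_of_injective (fun a : (N ⊓ G1 : Subgroup G) ×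
          Subgroup.centralizer ({(QuotientGroup.mk u : G ⧸ N)} : Set (G ⧸ N)) =>
          (⟨s (a.2 : G ⧸ N) * (a.1 : G), hmemD a⟩ : D))
      intro a b hab
      simp only [Subtype.mk.injEq] at hab
      have h1 : (a.2 : G ⧸ N) = (b.2 : G ⧸ N) := by
        rw [← hmk a, ← hmk b, hab]
      have h2 : (a.1 : G) = (b.1 : G) := by
        rw [h1] at hab
        exact mul_left_cancel hab
      exact Prod.ext (Subtype.ext h2) (Subtype.ext h1)
    have hcard := cam_card N hcam u huN
    have hXD : D = X := by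
      apply Set.eq_of_subset_of_ncard_le hDX _ (Set.toFinite X)
      rw [← Nat.card_coe_set_eq, ← Nat.card_coe_set_eq]
      calc Nat.card X ≤ Nat.card (N ⊓ G1 : Subgroup G) *
            Nat.card (Subgroup.centralizer ({u} : Set G)) := hXle
        _ = Nat.card (N ⊓ G1 : Subgroup G) *
            Nat.card (Subgroup.centralizer ({(QuotientGroup.mk u : G ⧸ N)} : Set (G ⧸ N))) := by
              rw [hcard]
        _ ≤ Nat.card D := hDge
    intro x hx1 hx2
    have hxX : x ∈ X := ⟨hx1, hx2⟩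
    rw [← hXD] at hxX
    exact hxX.1
  constructor
  · intro u hu1 huN c hc
    have h1 : c * u * c⁻¹ = u := by
      have h2 := Subgroup.mem_centralizer_iff.1 hc u (Set.mem_singleton u)
      rw [← h2]
      group
    apply key u hu1 huN c
    · rw [h1]
      simp
    · rw [h1]
      simp
  · intro u hu1 huN m hmN hmG1
    obtain ⟨x, hx⟩ := hcam u huN m hmN
    refine ⟨x, key u hu1 huN x ?_ ?_, hx⟩
    · rw [hx]
      simpa using hmN
    · rw [hx]
      simpa using hmG1

end Cfsg.Agent.Lib.Helper24
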