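import Mathlib
import Cfsg.Prelude
import Cfsg.Agent.Lib.Helper2.ItoConv
import Cfsg.Agent.Lib.Helper25.Central

set_option autoImplicit false

/-!
A group of central type from a commutator condition: if `Z` is central, carries a faithful
linear character and every element outside `Z` has a nontrivial commutator in `Z`, then
there is a faithful irreducible character vanishing off `Z`, of degree `sqrt |H : Z|`.
-/

namespace Cfsg.Agent.Lib.Helper24

open Cfsg.Agent.Lib.Helper2 Cfsg.Agent.Lib.Helper25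

open scoped ComplexConjugate

theorem central_type_of_commutators {H : Type*} [Group H] [Finite H] (Z : Subgroup H)
    (hZ : Z ≤ Subgroup.center H) (lam : ↥Z →* ℂˣ) (hlam : Function.Injective lam)
    (hC : ∀ y : H, y ∉ Z → ∃ x : H, x * y * x⁻¹ * y⁻¹ ∈ Z ∧ x * y * x⁻¹ * y⁻¹ ≠ 1) :
    ∃ χ : Cfsg.IrrCharacter H, (∀ h : H, (χ : H → ℂ) h = (χ : H → ℂ) 1 → h = 1) ∧
      (Cfsg.charDegree (χ : H → ℂ)) ^ 2 = Z.index ∧ Subgroup.center H = Z := by
  classical
  letI : Fintype H := Fintype.ofFinite H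
  letI : Fintype ↥Z := Fintype.ofFinite ↥Z
  obtain ⟨χ, hχ, hne⟩ := exists_irr_over Z (isIrrCharacter_of_hom lam)
  -- values of `lam` have absolute value one
  have hunit : ∀ z : ↥Z, (lam z : ℂ) * conj (lam z : ℂ) = 1 := by
    intro z
    have hpow : (lam z : ℂ) ^ orderOf z = 1 := by
      rw [← Units.val_pow_eq_pow_val, ← map_pow, pow_orderOf_eq_one, map_one, Units.val_one]
    have hnorm : ‖(lam z : ℂ)‖ = 1 :=
      Complex.norm_eq_one_of_pow_eq_one hpow (orderOf_pos z).ne'
    rw [Complex.mul_conj, Complex.normSq_eq_norm_sq, hnorm]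
    simp
  -- the sum defining the inner product is nonzero
  have hS : (∑ z : ↥Z, χ (z : H) * conj (lam z : ℂ)) ≠ 0 := by
    intro h0
    apply hne
    unfold Cfsg.classInner
    rw [h0, mul_zero]
  -- central elements of `Z` act through `lam`
  have hstar : ∀ (c : ↥Z) (h : H), χ ((c : H) * h) = (lam c : ℂ) * χ h := by
    intro c h
    obtain ⟨n, ρ, hρ, hρχ⟩ := hχ
    obtain ⟨ω, hω⟩ := central_scalar ρ hρ (c : H) (hZ c.2)
    have hmul : ∀ g : H, χ ((c : H) * g) = ω * χ g := by
      intro g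
      rw [← hρχ]
      exact char_scalar_mul ρ hω g
    have hre : (∑ z : ↥Z, χ ((c * z : ↥Z) : H) * conj (lam (c * z) : ℂ))
        = ∑ z : ↥Z, χ (z : H) * conj (lam z : ℂ) :=
      Equiv.sum_comp (Equiv.mulLeft c) (fun z : ↥Z => χ (z : H) * conj (lam z : ℂ))
    have hre2 : (∑ z : ↥Z, χ ((c * z : ↥Z) : H) * conj (lam (c * z) : ℂ))
        = (ω * conj (lam c : ℂ)) * ∑ z : ↥Z, χ (z : H) * conj (lam z : ℂ) := by
      rw [Finset.mul_sum]
      apply Finset.sum_congr rfl
      intro z _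
      rw [Subgroup.coe_mul, hmul, map_mul, Units.val_mul, map_mul]
      ring
    rw [hre] at hre2
    have h1 : ω * conj (lam c : ℂ) = 1 := by
      have h2 : (ω * conj (lam c : ℂ) - 1) * (∑ z : ↥Z, χ (z : H) * conj (lam z : ℂ)) = 0 := by
        rw [sub_mul, one_mul, ← hre2, sub_self]
      rcases mul_eq_zero.mp h2 with h3 | h3
      · exact sub_eq_zero.mp h3
      · exact absurd h3 hS
    have h4 : ω = (lam c : ℂ) := by
      calc ω = ω * ((lam c : ℂ) * conj (lam c : ℂ)) := by rw [hunit, mul_one]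
        _ = (ω * conj (lam c : ℂ)) * (lam c : ℂ) := by ring
        _ = (lam c : ℂ) := by rw [h1, one_mul]
    rw [hmul, h4]
  have hcf := isClassFunction_of_isIrrCharacter hχ
  -- `χ` vanishes off `Z`
  have hvan : ∀ y : H, y ∉ Z → χ y = 0 := by
    intro y hy
    obtain ⟨x, hcZ, hc1⟩ := hC y hy
    have h1 : χ (x * y * x⁻¹) = χ y := hcf y x
    have h2 : x * y * x⁻¹ = (x * y * x⁻¹ * y⁻¹) * y := by group
    have h3 := hstar ⟨x * y * x⁻¹ * y⁻¹, hcZ⟩ y
    simp only at h3
    rw [← h2, h1] at h3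
    have h4 : (lam ⟨x * y * x⁻¹ * y⁻¹, hcZ⟩ : ℂ) ≠ 1 := by
      intro h5
      have h6 : lam ⟨x * y * x⁻¹ * y⁻¹, hcZ⟩ = 1 := Units.val_eq_one.mp h5
      have h7 : (⟨x * y * x⁻¹ * y⁻¹, hcZ⟩ : ↥Z) = 1 := by
        apply hlam
        rw [h6, map_one]
      exact hc1 (congrArg Subtype.val h7)
    have h8 : ((lam ⟨x * y * x⁻¹ * y⁻¹, hcZ⟩ : ℂ) - 1) * χ y = 0 := by
      rw [sub_mul, one_mul, ← h3, sub_self]
    rcases mul_eq_zero.mp h8 with h9 | h9
    · exact absurd (sub_eq_zero.mp h9) h4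
    · exact h9
  obtain ⟨d, hd0, hd⟩ := irr_apply_one hχ
  have hdc : (d : ℂ) ≠ 0 := by exact_mod_cast hd0.ne'
  have hdeg : Cfsg.charDegree χ = d := by
    unfold Cfsg.charDegree
    rw [hd]
    simp
  -- values on `Z`
  have hval : ∀ z : ↥Z, χ (z : H) = (lam z : ℂ) * (d : ℂ) := by
    intro z
    have := hstar z 1
    rw [mul_one, hd] at this
    exact this
  refine ⟨⟨χ, hχ⟩, ?_, ?_, ?_⟩
  · -- faithful
    intro h hh
    change χ h = χ 1 at hh
    by_cases hhZ : h ∈ Z
    · have h1 := hval ⟨h, hhZ⟩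
      simp only at h1
      rw [hh, hd] at h1
      have h2 : ((lam ⟨h, hhZ⟩ : ℂ) - 1) * (d : ℂ) = 0 := by
        rw [sub_mul, one_mul, ← h1, sub_self]
      rcases mul_eq_zero.mp h2 with h3 | h3
      · have h4 : lam ⟨h, hhZ⟩ = 1 := Units.val_eq_one.mp (sub_eq_zero.mp h3)
        have h5 : (⟨h, hhZ⟩ : ↥Z) = 1 := by
          apply hlam
          rw [h4, map_one]
        exact congrArg Subtype.val h5
      · exact absurd h3 hdc
    · exfalso
      rw [hvan h hhZ, hd] at hh
      exact hdc hh.symm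
  · -- degree
    change (Cfsg.charDegree χ) ^ 2 = Z.index
    rw [hdeg]
    have hnorm := classInner_irr_self hχ
    unfold Cfsg.classInner at hnorm
    have hsum : (∑ g : H, χ g * conj (χ g)) = (Nat.card ↥Z : ℂ) * (d : ℂ) ^ 2 := by
      have h1 : (∑ g : H, χ g * conj (χ g))
          = ∑ g ∈ Finset.univ.filter (fun g : H => g ∈ Z), χ g * conj (χ g) := by
        symm
        apply Finset.sum_filter_of_ne
        intro g _ hg
        by_contra hgZ
        apply hg
        rw [hvan g hgZ, zero_mul]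
      rw [h1]
      have h2 : (∑ g ∈ Finset.univ.filter (fun g : H => g ∈ Z), χ g * conj (χ g))
          = ∑ z : ↥Z, χ (z : H) * conj (χ (z : H)) := by
        rw [Finset.sum_subtype (Finset.univ.filter (fun g : H => g ∈ Z))
          (p := fun g : H => g ∈ Z) (by intro x; simp) (fun g => χ g * conj (χ g))]
      rw [h2]
      have h3 : ∀ z : ↥Z, χ (z : H) * conj (χ (z : H)) = (d : ℂ) ^ 2 := by
        intro z
        rw [hval z, map_mul, Complex.conj_natCast]
        calc (lam z : ℂ) * (d : ℂ) * (conj (lam z : ℂ) * (d : ℂ))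
            = ((lam z : ℂ) * conj (lam z : ℂ)) * (d : ℂ) ^ 2 := by ring
          _ = (d : ℂ) ^ 2 := by rw [hunit, one_mul]
      rw [Finset.sum_congr rfl (fun z _ => h3 z), Finset.sum_const, Finset.card_univ,
        nsmul_eq_mul, Nat.card_eq_fintype_card]
    rw [hsum] at hnorm
    have hHc : (Nat.card H : ℂ) ≠ 0 := by
      have : Nat.card H ≠ 0 := Nat.card_pos.ne'
      exact_mod_cast this
    have h4 : (Nat.card ↥Z : ℂ) * (d : ℂ) ^ 2 = (Nat.card H : ℂ) := by
      field_simp at hnorm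
      exact hnorm
    have h5 : Nat.card ↥Z * d ^ 2 = Nat.card H := by exact_mod_cast h4
    have h6 := Subgroup.card_mul_index Z
    rw [← h6] at h5
    exact Nat.eq_of_mul_eq_mul_left Nat.card_pos h5
  · -- center
    apply le_antisymm
    · intro y hy
      by_contra hyZ
      obtain ⟨x, -, hc1⟩ := hC y hyZ
      apply hc1
      have h1 : x * y = y * x := Subgroup.mem_center_iff.mp hy x
      rw [h1]
      group
    · exact hZ

end Cfsg.Agent.Lib.Helper24
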