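import Mathlib
import Cfsg.Prelude.Def_Blocks
import Cfsg.Agent.Lib.Helper24.BLChar
import Cfsg.Agent.Lib.Helper25.Local
import Cfsg.Agent.Lib.Helper25.Defect0

set_option autoImplicit false

/-!
Faithful characters of small degree in the principal block of a perfect group:
the centralizer of a Sylow subgroup has no nontrivial element of order prime to p.
-/

namespace Cfsg.Agent.Lib.Helper24

open Cfsg Cfsg.Agent.Lib.Helper2 Cfsg.Agent.Lib.Helper8 Cfsg.Agent.Lib.Helper25

section idem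

variable {V : Type*} [AddCommGroup V] [Module ℂ V] [FiniteDimensional ℂ V]

/-- the determinant of one plus a multiple of an idempotent -/
theorem det_one_add_smul_idem (e : Module.End ℂ V) (he : IsIdempotentElem e) (c : ℂ) :
    LinearMap.det (1 + c • e) = (1 + c) ^ Module.finrank ℂ (LinearMap.range e) := by
  have hproj := LinearMap.IsIdempotentElem.isProj_range e he
  have h1 := hproj.eq_conj_prodMap
  have h3 : LinearMap.prodMap ((1 + c) • (LinearMap.id : LinearMap.range e →ₗ[ℂ] LinearMap.range e))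
      (LinearMap.id : LinearMap.ker e →ₗ[ℂ] LinearMap.ker e)
      = 1 + c • LinearMap.prodMap (LinearMap.id : LinearMap.range e →ₗ[ℂ] LinearMap.range e)
        (0 : LinearMap.ker e →ₗ[ℂ] LinearMap.ker e) := by
    ext x <;> simp [add_smul]
  have h2 : (1 + c • e : Module.End ℂ V)
      = ((LinearMap.range e).prodEquivOfIsCompl (LinearMap.ker e) hproj.isCompl).conj
        (LinearMap.prodMap ((1 + c) • (LinearMap.id : LinearMap.range e →ₗ[ℂ] LinearMap.range e))
          (LinearMap.id : LinearMap.ker e →ₗ[ℂ] LinearMap.ker e)) := by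
    rw [h3, map_add, map_smul, ← h1]
    congr 1
    exact (LinearEquiv.conj_id _).symm
  rw [h2, LinearEquiv.conj_apply, LinearMap.comp_assoc, LinearMap.det_conj, LinearMap.det_prodMap,
    LinearMap.det_smul, LinearMap.det_id, LinearMap.det_id, mul_one, mul_one]

end idem

section perf

variable {G : Type*} [Group G]

/-- representations of a perfect group have determinant one -/
theorem det_rep_eq_one (hperf : commutator G = ⊤) {n : ℕ}
    (ρ : Representation ℂ G (Fin n → ℂ)) (g : G) : LinearMap.det (ρ g) = 1 := by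
  let φ : G →* ℂ := (LinearMap.det : _ →* ℂ).comp ρ
  have h1 : commutator G ≤ φ.toHomUnits.ker := Abelianization.commutator_subset_ker _
  have h2 : g ∈ φ.toHomUnits.ker := h1 (by rw [hperf]; trivial)
  have h3 := MonoidHom.mem_ker.mp h2
  have h4 : ((φ.toHomUnits g : ℂˣ) : ℂ) = φ g := MonoidHom.coe_toHomUnits φ g
  rw [h3] at h4
  exact h4.symm

end perf

section iso

variable {A : Type*} [Group A] [Fintype A] {V : Type*} [AddCommGroup V] [Module ℂ V]

/-- the isotypic projection attached to a linear character -/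
noncomputable def isoProj (ρ : Representation ℂ A V) (ν : A →* ℂˣ) : Module.End ℂ V :=
  (Nat.card A : ℂ)⁻¹ • ∑ a : A, ((ν a⁻¹ : ℂˣ) : ℂ) • ρ a

theorem rho_mul_isoProj (ρ : Representation ℂ A V) (ν : A →* ℂˣ) (b : A) :
    ρ b * isoProj ρ ν = ((ν b : ℂˣ) : ℂ) • isoProj ρ ν := by
  unfold isoProj
  rw [mul_smul_comm, smul_comm]
  congr 1
  rw [Finset.mul_sum, Finset.smul_sum]
  rw [← Equiv.sum_comp (Equiv.mulLeft b)
    (fun a => ((ν b : ℂˣ) : ℂ) • ((ν a⁻¹ : ℂˣ) : ℂ) • ρ a)]
  apply Finset.sum_congr rfl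
  intro a _
  simp only [Equiv.coe_mulLeft, mul_inv_rev, map_mul, Units.val_mul]
  rw [mul_smul_comm, smul_smul]
  congr 1
  rw [mul_comm ((ν a⁻¹ : ℂˣ) : ℂ), ← mul_assoc, ← Units.val_mul, ← map_mul, mul_inv_cancel,
    map_one, Units.val_one, one_mul]

theorem isoProj_idem (ρ : Representation ℂ A V) (ν : A →* ℂˣ) :
    IsIdempotentElem (isoProj ρ ν) := by
  unfold IsIdempotentElem
  have hcard : (Nat.card A : ℂ) ≠ 0 := by
    have : Nat.card A ≠ 0 := Nat.card_pos.ne'
    exact_mod_cast this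
  have h1 : isoProj ρ ν * isoProj ρ ν
      = (Nat.card A : ℂ)⁻¹ • ∑ a : A, ((ν a⁻¹ : ℂˣ) : ℂ) • (ρ a * isoProj ρ ν) := by
    nth_rewrite 1 [isoProj]
    rw [smul_mul_assoc, Finset.sum_mul]
    congr 1
  rw [h1]
  have h2 : ∀ a : A, ((ν a⁻¹ : ℂˣ) : ℂ) • (ρ a * isoProj ρ ν) = isoProj ρ ν := by
    intro a
    rw [rho_mul_isoProj, smul_smul, ← Units.val_mul, ← map_mul, inv_mul_cancel, map_one,
      Units.val_one, one_smul]
  rw [Finset.sum_congr rfl (fun a _ => h2 a), Finset.sum_const, Finset.card_univ,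
    ← Nat.card_eq_fintype_card, ← Nat.cast_smul_eq_nsmul ℂ, smul_smul, inv_mul_cancel₀ hcard,
    one_smul]

theorem trace_isoProj (ρ : Representation ℂ A V) (ν : A →* ℂˣ) :
    LinearMap.trace ℂ V (isoProj ρ ν)
      = (Nat.card A : ℂ)⁻¹ * ∑ a : A, ((ν a⁻¹ : ℂˣ) : ℂ) * ρ.character a := by
  unfold isoProj
  rw [map_smul, map_sum, smul_eq_mul]
  congr 1
  apply Finset.sum_congr rfl
  intro a _
  rw [map_smul, smul_eq_mul]
  rfl

theorem sum_isoProj [IsMulCommutative A] [Fintype (A →* ℂˣ)] (ρ : Representation ℂ A V) :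
    ∑ ν : A →* ℂˣ, isoProj ρ ν = 1 := by
  classical
  have hcard : (Nat.card A : ℂ) ≠ 0 := by
    have : Nat.card A ≠ 0 := Nat.card_pos.ne'
    exact_mod_cast this
  unfold isoProj
  rw [← Finset.smul_sum, Finset.sum_comm]
  have h : ∀ a : A, ∑ ν : A →* ℂˣ, ((ν a⁻¹ : ℂˣ) : ℂ) • ρ a
      = if a = 1 then (Nat.card A : ℂ) • (1 : Module.End ℂ V) else 0 := by
    intro a
    rw [← Finset.sum_smul, sum_hom_apply]
    by_cases ha : a = 1
    · rw [if_pos ha, if_pos (by rw [ha, inv_one]), ha, map_one]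
    · rw [if_neg ha, if_neg (by rw [inv_eq_one]; exact ha), zero_smul]
  rw [Finset.sum_congr rfl (fun a _ => h a), Finset.sum_ite_eq' Finset.univ (1 : A)]
  rw [if_pos (Finset.mem_univ _), smul_smul, inv_mul_cancel₀ hcard, one_smul]

end iso

section main

variable {G : Type*} [Group G] [Finite G]

/-- a p-regular element centralizing a Sylow p-subgroup is trivial, under the hypotheses of
the small faithful degree theorem -/
theorem perf_deg_main (p : ℕ) [Fact p.Prime] (M : Ideal AlgInt) (hM : IsPModular p M)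
    (hperf : commutator G = ⊤) (P : Sylow p G) (χ : IrrCharacter G)
    (hχ : χ ∈ principalBlock M G)
    (hfaith : ∀ g : G, (χ : G → ℂ) g = (χ : G → ℂ) 1 → g = 1)
    (hdeg : charDegree (χ : G → ℂ) < 2 * p)
    (y : G) (hy : y ∈ Subgroup.centralizer ((P : Subgroup G) : Set G))
    (hreg : ¬ p ∣ orderOf y) : y = 1 := by
  classical
  have := Fintype.ofFinite G
  have hp : p.Prime := Fact.out
  have hpr : M.IsPrime := isPrime_of_isPModular hM
  obtain ⟨n, ρ, hirr, hρ⟩ := χ.2
  obtain ⟨d, hd1, hd0, hddvd, hdd⟩ := irr_degree χ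
  have hn : (n : ℂ) = d := by
    rw [← hd1, ← hρ, Representation.char_one, Module.finrank_fin_fun]
  have hdlt : d < 2 * p := by rw [← hdd]; exact hdeg
  obtain ⟨A, hA⟩ : ∃ A : Subgroup G, A = Subgroup.zpowers y := ⟨_, rfl⟩
  have : IsMulCommutative A := by rw [hA]; exact Subgroup.zpowers_isMulCommutative y
  have : Fintype A := Fintype.ofFinite A
  have : Fintype (A →* ℂˣ) := Fintype.ofFinite _
  have hcardA : Nat.card A = orderOf y := by rw [hA]; exact Nat.card_zpowers y
  have hcard0 : (Nat.card A : ℂ) ≠ 0 := by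
    have : Nat.card A ≠ 0 := Nat.card_pos.ne'
    exact_mod_cast this
  have hyA : y ∈ A := by rw [hA]; exact Subgroup.mem_zpowers y
  have hAle : A ≤ Subgroup.centralizer ((P : Subgroup G) : Set G) := by
    rw [hA]; exact Subgroup.zpowers_le.mpr hy
  obtain ⟨σ, hσ⟩ : ∃ σ : Representation ℂ A (Fin n → ℂ), σ = ρ.comp A.subtype := ⟨_, rfl⟩
  have hσa : ∀ a : A, σ a = ρ (a : G) := by
    intro a; rw [hσ]; rfl
  -- the congruence
  have hcong : ∀ a : A, MemLocalIdeal M ((χ : G → ℂ) a - (χ : G → ℂ) 1) := by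
    intro a
    have h1 : SameBlock M (fun _ : G => (1 : ℂ)) (χ : G → ℂ) := hχ
    have h2 : MemLocalIdeal M
        (((Subgroup.centralizer ({(a : G)} : Set G)).index : ℂ) * 1 / 1
          - ((Subgroup.centralizer ({(a : G)} : Set G)).index : ℂ) * (χ : G → ℂ) a
            / (χ : G → ℂ) 1) := h1 (a : G)
    have hidx : ¬ p ∣ (Subgroup.centralizer ({(a : G)} : Set G)).index := by
      have hle : (P : Subgroup G) ≤ Subgroup.centralizer ({(a : G)} : Set G) := by
        intro x hx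
        rw [Subgroup.mem_centralizer_singleton_iff]
        exact Subgroup.mem_centralizer_iff.mp (hAle a.2) x hx
      intro hdv
      exact P.not_dvd_index (dvd_trans hdv (Subgroup.index_dvd_of_le hle))
    obtain ⟨idx, hidxe⟩ : ∃ idx : ℕ, idx = (Subgroup.centralizer ({(a : G)} : Set G)).index :=
      ⟨_, rfl⟩
    rw [← hidxe] at h2 hidx
    have hidx0 : (idx : ℂ) ≠ 0 := by
      have : idx ≠ 0 := by
        intro h0
        apply hidx
        rw [h0]
        exact dvd_zero p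
      exact_mod_cast this
    have hd0' : (d : ℂ) ≠ 0 := by
      have : d ≠ 0 := hd0.ne'
      exact_mod_cast this
    have h3 : (χ : G → ℂ) a - (χ : G → ℂ) 1
        = - ((d : ℂ) * ((idx : ℂ)⁻¹ * ((idx : ℂ) * 1 / 1
            - (idx : ℂ) * (χ : G → ℂ) a / (χ : G → ℂ) 1))) := by
      rw [hd1]
      field_simp
      ring
    rw [h3]
    exact MemLocalIdeal.neg M (MemLocalIdeal.mul_left M (memLocalRing_natCast M d)
      (MemLocalIdeal.mul_left M (memLocalRing_inv_natCast hM hidx) h2))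
  -- multiplicities
  have hidem : ∀ ν : A →* ℂˣ, IsIdempotentElem (isoProj σ ν) := isoProj_idem σ
  obtain ⟨r, hr⟩ : ∃ r : (A →* ℂˣ) → ℕ,
      r = fun ν => Module.finrank ℂ (LinearMap.range (isoProj σ ν)) := ⟨_, rfl⟩
  have hrtr : ∀ ν : A →* ℂˣ,
      LinearMap.trace ℂ (Fin n → ℂ) (isoProj σ ν) = ((r ν : ℕ) : ℂ) := by
    intro ν
    rw [hr]
    exact (LinearMap.IsIdempotentElem.isProj_range _ (hidem ν)).trace
  have htr : ∀ ν : A →* ℂˣ, ((r ν : ℕ) : ℂ)
      = (Nat.card A : ℂ)⁻¹ * ∑ a : A, ((ν a⁻¹ : ℂˣ) : ℂ) * (χ : G → ℂ) a := by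
    intro ν
    rw [← hrtr ν, trace_isoProj, ← hρ]
    congr 1
    apply Finset.sum_congr rfl
    intro a _
    congr 1
    show LinearMap.trace ℂ _ (σ a) = LinearMap.trace ℂ _ (ρ (a : G))
    rw [hσa]
  have hone := sum_isoProj σ
  have hsum : ∑ ν : A →* ℂˣ, r ν = d := by
    have h1 : ((∑ ν : A →* ℂˣ, r ν : ℕ) : ℂ) = (d : ℂ) := by
      rw [Nat.cast_sum, ← Finset.sum_congr rfl (fun ν _ => hrtr ν), ← map_sum, hone,
        LinearMap.trace_one, Module.finrank_fin_fun, hn]
    exact_mod_cast h1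
  have hdvd : ∀ ν : A →* ℂˣ, ν ≠ 1 → p ∣ r ν := by
    intro ν hν
    have h1 : ((Nat.card A * r ν : ℕ) : ℂ)
        = ∑ a : A, ((ν a⁻¹ : ℂˣ) : ℂ) * ((χ : G → ℂ) a - (χ : G → ℂ) 1) := by
      rw [Nat.cast_mul, htr ν, ← mul_assoc, mul_inv_cancel₀ hcard0, one_mul]
      have h2 := sum_hom_mul_inv (1 : A →* ℂˣ) ν
      rw [if_neg (Ne.symm hν)] at h2
      simp only [MonoidHom.one_apply, Units.val_one, one_mul] at h2
      simp only [mul_sub]
      rw [Finset.sum_sub_distrib, ← Finset.sum_mul, h2, zero_mul, sub_zero]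
    have h3 : MemLocalIdeal M ((Nat.card A * r ν : ℕ) : ℂ) := by
      rw [h1]
      apply memLocalIdeal_sum
      intro a _
      apply MemLocalIdeal.mul_left M _ (hcong a)
      apply memLocalRing_of_isIntegral
      have h4 : ((ν a⁻¹ : ℂˣ) : ℂ) ^ (Nat.card A) = 1 := by
        rw [← Units.val_pow_eq_pow_val, ← map_pow, pow_card_eq_one', map_one, Units.val_one]
      exact IsIntegral.of_pow Nat.card_pos (by rw [h4]; exact isIntegral_one)
    have h5 := (memLocalIdeal_natCast_iff hM _).mp h3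
    rcases hp.dvd_mul.mp h5 with h6 | h6
    · exact absurd (hcardA ▸ h6) hreg
    · exact h6
  have hzero : ∀ ν : A →* ℂˣ, r ν = 0 → isoProj σ ν = 0 := by
    intro ν h
    rw [hr] at h
    exact LinearMap.range_eq_bot.mp (Submodule.finrank_eq_zero.mp h)
  have hρy : ρ y = ∑ ν : A →* ℂˣ, ((ν ⟨y, hyA⟩ : ℂˣ) : ℂ) • isoProj σ ν := by
    have h1 : ρ y = σ ⟨y, hyA⟩ * 1 := by rw [mul_one, hσa]
    rw [h1, ← hone, Finset.mul_sum]
    exact Finset.sum_congr rfl (fun ν _ => rho_mul_isoProj σ ν _)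
  by_cases hall : ∀ ν : A →* ℂˣ, ν ≠ 1 → r ν = 0
  · apply hfaith
    have h1 : ∑ ν : A →* ℂˣ, isoProj σ ν = isoProj σ 1 :=
      Finset.sum_eq_single 1 (fun ν _ hν => hzero ν (hall ν hν))
        (fun h => absurd (Finset.mem_univ _) h)
    have h2 : ρ y = 1 := by
      rw [hρy, Finset.sum_eq_single 1
        (fun ν _ hν => by rw [hzero ν (hall ν hν), smul_zero])
        (fun h => absurd (Finset.mem_univ _) h)]
      rw [MonoidHom.one_apply, Units.val_one, one_smul, ← h1, hone]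
    rw [← hρ]
    show LinearMap.trace ℂ _ (ρ y) = LinearMap.trace ℂ _ (ρ 1)
    rw [h2, map_one ρ]
  · exfalso
    have hex : ∃ ν₀ : A →* ℂˣ, ν₀ ≠ 1 ∧ r ν₀ ≠ 0 := by
      by_contra h
      apply hall
      intro ν hν
      by_contra h'
      exact h ⟨ν, hν, h'⟩
    obtain ⟨ν₀, hν₀, hrν₀⟩ := hex
    have hge : p ≤ r ν₀ := Nat.le_of_dvd (Nat.pos_of_ne_zero hrν₀) (hdvd ν₀ hν₀)
    have hother : ∀ ν : A →* ℂˣ, ν ≠ 1 → ν ≠ ν₀ → r ν = 0 := by
      intro ν hν hν'
      by_contra h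
      have hge' : p ≤ r ν := Nat.le_of_dvd (Nat.pos_of_ne_zero h) (hdvd ν hν)
      have h1 : r ν₀ + r ν ≤ ∑ ν : A →* ℂˣ, r ν := by
        rw [← Finset.sum_pair (Ne.symm hν')]
        exact Finset.sum_le_sum_of_subset (Finset.subset_univ _)
      omega
    have hrp : r ν₀ = p := by
      have h1 : r ν₀ ≤ ∑ ν : A →* ℂˣ, r ν :=
        Finset.single_le_sum (fun _ _ => Nat.zero_le _) (Finset.mem_univ ν₀)
      obtain ⟨k, hk⟩ := hdvd ν₀ hν₀
      have hk2 : k < 2 := by
        by_contra hk2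
        have : p * 2 ≤ p * k := Nat.mul_le_mul_left p (by omega)
        omega
      have hk0 : k ≠ 0 := by
        intro h0
        rw [h0, mul_zero] at hk
        exact hrν₀ hk
      have hk1 : k = 1 := by omega
      rw [hk, hk1, mul_one]
    have h1 : (1 : Module.End ℂ (Fin n → ℂ)) = isoProj σ 1 + isoProj σ ν₀ := by
      rw [← hone]
      exact Finset.sum_eq_add 1 ν₀ (Ne.symm hν₀)
        (fun ν _ hν => hzero ν (hother ν hν.1 hν.2))
        (fun h => absurd (Finset.mem_univ _) h) (fun h => absurd (Finset.mem_univ _) h)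
    obtain ⟨c, hc⟩ : ∃ c : ℂ, c = ((ν₀ ⟨y, hyA⟩ : ℂˣ) : ℂ) := ⟨_, rfl⟩
    have h2 : ρ y = 1 + (c - 1) • isoProj σ ν₀ := by
      rw [hρy, Finset.sum_eq_add 1 ν₀ (Ne.symm hν₀)
        (fun ν _ hν => by rw [hzero ν (hother ν hν.1 hν.2), smul_zero])
        (fun h => absurd (Finset.mem_univ _) h) (fun h => absurd (Finset.mem_univ _) h)]
      rw [MonoidHom.one_apply, Units.val_one, one_smul, ← hc]
      have h1' : isoProj σ 1 = 1 - isoProj σ ν₀ := eq_sub_of_add_eq h1.symm
      rw [h1']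
      module
    have h3 : LinearMap.det (ρ y) = c ^ p := by
      rw [h2, det_one_add_smul_idem _ (hidem ν₀)]
      have h4 : Module.finrank ℂ (LinearMap.range (isoProj σ ν₀)) = p := by
        rw [← hrp, hr]
      rw [h4]
      ring
    have h4 : c ^ p = 1 := by rw [← h3]; exact det_rep_eq_one hperf ρ y
    have h5 : c ^ orderOf y = 1 := by
      rw [hc, ← Units.val_pow_eq_pow_val, ← map_pow]
      have h6 : (⟨y, hyA⟩ : A) ^ orderOf y = 1 := by
        apply Subtype.ext
        simp [pow_orderOf_eq_one]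
      rw [h6, map_one, Units.val_one]
    have h6 : c = 1 := by
      have hcop : Nat.Coprime p (orderOf y) := (Nat.Prime.coprime_iff_not_dvd hp).mpr hreg
      have h7 := pow_gcd_eq_one.mpr ⟨h4, h5⟩
      rwa [Nat.Coprime.gcd_eq_one hcop, pow_one] at h7
    apply hν₀
    have h7 : ν₀ ⟨y, hyA⟩ = 1 := Units.ext (by rw [← hc, h6]; rfl)
    ext a
    have ha2 : (a : G) ∈ Subgroup.zpowers y := by rw [← hA]; exact a.2
    obtain ⟨k, hk⟩ := Subgroup.mem_zpowers_iff.mp ha2
    have ha : a = (⟨y, hyA⟩ : A) ^ k := Subtype.ext (by simp [hk])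
    rw [ha, map_zpow, h7, one_zpow, MonoidHom.one_apply]

end main

end Cfsg.Agent.Lib.Helper24
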