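import Mathlib
import Cfsg.Agent.Lib.Helper24.PerfDeg

set_option autoImplicit false

/-!
Determinants and traces of a representation in terms of the isotypic projections of an
abelian subgroup.
-/

namespace Cfsg.Agent.Lib.Helper24

open Cfsg Cfsg.Agent.Lib.Helper2 Cfsg.Agent.Lib.Helper8 Cfsg.Agent.Lib.Helper25

section detsum

variable {V : Type*} [AddCommGroup V] [Module ℂ V] [FiniteDimensional ℂ V]

/-- determinant of one plus a combination of pairwise orthogonal idempotents -/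
theorem det_one_add_sum_idem {ι : Type*} [DecidableEq ι] (e : ι → Module.End ℂ V)
    (hidem : ∀ i, IsIdempotentElem (e i)) (horth : ∀ i j, i ≠ j → e i * e j = 0)
    (c : ι → ℂ) (s : Finset ι) :
    LinearMap.det (1 + ∑ i ∈ s, (c i - 1) • e i)
      = ∏ i ∈ s, c i ^ Module.finrank ℂ (LinearMap.range (e i)) := by
  induction s using Finset.induction_on with
  | empty => simp
  | insert a s ha ih =>
    rw [Finset.sum_insert ha, Finset.prod_insert ha]
    have hAB : ((c a - 1) • e a) * (∑ i ∈ s, (c i - 1) • e i) = 0 := by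
      rw [Finset.mul_sum]
      apply Finset.sum_eq_zero
      intro i hi
      have hai : a ≠ i := fun h => ha (h ▸ hi)
      rw [smul_mul_smul_comm, horth a i hai, smul_zero]
    have h1 : (1 + ((c a - 1) • e a + ∑ i ∈ s, (c i - 1) • e i) : Module.End ℂ V)
        = (1 + (c a - 1) • e a) * (1 + ∑ i ∈ s, (c i - 1) • e i) := by
      rw [add_mul, one_mul, mul_add, mul_one, hAB, add_zero]
      abel
    rw [h1, map_mul, ih, det_one_add_smul_idem _ (hidem a)]
    congr 1
    ring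

end detsum

section repdecomp

variable {A : Type*} [Group A] [Fintype A] {V : Type*} [AddCommGroup V] [Module ℂ V]

theorem isoProj_mul_of_ne (ρ : Representation ℂ A V) (ν μ : A →* ℂˣ) (h : ν ≠ μ) :
    isoProj ρ ν * isoProj ρ μ = 0 := by
  classical
  have h1 : isoProj ρ ν * isoProj ρ μ
      = (Nat.card A : ℂ)⁻¹ • ∑ a : A, ((ν a⁻¹ : ℂˣ) : ℂ) • (ρ a * isoProj ρ μ) := by
    nth_rewrite 1 [isoProj]
    rw [smul_mul_assoc, Finset.sum_mul]
    congr 1
  rw [h1]
  have h2 : ∀ a : A, ((ν a⁻¹ : ℂˣ) : ℂ) • (ρ a * isoProj ρ μ)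
      = (((μ a : ℂˣ) : ℂ) * ((ν a⁻¹ : ℂˣ) : ℂ)) • isoProj ρ μ := by
    intro a
    rw [rho_mul_isoProj, smul_smul, mul_comm]
  rw [Finset.sum_congr rfl (fun a _ => h2 a), ← Finset.sum_smul, sum_hom_mul_inv μ ν,
    if_neg (Ne.symm h), zero_smul, smul_zero]

theorem rho_eq_sum_isoProj [IsMulCommutative A] [Fintype (A →* ℂˣ)]
    (ρ : Representation ℂ A V) (b : A) :
    ρ b = ∑ ν : A →* ℂˣ, ((ν b : ℂˣ) : ℂ) • isoProj ρ ν := by
  have h1 : ρ b = ρ b * 1 := (mul_one _).symm
  rw [h1, ← sum_isoProj ρ, Finset.mul_sum]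
  exact Finset.sum_congr rfl (fun ν _ => rho_mul_isoProj ρ ν b)

theorem det_rho_eq_prod [IsMulCommutative A] [Fintype (A →* ℂˣ)] [FiniteDimensional ℂ V]
    (ρ : Representation ℂ A V) (b : A) :
    LinearMap.det (ρ b) = ∏ ν : A →* ℂˣ,
      ((ν b : ℂˣ) : ℂ) ^ Module.finrank ℂ (LinearMap.range (isoProj ρ ν)) := by
  classical
  have h := det_one_add_sum_idem (fun ν : A →* ℂˣ => isoProj ρ ν) (isoProj_idem ρ)
    (fun i j hij => isoProj_mul_of_ne ρ i j hij) (fun ν => ((ν b : ℂˣ) : ℂ)) Finset.univ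
  rw [← h]
  congr 1
  rw [rho_eq_sum_isoProj ρ b]
  simp only [sub_smul, one_smul, Finset.sum_sub_distrib]
  rw [sum_isoProj ρ]
  abel

theorem finrank_isoProj [FiniteDimensional ℂ V] (ρ : Representation ℂ A V) (ν : A →* ℂˣ) :
    ((Module.finrank ℂ (LinearMap.range (isoProj ρ ν)) : ℕ) : ℂ)
      = (Nat.card A : ℂ)⁻¹ * ∑ a : A, ((ν a⁻¹ : ℂˣ) : ℂ) * ρ.character a := by
  rw [← trace_isoProj]
  exact ((LinearMap.IsIdempotentElem.isProj_range _ (isoProj_idem ρ ν)).trace).symm

theorem isoProj_eq_zero_of_finrank [FiniteDimensional ℂ V] (ρ : Representation ℂ A V)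
    (ν : A →* ℂˣ) (h : Module.finrank ℂ (LinearMap.range (isoProj ρ ν)) = 0) :
    isoProj ρ ν = 0 :=
  LinearMap.range_eq_bot.mp (Submodule.finrank_eq_zero.mp h)

open scoped IsMulCommutative in
/-- the product of the values at a generator of all linear characters of a cyclic group of
even order -/
theorem prod_hom_gen [IsMulCommutative A] [Fintype (A →* ℂˣ)] (g : A)
    (hgen : ∀ a : A, a ∈ Subgroup.zpowers g) (heven : Even (Nat.card A)) :
    ∏ ν : A →* ℂˣ, ((ν g : ℂˣ) : ℂ) = -1 := by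
  classical
  have hord : orderOf g = Nat.card A := orderOf_eq_card_of_forall_mem_zpowers hgen
  have hdvd : orderOf (-1 : ℂˣ) ∣ orderOf g := by
    rw [hord]
    have h1 : orderOf (-1 : ℂˣ) ∣ 2 := orderOf_dvd_of_pow_eq_one (by simp)
    exact dvd_trans h1 (even_iff_two_dvd.mp heven)
  obtain ⟨ν₀, hν₀⟩ : ∃ ν₀ : A →* ℂˣ, ν₀ g = -1 :=
    ⟨monoidHomOfForallMemZpowers hgen hdvd, monoidHomOfForallMemZpowers_apply_gen hgen hdvd⟩
  have hinj : ∀ ν μ : A →* ℂˣ, ν g = μ g → ν = μ := by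
    intro ν μ h
    ext a
    obtain ⟨k, hk⟩ := Subgroup.mem_zpowers_iff.mp (hgen a)
    rw [← hk, map_zpow, map_zpow, h]
  rw [← Finset.mul_prod_erase Finset.univ (fun ν : A →* ℂˣ => ((ν g : ℂˣ) : ℂ))
    (Finset.mem_univ ν₀)]
  have h1 : ∏ ν ∈ Finset.univ.erase ν₀, ((ν g : ℂˣ) : ℂ) = 1 := by
    refine Finset.prod_involution (fun ν _ => ν⁻¹) ?_ ?_ ?_ ?_
    · intro ν _
      rw [MonoidHom.inv_apply, Units.val_inv_eq_inv_val]
      exact mul_inv_cancel₀ (Units.ne_zero _)
    · intro ν hν hne hinv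
      have h2 : ((ν g : ℂˣ) : ℂ) ^ 2 = 1 := by
        have h3 : ν⁻¹ g = ν g := by rw [hinv]
        rw [MonoidHom.inv_apply] at h3
        have h4 : ν g * ν g = 1 := by
          nth_rewrite 1 [← h3]
          exact inv_mul_cancel _
        rw [pow_two, ← Units.val_mul, h4, Units.val_one]
      have h2' : (((ν g : ℂˣ) : ℂ) - 1) * (((ν g : ℂˣ) : ℂ) + 1) = 0 := by
        linear_combination h2
      rcases mul_eq_zero.mp h2' with h5 | h5
      · exact hne (sub_eq_zero.mp h5)
      · apply (Finset.mem_erase.mp hν).1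
        apply hinj
        rw [hν₀]
        exact Units.ext (by rw [eq_neg_of_add_eq_zero_left h5]; simp)
    · intro ν hν
      rw [Finset.mem_erase]
      refine ⟨?_, Finset.mem_univ _⟩
      intro h2
      apply (Finset.mem_erase.mp hν).1
      apply hinj
      have h3 : ν⁻¹ g = ν₀ g := by rw [h2]
      rw [MonoidHom.inv_apply, hν₀] at h3
      rw [hν₀, ← inv_inv (ν g), h3]
      simp
    · intro ν _
      exact inv_inv ν
  rw [h1, mul_one, hν₀]
  simp

end repdecomp

section conj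

variable {G : Type*} [Group G] (P : Subgroup G) [Fintype P]
  {V : Type*} [AddCommGroup V] [Module ℂ V]

/-- conjugating an isotypic projection of a subgroup by an element of its normalizer -/
theorem isoProj_conj (ρ : Representation ℂ G V) (x : Subgroup.normalizer (P : Set G))
    (ψ : P →* ℂˣ) :
    ρ (x : G) * isoProj (ρ.comp P.subtype) ψ
      = isoProj (ρ.comp P.subtype) (dualConj P x ψ) * ρ (x : G) := by
  unfold isoProj
  rw [mul_smul_comm, smul_mul_assoc, Finset.mul_sum, Finset.sum_mul]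
  congr 1
  rw [← Equiv.sum_comp (P.normalizerMonoidHom x).toEquiv
    (fun a : P => (((dualConj P x ψ) a⁻¹ : ℂˣ) : ℂ) • (ρ.comp P.subtype) a * ρ (x : G))]
  apply Finset.sum_congr rfl
  intro a _
  have h1 : (dualConj P x ψ) ((P.normalizerMonoidHom x).toEquiv a)⁻¹ = ψ a⁻¹ := by
    have h2 : ((P.normalizerMonoidHom x).toEquiv a)⁻¹ = P.normalizerMonoidHom x a⁻¹ := by
      simp
    rw [h2, dualConj_apply]
  rw [h1, mul_smul_comm, smul_mul_assoc]
  congr 1
  show ρ (x : G) * ρ (a : G) = ρ (((P.normalizerMonoidHom x).toEquiv a : P) : G) * ρ (x : G)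
  have h3 : (((P.normalizerMonoidHom x).toEquiv a : P) : G) = (x : G) * (a : G) * (x : G)⁻¹ :=
    normHom_coe P x a
  rw [h3, ← map_mul, ← map_mul]
  congr 1
  group

/-- an element of the normalizer moving every linear character that occurs has trace zero -/
theorem trace_zero_of_conj [IsMulCommutative P] [Fintype (P →* ℂˣ)] [FiniteDimensional ℂ V]
    (ρ : Representation ℂ G V) (x : Subgroup.normalizer (P : Set G))
    (hmove : ∀ ψ : P →* ℂˣ, isoProj (ρ.comp P.subtype) ψ ≠ 0 → dualConj P x ψ ≠ ψ) :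
    LinearMap.trace ℂ V (ρ (x : G)) = 0 := by
  have h1 : ρ (x : G) = ∑ ψ : P →* ℂˣ, ρ (x : G) * isoProj (ρ.comp P.subtype) ψ := by
    rw [← Finset.mul_sum, sum_isoProj, mul_one]
  rw [h1, map_sum]
  apply Finset.sum_eq_zero
  intro ψ _
  by_cases h0 : isoProj (ρ.comp P.subtype) ψ = 0
  · rw [h0, mul_zero, map_zero]
  · have hid : isoProj (ρ.comp P.subtype) ψ * isoProj (ρ.comp P.subtype) ψ
        = isoProj (ρ.comp P.subtype) ψ := isoProj_idem _ ψ
    have h2 : ρ (x : G) * isoProj (ρ.comp P.subtype) ψ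
        = (ρ (x : G) * isoProj (ρ.comp P.subtype) ψ) * isoProj (ρ.comp P.subtype) ψ := by
      rw [mul_assoc, hid]
    rw [h2, LinearMap.trace_mul_comm, isoProj_conj, ← mul_assoc,
      isoProj_mul_of_ne _ _ _ (Ne.symm (hmove ψ h0)), zero_mul, map_zero]

end conj

end Cfsg.Agent.Lib.Helper24
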