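import Mathlib
import Cfsg.Agent.Lib.Helper24.BLGroup
import Cfsg.Agent.Lib.Helper24.BLTwoA

set_option autoImplicit false

/-!
Groups with a self-centralizing element of prime order: the Sylow subgroup, its normalizer,
and the number of classes of elements of that order.
-/

namespace Cfsg.Agent.Lib.Helper24

section prime

variable {G : Type*} [Group G] [Finite G] {p : ℕ} [Fact p.Prime]

/-- a nonidentity element of a subgroup of prime order generates it -/
theorem zpowers_eq_of_prime_card (H : Subgroup G) (hH : Nat.card H = p) (y : G) (hy : y ∈ H)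
    (hy1 : y ≠ 1) : Subgroup.zpowers y = H := by
  have hp : p.Prime := Fact.out
  have hle : Subgroup.zpowers y ≤ H := Subgroup.zpowers_le.mpr hy
  apply Subgroup.eq_of_le_of_card_ge hle
  rw [hH, Nat.card_zpowers]
  have h1 : orderOf y ∣ p := by
    have h2 : orderOf (⟨y, hy⟩ : H) ∣ Nat.card H := orderOf_dvd_natCard _
    rw [hH] at h2
    have h3 : orderOf (⟨y, hy⟩ : H) = orderOf y := Subgroup.orderOf_mk y hy
    rwa [h3] at h2
  rcases (Nat.dvd_prime hp).mp h1 with h2 | h2
  · exact absurd (orderOf_eq_one_iff.mp h2) hy1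
  · rw [h2]

/-- the centralizer of a nonidentity element of the subgroup generated by a self-centralizing
element of prime order -/
theorem cent_of_self_centralizing (x : G) (hx : orderOf x = p)
    (hC : Subgroup.centralizer ({x} : Set G) = Subgroup.zpowers x) (y : G)
    (hy : y ∈ Subgroup.zpowers x) (hy1 : y ≠ 1) :
    Subgroup.centralizer ({y} : Set G) = Subgroup.zpowers x := by
  have hcard : Nat.card (Subgroup.zpowers x) = p := by rw [Nat.card_zpowers, hx]
  have hgen : Subgroup.zpowers y = Subgroup.zpowers x :=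
    zpowers_eq_of_prime_card (Subgroup.zpowers x) hcard y hy hy1
  ext g
  rw [Subgroup.mem_centralizer_singleton_iff]
  constructor
  · intro hg
    rw [← hC, Subgroup.mem_centralizer_singleton_iff]
    have hxy : x ∈ Subgroup.zpowers y := by rw [hgen]; exact Subgroup.mem_zpowers x
    obtain ⟨k, hk⟩ := Subgroup.mem_zpowers_iff.mp hxy
    rw [← hk]
    exact (Commute.zpow_right hg k)
  · intro hg
    obtain ⟨k, hk⟩ := Subgroup.mem_zpowers_iff.mp hg
    obtain ⟨j, hj⟩ := Subgroup.mem_zpowers_iff.mp hy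
    rw [← hk, ← hj]
    exact ((Commute.refl x).zpow_zpow k j)

/-- a self-centralizing element of prime order generates a Sylow subgroup -/
theorem sylow_of_self_centralizing (x : G) (hx : orderOf x = p)
    (hC : Subgroup.centralizer ({x} : Set G) = Subgroup.zpowers x) :
    ∃ P : Sylow p G, (P : Subgroup G) = Subgroup.zpowers x := by
  have hp : p.Prime := Fact.out
  have hcard : Nat.card (Subgroup.zpowers x) = p := by rw [Nat.card_zpowers, hx]
  have hXp : IsPGroup p (Subgroup.zpowers x) :=
    IsPGroup.of_card (n := 1) (by rw [hcard, pow_one])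
  obtain ⟨Q, hQ⟩ := hXp.exists_le_sylow
  refine ⟨Q, le_antisymm ?_ hQ⟩
  have hxQ : x ∈ (Q : Subgroup G) := hQ (Subgroup.mem_zpowers x)
  have hx1 : x ≠ 1 := by
    intro h
    rw [h, orderOf_one] at hx
    exact hp.one_lt.ne hx
  have hnt : Nontrivial (Q : Subgroup G) :=
    ⟨⟨⟨x, hxQ⟩, 1, fun h => hx1 (congrArg Subtype.val h)⟩⟩
  have hcn := IsPGroup.center_nontrivial Q.isPGroup'
  obtain ⟨z, hz⟩ := exists_ne (1 : Subgroup.center (Q : Subgroup G))
  have hz1 : ((z : (Q : Subgroup G)) : G) ≠ 1 := by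
    intro h
    apply hz
    apply Subtype.ext
    apply Subtype.ext
    exact h
  have hzx : ((z : (Q : Subgroup G)) : G) * x = x * ((z : (Q : Subgroup G)) : G) := by
    have h1 := Subgroup.mem_center_iff.mp z.2 ⟨x, hxQ⟩
    have h2 := congrArg Subtype.val h1
    exact h2.symm
  have hzX : ((z : (Q : Subgroup G)) : G) ∈ Subgroup.zpowers x := by
    rw [← hC, Subgroup.mem_centralizer_singleton_iff]
    exact hzx
  have hgen : Subgroup.zpowers ((z : (Q : Subgroup G)) : G) = Subgroup.zpowers x :=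
    zpowers_eq_of_prime_card (Subgroup.zpowers x) hcard _ hzX hz1
  intro q hq
  rw [← hC, Subgroup.mem_centralizer_singleton_iff]
  have hxz : x ∈ Subgroup.zpowers ((z : (Q : Subgroup G)) : G) := by
    rw [hgen]; exact Subgroup.mem_zpowers x
  obtain ⟨k, hk⟩ := Subgroup.mem_zpowers_iff.mp hxz
  rw [← hk]
  have hqz : q * ((z : (Q : Subgroup G)) : G) = ((z : (Q : Subgroup G)) : G) * q := by
    have h1 := Subgroup.mem_center_iff.mp z.2 ⟨q, hq⟩
    exact congrArg Subtype.val h1
  exact (Commute.zpow_right hqz k)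

end prime

section count

variable {G : Type*} [Group G] [Finite G] {p : ℕ} [Fact p.Prime]

omit [Finite G] in
theorem relIndex_mul_card_eq (H K : Subgroup G) (h : H ≤ K) :
    H.relIndex K * Nat.card H = Nat.card K := by
  have h1 := (H.subgroupOf K).card_mul_index
  have h2 : Nat.card (H.subgroupOf K) = Nat.card H :=
    Nat.card_congr (Subgroup.subgroupOfEquivOfLe h).toEquiv
  rw [h2] at h1
  rw [Subgroup.relIndex, ← h1, mul_comm]

/-- the number of classes of elements of order `p` times the index of the Sylow subgroup in its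
normalizer is `p - 1` -/
theorem class_count (P : Sylow p G) [IsMulCommutative P] (hcard : Nat.card P = p)
    (hcent : ∀ y ∈ (P : Subgroup G), y ≠ 1 →
      Subgroup.centralizer ({y} : Set G) = (P : Subgroup G))
    (t : ℕ) (ht : Nat.card {C : ConjClasses G // ∃ g ∈ C.carrier, orderOf g = p} = t) :
    t * ((P : Subgroup G).relIndex (Subgroup.normalizer ((P : Subgroup G) : Set G)))
      = p - 1 := by
  classical
  have hp : p.Prime := Fact.out
  have := Fintype.ofFinite G
  have : Fintype (ConjClasses G) := Fintype.ofFinite _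
  obtain ⟨N, hN⟩ : ∃ N : Subgroup G, N = Subgroup.normalizer ((P : Subgroup G) : Set G) :=
    ⟨_, rfl⟩
  have hPN : (P : Subgroup G) ≤ N := by rw [hN]; exact Subgroup.le_normalizer
  obtain ⟨e, he⟩ : ∃ e : ℕ, e = (P : Subgroup G).relIndex N := ⟨_, rfl⟩
  rw [← hN, ← he]
  have hNcard : Nat.card N = e * p := by
    rw [he, ← relIndex_mul_card_eq _ _ hPN, hcard]
  obtain ⟨Pset, hPset⟩ : ∃ Pset : Finset G,
      Pset = Finset.univ.filter (fun y => y ∈ (P : Subgroup G) ∧ y ≠ 1) := ⟨_, rfl⟩
  obtain ⟨Tset, hTset⟩ : ∃ Tset : Finset (ConjClasses G),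
      Tset = Finset.univ.filter (fun C => ∃ g ∈ C.carrier, orderOf g = p) := ⟨_, rfl⟩
  obtain ⟨Nset, hNset⟩ : ∃ Nset : Finset G, Nset = Finset.univ.filter (fun n => n ∈ N) :=
    ⟨_, rfl⟩
  obtain ⟨Qset, hQset⟩ : ∃ Qset : Finset G,
      Qset = Finset.univ.filter (fun y => y ∈ (P : Subgroup G)) := ⟨_, rfl⟩
  have hQcard : Qset.card = p := by
    have h0 : Qset.card = Nat.card (P : Subgroup G) := by
      rw [hQset, Nat.card_eq_fintype_card, Fintype.card_subtype]
    exact h0.trans hcard
  have hNsetcard : Nset.card = e * p := by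
    have h0 : Nset.card = Nat.card N := by
      rw [hNset, Nat.card_eq_fintype_card, Fintype.card_subtype]
    exact h0.trans hNcard
  have hPcard : Pset.card = p - 1 := by
    have h1 : Pset = Qset.erase 1 := by
      rw [hPset, hQset]
      ext y
      simp [and_comm]
    rw [h1, Finset.card_erase_of_mem, hQcard]
    rw [hQset]
    simp [one_mem]
  have hTcard : Tset.card = t := by
    rw [hTset, ← ht, Nat.card_eq_fintype_card, Fintype.card_subtype]
  have horder : ∀ y ∈ (P : Subgroup G), y ≠ 1 → orderOf y = p := by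
    intro y hy hy1
    have h1 := zpowers_eq_of_prime_card (P : Subgroup G) hcard y hy hy1
    rw [← Nat.card_zpowers, h1, hcard]
  have hmaps : (Pset : Set G).MapsTo ConjClasses.mk Tset := by
    intro y hy
    rw [hPset, Finset.mem_coe, Finset.mem_filter] at hy
    rw [hTset, Finset.mem_coe, Finset.mem_filter]
    exact ⟨Finset.mem_univ _, y, ConjClasses.mem_carrier_mk, horder y hy.2.1 hy.2.2⟩
  have hfib : ∀ C ∈ Tset, (Pset.filter (fun a => ConjClasses.mk a = C)).card = e := by
    intro C hC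
    rw [hTset, Finset.mem_filter] at hC
    obtain ⟨g, hgC, hgo⟩ := hC.2
    obtain ⟨h, hh⟩ := conj_mem_sylow P g ⟨1, by rw [hgo, pow_one]⟩
    obtain ⟨y₀, hy₀⟩ : ∃ y₀ : G, y₀ = h * g * h⁻¹ := ⟨_, rfl⟩
    rw [← hy₀] at hh
    have hy₀1 : y₀ ≠ 1 := by
      intro h1
      rw [hy₀] at h1
      have hg1 : g = 1 := by
        have h2 : g = h⁻¹ * (h * g * h⁻¹) * h := by group
        rw [h2, h1]
        group
      rw [hg1, orderOf_one] at hgo
      exact hp.one_lt.ne hgo
    have hmk : ConjClasses.mk y₀ = C := by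
      rw [← ConjClasses.mem_carrier_iff_mk_eq.mp hgC, ConjClasses.mk_eq_mk_iff_isConj, hy₀]
      exact (isConj_iff.mpr ⟨h, rfl⟩).symm
    obtain ⟨F, hF⟩ : ∃ F : Finset G, F = Pset.filter (fun a => ConjClasses.mk a = C) :=
      ⟨_, rfl⟩
    rw [← hF]
    have hκ : (Nset : Set G).MapsTo (fun n => n * y₀ * n⁻¹) F := by
      intro n hn
      rw [hNset, Finset.mem_coe, Finset.mem_filter] at hn
      rw [hF, hPset, Finset.mem_coe, Finset.mem_filter, Finset.mem_filter]
      refine ⟨⟨Finset.mem_univ _, ?_, ?_⟩, ?_⟩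
      · have hn2 := hn.2
        rw [hN, Subgroup.mem_normalizer_iff] at hn2
        exact (hn2 y₀).mp hh
      · intro h1
        have h1' : n * y₀ * n⁻¹ = 1 := h1
        apply hy₀1
        have h2 : y₀ = n⁻¹ * (n * y₀ * n⁻¹) * n := by group
        rw [h2, h1']
        group
      · rw [← hmk, ConjClasses.mk_eq_mk_iff_isConj]
        exact (isConj_iff.mpr ⟨n, rfl⟩).symm
    have h1 := Finset.card_eq_sum_card_fiberwise hκ
    have h2 : ∀ y ∈ F, (Nset.filter (fun n => n * y₀ * n⁻¹ = y)).card = p := by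
      intro y hy
      rw [hF, Finset.mem_filter, hPset, Finset.mem_filter] at hy
      obtain ⟨⟨_, hyP, hy1⟩, hyC⟩ := hy
      rw [← hmk, ConjClasses.mk_eq_mk_iff_isConj, isConj_comm, isConj_iff] at hyC
      obtain ⟨g', hg'⟩ := hyC
      obtain ⟨n₀, hn₀N, hn₀⟩ := fusion_abelian_sylow P y₀ g' hh (by rw [hg']; exact hyP)
      rw [hg'] at hn₀
      have hset : Nset.filter (fun n => n * y₀ * n⁻¹ = y) = Qset.image (fun u => n₀ * u) := by
        ext n
        rw [Finset.mem_filter, Finset.mem_image, hNset, Finset.mem_filter]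
        constructor
        · rintro ⟨⟨_, hnN⟩, hn⟩
          refine ⟨n₀⁻¹ * n, ?_, by group⟩
          rw [hQset, Finset.mem_filter]
          refine ⟨Finset.mem_univ _, ?_⟩
          rw [← hcent y₀ hh hy₀1, Subgroup.mem_centralizer_singleton_iff]
          have h3 : n * y₀ * n⁻¹ = n₀ * y₀ * n₀⁻¹ := by rw [hn, hn₀]
          calc n₀⁻¹ * n * y₀ = n₀⁻¹ * (n * y₀ * n⁻¹) * n := by group
            _ = n₀⁻¹ * (n₀ * y₀ * n₀⁻¹) * n := by rw [h3]
            _ = y₀ * (n₀⁻¹ * n) := by group
        · rintro ⟨u, hu, rfl⟩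
          rw [hQset, Finset.mem_filter] at hu
          have huc : u * y₀ = y₀ * u := by
            have h4 : u ∈ Subgroup.centralizer ({y₀} : Set G) := by
              rw [hcent y₀ hh hy₀1]
              exact hu.2
            exact Subgroup.mem_centralizer_singleton_iff.mp h4
          refine ⟨⟨Finset.mem_univ _, ?_⟩, ?_⟩
          · rw [hN]
            exact mul_mem hn₀N (Subgroup.le_normalizer hu.2)
          · rw [← hn₀]
            calc n₀ * u * y₀ * (n₀ * u)⁻¹ = n₀ * (u * y₀) * u⁻¹ * n₀⁻¹ := by group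
              _ = n₀ * (y₀ * u) * u⁻¹ * n₀⁻¹ := by rw [huc]
              _ = n₀ * y₀ * n₀⁻¹ := by group
      rw [hset, Finset.card_image_of_injective _ (mul_right_injective n₀), hQcard]
    rw [Finset.sum_congr rfl h2, Finset.sum_const, smul_eq_mul, hNsetcard] at h1
    exact (Nat.eq_of_mul_eq_mul_right hp.pos h1.symm)
  have h3 := Finset.card_eq_sum_card_fiberwise hmaps
  rw [Finset.sum_congr rfl hfib, Finset.sum_const, smul_eq_mul, hPcard, hTcard] at h3
  exact h3.symm

/-- an element of 2-power order in the normalizer of a self-centralizing Sylow subgroup of odd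
prime order, of the largest possible order -/
theorem exists_two_elt (hp2 : p ≠ 2) (P : Sylow p G) (hcard : Nat.card P = p)
    (hcentP : Subgroup.centralizer ((P : Subgroup G) : Set G) = (P : Subgroup G))
    (t : ℕ) (htodd : Odd t)
    (hte : t * ((P : Subgroup G).relIndex (Subgroup.normalizer ((P : Subgroup G) : Set G)))
      = p - 1) :
    ∃ σ : G, σ ∈ Subgroup.normalizer ((P : Subgroup G) : Set G) ∧ ∃ k : ℕ, 1 ≤ k ∧
      orderOf σ = 2 ^ k ∧ 2 ^ k ∣ p - 1 ∧ Odd ((p - 1) / 2 ^ k) := by
  classical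
  have hp : p.Prime := Fact.out
  have h2 : Fact (Nat.Prime 2) := ⟨Nat.prime_two⟩
  obtain ⟨e, he⟩ : ∃ e : ℕ,
      e = (P : Subgroup G).relIndex (Subgroup.normalizer ((P : Subgroup G) : Set G)) :=
    ⟨_, rfl⟩
  rw [← he] at hte
  have hNcard : Nat.card (Subgroup.normalizer ((P : Subgroup G) : Set G)) = e * p := by
    rw [he, ← relIndex_mul_card_eq _ _ Subgroup.le_normalizer, hcard]
  obtain ⟨Q⟩ : Nonempty (Sylow 2 (Subgroup.normalizer ((P : Subgroup G) : Set G))) :=
    inferInstance
  have hPcyc : IsCyclic (P : Subgroup G) := isCyclic_of_prime_card hcard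
  have hprime' : Fact (Nat.card (P : Subgroup G)).Prime := ⟨by rw [hcard]; exact hp⟩
  have hAutCyc : IsCyclic (MulAut (P : Subgroup G)) :=
    isCyclic_of_injective (IsCyclic.mulAutMulEquiv (P : Subgroup G)).toMonoidHom
      (IsCyclic.mulAutMulEquiv (P : Subgroup G)).injective
  obtain ⟨ψ, hψ⟩ : ∃ ψ : (Q : Subgroup (Subgroup.normalizer ((P : Subgroup G) : Set G)))
      →* MulAut (P : Subgroup G),
      ψ = ((P : Subgroup G).normalizerMonoidHom).comp
        (Q : Subgroup (Subgroup.normalizer ((P : Subgroup G) : Set G))).subtype := ⟨_, rfl⟩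
  have hinj : Function.Injective ψ := by
    rw [injective_iff_map_eq_one]
    intro q hq
    have h1 : ((q : Subgroup.normalizer ((P : Subgroup G) : Set G)))
        ∈ ((P : Subgroup G).normalizerMonoidHom).ker := by
      rw [MonoidHom.mem_ker]
      rw [hψ] at hq
      exact hq
    rw [Subgroup.normalizerMonoidHom_ker, Subgroup.mem_subgroupOf, hcentP] at h1
    have h3 : orderOf (((q : Subgroup.normalizer ((P : Subgroup G) : Set G))) : G) ∣ p := by
      have h4 : orderOf (⟨_, h1⟩ : (P : Subgroup G)) ∣ Nat.card (P : Subgroup G) :=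
        orderOf_dvd_natCard _
      rw [hcard, Subgroup.orderOf_mk] at h4
      exact h4
    obtain ⟨j, hj⟩ := Q.isPGroup' q
    have h5 : orderOf (((q : Subgroup.normalizer ((P : Subgroup G) : Set G))) : G) ∣ 2 ^ j := by
      rw [Subgroup.orderOf_coe, Subgroup.orderOf_coe]
      exact orderOf_dvd_of_pow_eq_one hj
    have hcop : Nat.Coprime p (2 ^ j) :=
      Nat.Coprime.pow_right j ((Nat.coprime_primes hp Nat.prime_two).mpr hp2)
    have h6 : orderOf (((q : Subgroup.normalizer ((P : Subgroup G) : Set G))) : G) = 1 :=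
      Nat.eq_one_of_dvd_coprimes hcop h3 h5
    rw [orderOf_eq_one_iff] at h6
    apply Subtype.ext
    apply Subtype.ext
    exact h6
  have hQcyc : IsCyclic (Q : Subgroup (Subgroup.normalizer ((P : Subgroup G) : Set G))) :=
    isCyclic_of_injective ψ hinj
  obtain ⟨σq, hσq⟩ := IsCyclic.exists_generator
    (α := (Q : Subgroup (Subgroup.normalizer ((P : Subgroup G) : Set G))))
  have hord : orderOf σq
      = Nat.card (Q : Subgroup (Subgroup.normalizer ((P : Subgroup G) : Set G))) :=
    orderOf_eq_card_of_forall_mem_zpowers hσq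
  obtain ⟨k, hk⟩ := IsPGroup.iff_card.mp Q.isPGroup'
  have hidx := Q.not_dvd_index
  have hmul := (Q : Subgroup (Subgroup.normalizer ((P : Subgroup G) : Set G))).card_mul_index
  rw [hk, hNcard] at hmul
  obtain ⟨idx, hidxe⟩ : ∃ idx : ℕ,
      idx = (Q : Subgroup (Subgroup.normalizer ((P : Subgroup G) : Set G))).index := ⟨_, rfl⟩
  rw [← hidxe] at hmul hidx
  have hcop : Nat.Coprime (2 ^ k) p :=
    Nat.Coprime.pow_left k ((Nat.coprime_primes Nat.prime_two hp).mpr (Ne.symm hp2))
  have hdvd : 2 ^ k ∣ e := hcop.dvd_of_dvd_mul_right ⟨idx, hmul.symm⟩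
  obtain ⟨e', he'⟩ := hdvd
  have hidx' : idx = e' * p := by
    have h1 : 2 ^ k * idx = 2 ^ k * (e' * p) := by rw [hmul, he']; ring
    exact Nat.eq_of_mul_eq_mul_left (pow_pos (by norm_num) k) h1
  have he'odd : Odd e' := by
    rw [← Nat.not_even_iff_odd]
    intro hev
    apply hidx
    rw [hidx']
    exact dvd_mul_of_dvd_left (even_iff_two_dvd.mp hev) p
  have hpm : p - 1 = 2 ^ k * (t * e') := by
    rw [← hte, he']; ring
  have hodd2 : Odd (t * e') := htodd.mul he'odd
  refine ⟨((σq : Subgroup.normalizer ((P : Subgroup G) : Set G)) : G),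
    (σq : Subgroup.normalizer ((P : Subgroup G) : Set G)).2, k, ?_, ?_,
    ⟨t * e', hpm⟩, ?_⟩
  · by_contra hk0
    have hk0' : k = 0 := by omega
    rw [hk0', pow_zero, one_mul] at hpm
    have hev : Even (p - 1) := hp.even_sub_one hp2
    rw [hpm] at hev
    exact (Nat.not_even_iff_odd.mpr hodd2) hev
  · rw [Subgroup.orderOf_coe, Subgroup.orderOf_coe, hord, hk]
  · rw [hpm, Nat.mul_div_cancel_left _ (pow_pos (by norm_num) k)]
    exact hodd2

end count

end Cfsg.Agent.Lib.Helper24
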