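import Mathlib
import Cfsg.Prelude.Def_Blocks
import Cfsg.Agent.Lib.Helper24.DetIdem
import Cfsg.Agent.Lib.Helper24.PrimeSylow
import Cfsg.Agent.Lib.Helper24.BLStruct
import Cfsg.Agent.Lib.Helper8.DefectNum
import Cfsg.Agent.Lib.Helper25.BlockOrth
import Cfsg.Agent.Lib.Helper25.Codegree
import Cfsg.Agent.S4646

set_option autoImplicit false

/-!
Characters of degree `p - 1` in a group with a self-centralizing element of order `p`.
-/

namespace Cfsg.Agent.Lib.Helper24

open Cfsg Cfsg.Agent.Lib.Helper2 Cfsg.Agent.Lib.Helper8 Cfsg.Agent.Lib.Helper25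
open scoped ComplexConjugate

section general

variable {G : Type*} [Group G] [Finite G]

/-- a homomorphism to a commutative group taking a value of order two forces the commutator
subgroup to have even index -/
theorem even_index_of_hom {H : Type*} [Group H] (hH : ∀ a b : H, a * b = b * a) (φ : G →* H)
    (g : G) (h1 : φ g ≠ 1) (h2 : φ g ^ 2 = 1) : Even (commutator G).index := by
  have hle : commutator G ≤ φ.ker := by
    rw [commutator_def, Subgroup.commutator_le]
    intro a _ b _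
    rw [MonoidHom.mem_ker, map_commutatorElement, commutatorElement_def, hH (φ a) (φ b)]
    group
  have hdvd : φ.ker.index ∣ (commutator G).index := Subgroup.index_dvd_of_le hle
  rw [Subgroup.index_ker] at hdvd
  have h2f : Fact (Nat.Prime 2) := ⟨Nat.prime_two⟩
  have hord : orderOf (⟨φ g, g, rfl⟩ : φ.range) = 2 := by
    apply orderOf_eq_prime
    · apply Subtype.ext
      exact h2
    · intro h
      exact h1 (congrArg Subtype.val h)
  have h3 : orderOf (⟨φ g, g, rfl⟩ : φ.range) ∣ Nat.card φ.range := orderOf_dvd_natCard _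
  rw [hord] at h3
  exact even_iff_two_dvd.mpr (dvd_trans h3 hdvd)

/-- the degree of an irreducible character is bounded by the index of a subgroup on which it
is constant -/
theorem ker_bound [Fintype G] (χ : IrrCharacter G) (K : Subgroup G)
    (hK : ∀ g ∈ K, (χ : G → ℂ) g = (χ : G → ℂ) 1) (d : ℕ) (hd : (χ : G → ℂ) 1 = d) :
    d ^ 2 * Nat.card K ≤ Nat.card G := by
  classical
  have h1 := classInner_irr_self χ.2
  rw [classInner_def] at h1
  have hG0 : (Nat.card G : ℂ) ≠ 0 := by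
    have : Nat.card G ≠ 0 := Nat.card_pos.ne'
    exact_mod_cast this
  have h2 : ∑ g : G, (χ : G → ℂ) g * conj ((χ : G → ℂ) g) = (Nat.card G : ℂ) := by
    field_simp at h1
    linear_combination h1
  have h3 : ∀ g : G, (χ : G → ℂ) g * conj ((χ : G → ℂ) g)
      = ((Complex.normSq ((χ : G → ℂ) g) : ℝ) : ℂ) := fun g => Complex.mul_conj _
  rw [Finset.sum_congr rfl (fun g _ => h3 g), ← Complex.ofReal_sum] at h2
  have h4 : ∑ g : G, Complex.normSq ((χ : G → ℂ) g) = (Nat.card G : ℝ) := by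
    exact_mod_cast h2
  have h5 : ∑ g ∈ Finset.univ.filter (fun g => g ∈ K), Complex.normSq ((χ : G → ℂ) g)
      ≤ ∑ g : G, Complex.normSq ((χ : G → ℂ) g) :=
    Finset.sum_le_sum_of_subset_of_nonneg (Finset.filter_subset _ _)
      (fun g _ _ => Complex.normSq_nonneg _)
  have h6 : ∑ g ∈ Finset.univ.filter (fun g => g ∈ K), Complex.normSq ((χ : G → ℂ) g)
      = (Nat.card K : ℝ) * (d : ℝ) ^ 2 := by
    have h7 : ∀ g ∈ Finset.univ.filter (fun g => g ∈ K),
        Complex.normSq ((χ : G → ℂ) g) = (d : ℝ) ^ 2 := by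
      intro g hg
      rw [Finset.mem_filter] at hg
      rw [hK g hg.2, hd, Complex.normSq_natCast]
      ring
    rw [Finset.sum_congr rfl h7, Finset.sum_const, nsmul_eq_mul]
    congr 1
    rw [Nat.card_eq_fintype_card, Fintype.card_subtype]
  rw [h6, h4] at h5
  have h8 : ((d ^ 2 * Nat.card K : ℕ) : ℝ) ≤ ((Nat.card G : ℕ) : ℝ) := by
    push_cast
    linarith
  exact_mod_cast h8

end general

section principal

variable {G : Type*} [Group G] [Finite G] {p : ℕ} [Fact p.Prime]

/-- with a self-centralizing Sylow subgroup of prime order, every irreducible character of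
degree prime to `p` lies in the principal block -/
theorem in_principal_of_self_centralizing (M : Ideal AlgInt) (hM : IsPModular p M)
    (P : Sylow p G) (hcard : Nat.card P = p)
    (hcent : ∀ y ∈ (P : Subgroup G), y ≠ 1 →
      Subgroup.centralizer ({y} : Set G) = (P : Subgroup G))
    (χ : IrrCharacter G) (d : ℕ) (hd : (χ : G → ℂ) 1 = d) (hdp : ¬ p ∣ d) :
    χ ∈ principalBlock M G := by
  have := Fintype.ofFinite G
  have hp : p.Prime := Fact.out
  have hpr : M.IsPrime := isPrime_of_isPModular hM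
  show SameBlock M (fun _ : G => (1 : ℂ)) (χ : G → ℂ)
  intro g
  obtain ⟨idx, hidx⟩ : ∃ idx : ℕ, idx = (Subgroup.centralizer ({g} : Set G)).index :=
    ⟨_, rfl⟩
  show MemLocalIdeal M
    (((Subgroup.centralizer ({g} : Set G)).index : ℂ) * 1 / 1
      - ((Subgroup.centralizer ({g} : Set G)).index : ℂ) * (χ : G → ℂ) g / (χ : G → ℂ) 1)
  rw [← hidx]
  have hd0 : (d : ℂ) ≠ 0 := by
    have : d ≠ 0 := by
      intro h0
      apply hdp
      rw [h0]
      exact dvd_zero p
    exact_mod_cast this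
  have key : (idx : ℂ) * 1 / 1 - (idx : ℂ) * (χ : G → ℂ) g / (χ : G → ℂ) 1
      = (idx : ℂ) * ((-((χ : G → ℂ) g - (χ : G → ℂ) 1)) * (d : ℂ)⁻¹) := by
    rw [hd]
    field_simp
    ring
  rw [key]
  have hring : MemLocalRing M ((-((χ : G → ℂ) g - (χ : G → ℂ) 1)) * (d : ℂ)⁻¹) := by
    apply MemLocalRing.mul M _ (memLocalRing_inv_natCast hM hdp)
    apply MemLocalRing.neg M
    exact MemLocalRing.sub M (memLocalRing_of_isIntegral M (irr_isIntegral χ g))
      (memLocalRing_of_isIntegral M (irr_isIntegral χ 1))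
  by_cases hdv : p ∣ idx
  · exact MemLocalIdeal.mul_right M ((memLocalIdeal_natCast_iff hM idx).mpr hdv) hring
  · -- g is a p-element
    have hpG : p ∣ Nat.card G := by
      have h1 : Nat.card (P : Subgroup G) ∣ Nat.card G := Subgroup.card_subgroup_dvd_card _
      rw [hcard] at h1
      exact h1
    have hmul := (Subgroup.centralizer ({g} : Set G)).card_mul_index
    rw [← hidx] at hmul
    have hpC : p ∣ Nat.card (Subgroup.centralizer ({g} : Set G)) := by
      rw [← hmul] at hpG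
      rcases hp.dvd_mul.mp hpG with h | h
      · exact h
      · exact absurd h hdv
    obtain ⟨c, hc⟩ := exists_prime_orderOf_dvd_card' p hpC
    have hco : orderOf ((c : Subgroup.centralizer ({g} : Set G)) : G) = p := by
      rw [Subgroup.orderOf_coe, hc]
    obtain ⟨h, hh⟩ := conj_mem_sylow P ((c : Subgroup.centralizer ({g} : Set G)) : G)
      ⟨1, by rw [hco, pow_one]⟩
    have hcg : ((c : Subgroup.centralizer ({g} : Set G)) : G) * g
        = g * ((c : Subgroup.centralizer ({g} : Set G)) : G) :=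
      Subgroup.mem_centralizer_singleton_iff.mp c.2
    obtain ⟨c', hc'⟩ : ∃ c' : G, c' = ((c : Subgroup.centralizer ({g} : Set G)) : G) :=
      ⟨_, rfl⟩
    rw [← hc'] at hh hcg hco
    have hy1 : h * c' * h⁻¹ ≠ 1 := by
      intro h1
      have h2 : c' = h⁻¹ * (h * c' * h⁻¹) * h := by group
      rw [h1] at h2
      have h3 : c' = 1 := by rw [h2]; group
      rw [h3, orderOf_one] at hco
      exact hp.one_lt.ne hco
    have hmem : h * g * h⁻¹ ∈ Subgroup.centralizer ({h * c' * h⁻¹} : Set G) := by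
      rw [Subgroup.mem_centralizer_singleton_iff]
      calc h * g * h⁻¹ * (h * c' * h⁻¹) = h * (g * c') * h⁻¹ := by group
        _ = h * (c' * g) * h⁻¹ := by rw [hcg]
        _ = h * c' * h⁻¹ * (h * g * h⁻¹) := by group
    rw [hcent _ hh hy1] at hmem
    have hord : orderOf (h * g * h⁻¹) ∣ p := by
      have h4 : orderOf (⟨_, hmem⟩ : (P : Subgroup G)) ∣ Nat.card (P : Subgroup G) :=
        orderOf_dvd_natCard _
      rw [Subgroup.orderOf_mk] at h4
      exact h4.trans (dvd_of_eq hcard)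
    have hgp : g ^ p = 1 := by
      have h5 : (h * g * h⁻¹) ^ p = 1 := orderOf_dvd_iff_pow_eq_one.mp hord
      rw [conj_pow] at h5
      have h6 : g ^ p = h⁻¹ * (h * g ^ p * h⁻¹) * h := by group
      rw [h6, h5]
      group
    have h7 := char_mul_sub_mem hM χ g 1 1 (by rw [pow_one]; exact hgp) (by rw [mul_one, one_mul])
    rw [mul_one] at h7
    exact MemLocalIdeal.mul_left M (memLocalRing_natCast M idx)
      (MemLocalIdeal.mul_right M (MemLocalIdeal.neg M h7) (memLocalRing_inv_natCast hM hdp))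

end principal

section mult

variable {A : Type*} [Group A] [Fintype A]

open Classical in
/-- multiplicities of linear characters in a representation whose character is given off the
identity by a combination of linear characters -/
theorem mult_formula {n : ℕ} (ρ : Representation ℂ A (Fin n → ℂ))
    (Of : Finset (A →* ℂˣ)) (d₀ δ : ℂ)
    (hval : ∀ a : A, a ≠ 1 → ρ.character a = -d₀ + δ * ∑ ψ ∈ Of, ((ψ a : ℂˣ) : ℂ))
    (ν : A →* ℂˣ) :
    (Nat.card A : ℂ) * ((Module.finrank ℂ (LinearMap.range (isoProj ρ ν)) : ℕ) : ℂ)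
      = -d₀ * (if (1 : A →* ℂˣ) = ν then (Nat.card A : ℂ) else 0)
        + δ * (if ν ∈ Of then (Nat.card A : ℂ) else 0)
        + ((n : ℂ) + d₀ - δ * (Of.card : ℂ)) := by
  classical
  have hcard0 : (Nat.card A : ℂ) ≠ 0 := by
    have : Nat.card A ≠ 0 := Nat.card_pos.ne'
    exact_mod_cast this
  rw [finrank_isoProj, ← mul_assoc, mul_inv_cancel₀ hcard0, one_mul]
  have hF1 : ρ.character 1 = n := by
    rw [Representation.char_one, Module.finrank_fin_fun]
  have hterm : ∀ a : A, ((ν a⁻¹ : ℂˣ) : ℂ) * ρ.character a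
      = -d₀ * ((((1 : A →* ℂˣ) a : ℂˣ) : ℂ) * ((ν a⁻¹ : ℂˣ) : ℂ))
        + δ * ∑ ψ ∈ Of, (((ψ a : ℂˣ) : ℂ) * ((ν a⁻¹ : ℂˣ) : ℂ))
        + (if a = 1 then ((n : ℂ) + d₀ - δ * (Of.card : ℂ)) else 0) := by
    intro a
    by_cases ha : a = 1
    · rw [if_pos ha, ha, hF1]
      simp only [inv_one, map_one, Units.val_one, one_mul, mul_one, Finset.sum_const,
        nsmul_eq_mul]
      ring
    · rw [if_neg ha, hval a ha, add_zero, ← Finset.sum_mul]
      simp only [MonoidHom.one_apply, Units.val_one, one_mul]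
      ring
  rw [Finset.sum_congr rfl (fun a _ => hterm a), Finset.sum_add_distrib,
    Finset.sum_add_distrib, ← Finset.mul_sum, ← Finset.mul_sum, Finset.sum_comm,
    sum_hom_mul_inv (1 : A →* ℂˣ) ν, Finset.sum_ite_eq' Finset.univ (1 : A),
    if_pos (Finset.mem_univ _)]
  have h2 : ∑ ψ ∈ Of, ∑ a : A, ((ψ a : ℂˣ) : ℂ) * ((ν a⁻¹ : ℂˣ) : ℂ)
      = if ν ∈ Of then (Nat.card A : ℂ) else 0 := by
    rw [Finset.sum_congr rfl (fun ψ _ => sum_hom_mul_inv ψ ν)]
    exact Finset.sum_ite_eq' Of ν (fun _ => (Nat.card A : ℂ))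
  rw [h2]

end mult

section cases

variable {G : Type*} [Group G] [Finite G] {p : ℕ} [Fact p.Prime]

/-- a character of degree `p - 1` that is constant off the identity on a Sylow subgroup of
order `p` takes there the value `-1` (and then has no trivial constituent) or its degree -/
theorem const_value_cases (P : Sylow p G) [IsMulCommutative P] [Fintype (P : Subgroup G)]
    (hcard : Nat.card P = p)
    {n : ℕ} (ρ : Representation ℂ G (Fin n → ℂ)) (hn : n + 1 = p) (c : ℂ)
    (hc : ∀ y ∈ (P : Subgroup G), y ≠ 1 → ρ.character y = c) :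
    (c = -1 ∧ isoProj (ρ.comp (P : Subgroup G).subtype) 1 = 0) ∨ c = (n : ℂ) := by
  classical
  have hp : p.Prime := Fact.out
  obtain ⟨ν₁, hν₁⟩ : ∃ ν₁ : (P : Subgroup G) →* ℂˣ, ν₁ ≠ 1 := by
    have h1 : Nat.card ((P : Subgroup G) →* ℂˣ) = p := by rw [card_hom_eq, hcard]
    have : Nontrivial ((P : Subgroup G) →* ℂˣ) :=
      Finite.one_lt_card_iff_nontrivial.mp (by rw [h1]; exact hp.one_lt)
    exact exists_ne 1
  have hval : ∀ a : (P : Subgroup G), a ≠ 1 →
      Representation.character (ρ.comp (P : Subgroup G).subtype) a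
        = -(-c) + 0 * ∑ ψ ∈ (∅ : Finset ((P : Subgroup G) →* ℂˣ)), ((ψ a : ℂˣ) : ℂ) := by
    intro a ha
    rw [zero_mul, add_zero, neg_neg]
    exact hc a a.2 (fun h => ha (Subtype.ext h))
  have h1 := mult_formula (ρ.comp (P : Subgroup G).subtype) ∅ (-c) 0 hval 1
  have h2 := mult_formula (ρ.comp (P : Subgroup G).subtype) ∅ (-c) 0 hval ν₁
  rw [if_pos rfl, if_neg (Finset.notMem_empty _)] at h1
  rw [if_neg (Ne.symm hν₁), if_neg (Finset.notMem_empty _)] at h2
  obtain ⟨r₁, hr₁⟩ : ∃ r₁ : ℕ, r₁ = Module.finrank ℂ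
      (LinearMap.range (isoProj (ρ.comp (P : Subgroup G).subtype) 1)) := ⟨_, rfl⟩
  obtain ⟨r, hr⟩ : ∃ r : ℕ, r = Module.finrank ℂ
      (LinearMap.range (isoProj (ρ.comp (P : Subgroup G).subtype) ν₁)) := ⟨_, rfl⟩
  rw [← hr₁] at h1
  rw [← hr] at h2
  have hcardC : (Nat.card (P : Subgroup G) : ℂ) = (p : ℂ) := by
    exact_mod_cast hcard
  rw [hcardC] at h1 h2
  have hnp : (n : ℂ) = p - 1 := by
    have h3 : (n : ℂ) + 1 = p := by exact_mod_cast hn
    linear_combination h3
  have hc' : c = (p : ℂ) - 1 - p * r := by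
    rw [hnp] at h2
    simp only [neg_neg, mul_zero, Finset.card_empty, Nat.cast_zero, add_zero, zero_add,
      sub_zero] at h2
    linear_combination h2
  have h3 : (p : ℂ) * r₁ = p * ((p - 1) * (1 - r)) := by
    rw [h1, hnp]
    simp only [neg_neg, mul_zero, Finset.card_empty, Nat.cast_zero, add_zero, sub_zero]
    rw [hc']
    ring
  have hp0 : (p : ℂ) ≠ 0 := by
    have : p ≠ 0 := hp.pos.ne'
    exact_mod_cast this
  have h4 : (r₁ : ℂ) = ((p : ℂ) - 1) * (1 - r) := mul_left_cancel₀ hp0 h3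
  have h5 : (r₁ : ℤ) = ((p : ℤ) - 1) * (1 - r) := by exact_mod_cast h4
  have hr01 : r ≤ 1 := by
    by_contra h
    have h6 : (2 : ℤ) ≤ (r : ℤ) := by exact_mod_cast (show 2 ≤ r by omega)
    have h7 : (1 : ℤ) ≤ (p : ℤ) - 1 := by
      have := hp.two_le
      have h8 : (2 : ℤ) ≤ (p : ℤ) := by exact_mod_cast this
      linarith
    have h9 : (0 : ℤ) ≤ (r₁ : ℤ) := Int.natCast_nonneg _
    nlinarith
  have hr2 : r = 0 ∨ r = 1 := by omega
  rcases hr2 with h0 | h0
  · right
    rw [hc', hnp, h0]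
    simp
  · left
    constructor
    · rw [hc', h0]
      push_cast
      ring
    · apply isoProj_eq_zero_of_finrank
      rw [← hr₁]
      have h6 : (r₁ : ℤ) = 0 := by
        rw [h5, h0]
        simp
      exact_mod_cast h6

set_option maxHeartbeats 1000000 in
/-- in the principal block, a character of degree `p - 1` is constant on the nonidentity
elements of the Sylow subgroup of order `p` -/
theorem const_on_P_of_struct (M : Ideal AlgInt) (hM : IsPModular p M) (P : Sylow p G)
    [IsMulCommutative P] (hcard : Nat.card P = p) (e t : ℕ) (he2 : 1 < e) (ht3 : 3 ≤ t)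
    (hte : t * e = p - 1)
    (hCN : (Subgroup.centralizer ((P : Subgroup G) : Set G)).relIndex
      (Subgroup.normalizer ((P : Subgroup G) : Set G)) = e)
    (hfrob : ∀ y : G, y ∈ (P : Subgroup G) → y ≠ 1 →
      Subgroup.centralizer ({y} : Set G) ⊓ Subgroup.normalizer ((P : Subgroup G) : Set G)
        = Subgroup.centralizer ((P : Subgroup G) : Set G))
    (χ : IrrCharacter G) (hχ : χ ∈ principalBlock M G) {n : ℕ}
    (ρ : Representation ℂ G (Fin n → ℂ)) (hρ : ρ.character = (χ : G → ℂ)) (hn : n + 1 = p) :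
    ∃ c : ℂ, ∀ y ∈ (P : Subgroup G), y ≠ 1 → (χ : G → ℂ) y = c := by
  classical
  have hp : p.Prime := Fact.out
  have := Fintype.ofFinite G
  have : Fintype (P : Subgroup G) := Fintype.ofFinite _
  have : Fintype ((P : Subgroup G) →* ℂˣ) := Fintype.ofFinite _
  have hP1 : Nat.card P ≠ 1 := by
    rw [hcard]
    exact hp.one_lt.ne'
  have hm2 : e + 1 < Nat.card P := by
    rw [hcard]
    have h1 : 3 * e ≤ t * e := Nat.mul_le_mul_right e ht3
    omega
  obtain ⟨δ, d₀, C₀, ζ, Bf, Yf, hδ, hBf, hYf, hYsub, hζ, hC₀Y, hYcard, hval, hsec, hcol,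
    hreg, hne0, htriv, hrel, hother, hfib⟩ := bl_struct hM P hP1 e he2 hm2 hCN hfrob
  by_cases hY : χ ∈ Yf
  · exfalso
    obtain ⟨ψ₀, hψ₀1, hψ₀⟩ := (hYf χ).mp hY
    obtain ⟨ψ', hψ'1, hψ'⟩ := hother ψ₀ hψ₀1
    obtain ⟨Of, hOf⟩ : ∃ Of : Finset ((P : Subgroup G) →* ℂˣ),
        Of = Finset.univ.filter (fun ψ => ψ ≠ 1 ∧ χ = ζ ψ) := ⟨_, rfl⟩
    have hOfcard : Of.card = e := by
      have h1 := hfib ψ₀ hψ₀1
      rw [Nat.card_eq_fintype_card, Fintype.card_subtype] at h1
      rw [← h1, hOf]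
      congr 1
      ext ψ
      simp only [Finset.mem_filter, Finset.mem_univ, true_and]
      rw [hψ₀]
      constructor <;> rintro ⟨h1, h2⟩ <;> exact ⟨h1, h2.symm⟩
    have hvalA : ∀ a : (P : Subgroup G), a ≠ 1 →
        Representation.character (ρ.comp (P : Subgroup G).subtype) a
          = -(d₀ : ℂ) + (δ : ℂ) * ∑ ψ ∈ Of, ((ψ a : ℂˣ) : ℂ) := by
      intro a ha
      have h1 := hval χ hχ a ha
      have h2 : Representation.character (ρ.comp (P : Subgroup G).subtype) a = (χ : G → ℂ) (a : G) := by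
        rw [← hρ]
        rfl
      rw [h2, h1, hC₀Y χ hY]
      congr 2
      rw [finsum_mem_eq_sum_indicator, hOf, Finset.sum_filter]
      apply Finset.sum_congr rfl
      intro ψ _
      by_cases h : ψ ≠ 1 ∧ χ = ζ ψ
      · rw [if_pos h, Set.indicator_of_mem
          (show ψ ∈ {ψ : (P : Subgroup G) →* ℂˣ | ψ ≠ 1 ∧ χ = ζ ψ} from h)]
      · rw [if_neg h, Set.indicator_of_notMem
          (show ψ ∉ {ψ : (P : Subgroup G) →* ℂˣ | ψ ≠ 1 ∧ χ = ζ ψ} from h)]
    have hk := mult_formula (ρ.comp (P : Subgroup G).subtype) Of d₀ δ hvalA ψ'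
    have ha₀ := mult_formula (ρ.comp (P : Subgroup G).subtype) Of d₀ δ hvalA ψ₀
    have ha₁ := mult_formula (ρ.comp (P : Subgroup G).subtype) Of d₀ δ hvalA 1
    have hψ'Of : ψ' ∉ Of := by
      rw [hOf, Finset.mem_filter]
      rintro ⟨_, _, h⟩
      exact hψ' (by rw [← h, hψ₀])
    have hψ₀Of : ψ₀ ∈ Of := by
      rw [hOf, Finset.mem_filter]
      exact ⟨Finset.mem_univ _, hψ₀1, hψ₀.symm⟩
    have h1Of : (1 : (P : Subgroup G) →* ℂˣ) ∉ Of := by
      rw [hOf, Finset.mem_filter]
      rintro ⟨_, h, _⟩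
      exact h rfl
    rw [if_neg (Ne.symm hψ'1), if_neg hψ'Of] at hk
    rw [if_neg (Ne.symm hψ₀1), if_pos hψ₀Of] at ha₀
    rw [if_pos rfl, if_neg h1Of] at ha₁
    have hcardC : (Nat.card (P : Subgroup G) : ℂ) = (p : ℂ) := by
      exact_mod_cast hcard
    rw [hOfcard, hcardC] at hk ha₀ ha₁
    obtain ⟨k, hke⟩ : ∃ k : ℕ, k = Module.finrank ℂ
        (LinearMap.range (isoProj (ρ.comp (P : Subgroup G).subtype) ψ')) := ⟨_, rfl⟩
    obtain ⟨a₀, ha₀e⟩ : ∃ a₀ : ℕ, a₀ = Module.finrank ℂ
        (LinearMap.range (isoProj (ρ.comp (P : Subgroup G).subtype) ψ₀)) := ⟨_, rfl⟩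
    obtain ⟨a₁, ha₁e⟩ : ∃ a₁ : ℕ, a₁ = Module.finrank ℂ
        (LinearMap.range (isoProj (ρ.comp (P : Subgroup G).subtype) 1)) := ⟨_, rfl⟩
    rw [← hke] at hk
    rw [← ha₀e] at ha₀
    rw [← ha₁e] at ha₁
    have hkZ : (p : ℤ) * k = n + d₀ - δ * e := by
      have h1 : (p : ℂ) * (k : ℂ) = (n : ℂ) + (d₀ : ℂ) - (δ : ℂ) * (e : ℂ) := by
        rw [hk]; ring
      exact_mod_cast h1
    have ha₀Z : (p : ℤ) * a₀ = δ * p + (n + d₀ - δ * e) := by
      have h1 : (p : ℂ) * (a₀ : ℂ) = (δ : ℂ) * (p : ℂ)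
          + ((n : ℂ) + (d₀ : ℂ) - (δ : ℂ) * (e : ℂ)) := by
        rw [ha₀]; ring
      exact_mod_cast h1
    have ha₁Z : (p : ℤ) * a₁ = -d₀ * p + (n + d₀ - δ * e) := by
      have h1 : (p : ℂ) * (a₁ : ℂ) = -(d₀ : ℂ) * (p : ℂ)
          + ((n : ℂ) + (d₀ : ℂ) - (δ : ℂ) * (e : ℂ)) := by
        rw [ha₁]; ring
      exact_mod_cast h1
    have hS : 1 ≤ ∑ χ ∈ Bf \ Yf, C₀ χ ^ 2 := by
      have h1 := hne0 _ htriv
      have h2 : (1 : ℤ) ≤ C₀ (Cfsg.Agent.Lib.Helper8.trivIrr G) ^ 2 := by
        have h3 : 0 < C₀ (Cfsg.Agent.Lib.Helper8.trivIrr G) ^ 2 := by positivity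
        omega
      exact le_trans h2 (Finset.single_le_sum (f := fun χ => C₀ χ ^ 2)
        (fun i _ => sq_nonneg (C₀ i)) htriv)
    have hYc : Yf.card = t := by
      have h1 : Yf.card * e = t * e := by rw [hYcard, hcard, hte]
      exact Nat.eq_of_mul_eq_mul_right (by omega) h1
    rw [hYc] at hrel
    obtain ⟨S, hSe⟩ : ∃ S : ℤ, S = ∑ χ ∈ Bf \ Yf, C₀ χ ^ 2 := ⟨_, rfl⟩
    rw [← hSe] at hrel hS
    have hpZ : (2 : ℤ) ≤ (p : ℤ) := by exact_mod_cast hp.two_le
    have hnZ : (n : ℤ) = (p : ℤ) - 1 := by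
      have h1 : (n : ℤ) + 1 = p := by exact_mod_cast hn
      linarith
    have hteZ : (t : ℤ) * e = (p : ℤ) - 1 := by
      have h1 : ((t * e : ℕ) : ℤ) = ((p - 1 : ℕ) : ℤ) := by rw [hte]
      rw [Nat.cast_sub hp.one_lt.le] at h1
      push_cast at h1
      exact h1
    have he2Z : (2 : ℤ) ≤ (e : ℤ) := by exact_mod_cast he2
    have ht3Z : (3 : ℤ) ≤ (t : ℤ) := by exact_mod_cast ht3
    have hk0 : (0 : ℤ) ≤ (k : ℤ) := Int.natCast_nonneg _
    have ha₀0 : (0 : ℤ) ≤ (a₀ : ℤ) := Int.natCast_nonneg _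
    have ha₁0 : (0 : ℤ) ≤ (a₁ : ℤ) := Int.natCast_nonneg _
    have hppos : (0 : ℤ) < (p : ℤ) := by linarith
    -- a₀ = δ + k and a₁ = -d₀ + k
    have hA₀ : (a₀ : ℤ) = δ + k := by
      have h1 : (p : ℤ) * a₀ = p * (δ + k) := by rw [ha₀Z, ← hkZ]; ring
      exact mul_left_cancel₀ hppos.ne' h1
    have hA₁ : (a₁ : ℤ) = -d₀ + k := by
      have h1 : (p : ℤ) * a₁ = p * (-d₀ + k) := by rw [ha₁Z, ← hkZ]; ring
      exact mul_left_cancel₀ hppos.ne' h1
    have hnte : (n : ℤ) = (t : ℤ) * e := by rw [hnZ, hteZ]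
    rcases hδ with hδ1 | hδ1
    · rw [hδ1] at hkZ hrel
      -- d₀ = p k - n + e
      have hd₀ : d₀ = (p : ℤ) * k - n + e := by linarith
      have hk1 : (k : ℤ) = 0 := by
        by_contra hk1
        have hk2 : (1 : ℤ) ≤ (k : ℤ) := by omega
        have h1 : (0 : ℤ) ≤ (n : ℤ) * (k - 1) := by
          apply mul_nonneg
          · rw [hnZ]; linarith
          · linarith
        have h2 : (a₁ : ℤ) = -((n : ℤ) * (k - 1)) - e := by
          rw [hA₁, hd₀, hnZ]; ring
        linarith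
      rw [hk1] at hd₀
      obtain ⟨D, hD⟩ : ∃ D : ℤ, D = (e : ℤ) * (t - 1) := ⟨_, rfl⟩
      have hd₀D : d₀ = -D := by rw [hd₀, hD, hnte]; ring
      have hD2 : 2 * (e : ℤ) ≤ D := by
        have h1 : (0 : ℤ) ≤ (e : ℤ) * (t - 3) := mul_nonneg (by linarith) (by linarith)
        rw [hD]; linarith
      have hD4 : (4 : ℤ) ≤ D := by linarith
      have hDD : D ≤ D * D := by
        have h1 := mul_nonneg (show (0 : ℤ) ≤ D by linarith) (show (0 : ℤ) ≤ D - 1 by linarith)
        linarith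
      have hT : 3 * (D * D) ≤ (t : ℤ) * (D * D) := by
        have h1 : (0 : ℤ) ≤ ((t : ℤ) - 3) * (D * D) :=
          mul_nonneg (by linarith) (mul_self_nonneg D)
        linarith
      have h2D : (0 : ℤ) ≤ 2 * D * (D - 1) := by
        apply mul_nonneg
        · linarith
        · linarith
      rw [hd₀D] at hrel
      have h9 : S = (e : ℤ) - (t : ℤ) * (D * D) + 2 * D := by linarith [hrel]
      linarith
    · rw [hδ1] at hkZ hrel hA₀
      have hd₀ : d₀ = (p : ℤ) * k - n - e := by linarith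
      have hk1 : (1 : ℤ) ≤ (k : ℤ) := by linarith
      have hk2 : (k : ℤ) = 1 := by
        by_contra hk2
        have hk3 : (2 : ℤ) ≤ (k : ℤ) := by omega
        have h1 : (n : ℤ) ≤ (n : ℤ) * (k - 1) := by
          have h2 : (0 : ℤ) ≤ (n : ℤ) * (k - 2) := by
            apply mul_nonneg
            · rw [hnZ]; linarith
            · linarith
          linarith
        have h2 : (a₁ : ℤ) = -((n : ℤ) * (k - 1)) + e := by
          rw [hA₁, hd₀, hnZ]; ring
        have h3 : (e : ℤ) < (n : ℤ) := by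
          rw [hnte]
          have h4 : (0 : ℤ) ≤ ((t : ℤ) - 3) * e := mul_nonneg (by linarith) (by linarith)
          linarith
        linarith
      rw [hk2] at hd₀
      have hd₀' : d₀ = 1 - (e : ℤ) := by rw [hd₀, hnZ]; ring
      rw [hd₀'] at hrel
      have h5 : (1 : ℤ) ≤ ((e : ℤ) - 1) * ((e : ℤ) - 1) := by
        have h1 := mul_nonneg (show (0 : ℤ) ≤ (e : ℤ) - 2 by linarith)
          (show (0 : ℤ) ≤ (e : ℤ) by linarith)
        linarith
      have h6 : 3 * (((e : ℤ) - 1) * ((e : ℤ) - 1)) ≤ (t : ℤ) * (((e : ℤ) - 1) * ((e : ℤ) - 1)) := by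
        have h7 : (0 : ℤ) ≤ ((t : ℤ) - 3) * (((e : ℤ) - 1) * ((e : ℤ) - 1)) :=
          mul_nonneg (by linarith) (mul_self_nonneg _)
        linarith
      linarith
  · refine ⟨-(C₀ χ : ℂ), ?_⟩
    intro y hy hy1
    have h1 := hval χ hχ ⟨y, hy⟩ (fun h => hy1 (congrArg Subtype.val h))
    have hempty : {ψ : (P : Subgroup G) →* ℂˣ | ψ ≠ 1 ∧ χ = ζ ψ} = ∅ :=
      Set.eq_empty_iff_forall_notMem.mpr
        (fun ψ h => hY ((hYf _).mpr ⟨ψ, h.1, h.2.symm⟩))
    rw [hempty, finsum_mem_empty, mul_zero, add_zero] at h1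
    exact h1

end cases

section main

variable {G : Type*} [Group G] [Finite G]

set_option maxHeartbeats 1000000 in
/-- the main case: `p` odd and an odd number of classes of elements of order `p` -/
theorem deg_pm1_main (p : ℕ) [Fact p.Prime] (hp2 : p ≠ 2) (x : G) (hx : orderOf x = p)
    (hC : Subgroup.centralizer ({x} : Set G) = Subgroup.zpowers x) (t : ℕ)
    (ht : Nat.card {C : ConjClasses G // ∃ g ∈ C.carrier, orderOf g = p} = t)
    (χ : IrrCharacter G) (hχ : charDegree (χ : G → ℂ) + 1 = p) (htodd : Odd t) :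
    Even (commutator G).index := by
  classical
  have hp : p.Prime := Fact.out
  have := Fintype.ofFinite G
  obtain ⟨P, hP⟩ := sylow_of_self_centralizing x hx hC
  have hcard : Nat.card (P : Subgroup G) = p := by rw [hP, Nat.card_zpowers, hx]
  have hx1 : x ≠ 1 := by
    intro h
    rw [h, orderOf_one] at hx
    exact hp.one_lt.ne hx
  have hxP : x ∈ (P : Subgroup G) := by rw [hP]; exact Subgroup.mem_zpowers x
  have hcent : ∀ y ∈ (P : Subgroup G), y ≠ 1 →
      Subgroup.centralizer ({y} : Set G) = (P : Subgroup G) := by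
    intro y hy hy1
    rw [hP] at hy ⊢
    exact cent_of_self_centralizing x hx hC y hy hy1
  have hcomm : IsMulCommutative (P : Subgroup G) := by
    refine ⟨⟨fun a b => ?_⟩⟩
    by_cases ha : (a : G) = 1
    · have ha' : a = 1 := Subtype.ext ha
      rw [ha', one_mul, mul_one]
    · have h1 : (b : G) ∈ Subgroup.centralizer ({(a : G)} : Set G) := by
        rw [hcent a a.2 ha]
        exact b.2
      have h2 := Subgroup.mem_centralizer_singleton_iff.mp h1
      exact Subtype.ext h2.symm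
  have hcentP : Subgroup.centralizer ((P : Subgroup G) : Set G) = (P : Subgroup G) := by
    ext g
    constructor
    · intro hg
      rw [← hcent x hxP hx1, Subgroup.mem_centralizer_singleton_iff]
      exact (Subgroup.mem_centralizer_iff.mp hg x hxP).symm
    · intro hg
      rw [Subgroup.mem_centralizer_iff]
      intro h hh
      have h1 := hcomm.is_comm.comm (⟨h, hh⟩ : (P : Subgroup G)) ⟨g, hg⟩
      exact congrArg Subtype.val h1
  have hfrob : ∀ y : G, y ∈ (P : Subgroup G) → y ≠ 1 →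
      Subgroup.centralizer ({y} : Set G) ⊓ Subgroup.normalizer ((P : Subgroup G) : Set G)
        = Subgroup.centralizer ((P : Subgroup G) : Set G) := by
    intro y hy hy1
    rw [hcent y hy hy1, hcentP]
    exact inf_eq_left.mpr Subgroup.le_normalizer
  have hte := class_count P hcard hcent t ht
  obtain ⟨e, he⟩ : ∃ e : ℕ,
      e = (P : Subgroup G).relIndex (Subgroup.normalizer ((P : Subgroup G) : Set G)) :=
    ⟨_, rfl⟩
  have hte' : t * e = p - 1 := by rw [he]; exact hte
  obtain ⟨d, hd1, hd0, hddvd, hdd⟩ := irr_degree χ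
  have hdp : d + 1 = p := by rw [← hdd]; exact hχ
  have hndvd : ¬ p ∣ d := by
    intro h
    have := Nat.le_of_dvd hd0 h
    omega
  obtain ⟨M, hM⟩ := exists_isPModular p hp
  have hχB : χ ∈ principalBlock M G :=
    in_principal_of_self_centralizing M hM P hcard hcent χ d hd1 hndvd
  obtain ⟨n, ρ, hirr, hρ⟩ := χ.2
  have hn : n = d := by
    have h1 : (n : ℂ) = d := by
      rw [← hd1, ← hρ, Representation.char_one, Module.finrank_fin_fun]
    exact_mod_cast h1
  have hnp : n + 1 = p := by rw [hn]; exact hdp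
  have horder : ∀ y ∈ (P : Subgroup G), y ≠ 1 → orderOf y = p := by
    intro y hy hy1
    have h1 := zpowers_eq_of_prime_card (P : Subgroup G) hcard y hy hy1
    rw [← Nat.card_zpowers, h1, hcard]
  have hpodd : 3 ≤ p := by
    have := hp.two_le
    omega
  -- the character is constant on the nonidentity elements of P
  have hconst : ∃ c : ℂ, ∀ y ∈ (P : Subgroup G), y ≠ 1 → (χ : G → ℂ) y = c := by
    by_cases ht1 : t = 1
    · refine ⟨(χ : G → ℂ) x, ?_⟩
      intro y hy hy1
      have hsub : Subsingleton {C : ConjClasses G // ∃ g ∈ C.carrier, orderOf g = p} :=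
        (Nat.card_eq_one_iff_unique.mp (ht.trans ht1)).1
      have h1 := Subsingleton.elim
        (⟨ConjClasses.mk y, y, ConjClasses.mem_carrier_mk, horder y hy hy1⟩ :
          {C : ConjClasses G // ∃ g ∈ C.carrier, orderOf g = p})
        ⟨ConjClasses.mk x, x, ConjClasses.mem_carrier_mk, hx⟩
      have h2 : IsConj y x := ConjClasses.mk_eq_mk_iff_isConj.mp (congrArg Subtype.val h1)
      obtain ⟨g, hg⟩ := isConj_iff.mp h2
      rw [← hg]
      exact (isClassFunction_of_isIrrCharacter χ.2 y g).symm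
    · have ht3 : 3 ≤ t := by
        obtain ⟨j, hj⟩ := htodd
        omega
      have he2 : 1 < e := by
        by_contra hcon
        have he01 : e = 0 ∨ e = 1 := by omega
        rcases he01 with h0 | h0
        · rw [h0, mul_zero] at hte'
          omega
        · rw [h0, mul_one] at hte'
          have hev : Even (p - 1) := hp.even_sub_one hp2
          rw [← hte'] at hev
          exact (Nat.not_even_iff_odd.mpr htodd) hev
      have hCN : (Subgroup.centralizer ((P : Subgroup G) : Set G)).relIndex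
          (Subgroup.normalizer ((P : Subgroup G) : Set G)) = e := by
        rw [hcentP, he]
      exact const_on_P_of_struct M hM P hcard e t he2 ht3 hte' hCN hfrob χ hχB ρ hρ hnp
  obtain ⟨c, hc⟩ := hconst
  have : Fintype (P : Subgroup G) := Fintype.ofFinite _
  have : Fintype ((P : Subgroup G) →* ℂˣ) := Fintype.ofFinite _
  rcases const_value_cases P hcard ρ hnp c
    (fun y hy hy1 => by rw [hρ]; exact hc y hy hy1) with ⟨hc1, he1⟩ | hcn
  swap
  · -- the Sylow subgroup would lie in the kernel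
    exfalso
    obtain ⟨K, hKn, hK⟩ := Cfsg.Agent.S4646.exists_ker χ
    have hxK : x ∈ K := (hK x).mpr (by rw [hc x hxP hx1, hcn, hd1, hn])
    have hPK : (P : Subgroup G) ≤ K := by
      rw [hP]
      exact Subgroup.zpowers_le.mpr hxK
    have := hKn
    have hfr : Subgroup.normalizer ((P : Subgroup G) : Set G) ⊔ K = ⊤ :=
      Sylow.normalizer_sup_eq_top' P hPK
    have h1 : K.relIndex (K ⊔ Subgroup.normalizer ((P : Subgroup G) : Set G))
        = K.relIndex (Subgroup.normalizer ((P : Subgroup G) : Set G)) :=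
      Subgroup.relIndex_sup_left _ _
    rw [sup_comm, hfr, Subgroup.relIndex_top_right] at h1
    have h2 : K.relIndex (Subgroup.normalizer ((P : Subgroup G) : Set G))
        ∣ (P : Subgroup G).relIndex (Subgroup.normalizer ((P : Subgroup G) : Set G)) :=
      Subgroup.relIndex_dvd_of_le_left _ hPK
    rw [← h1, ← he] at h2
    have h3 := ker_bound χ K (fun g hg => (hK g).mp hg) d hd1
    have h4 := K.card_mul_index
    have hK0 : 0 < Nat.card K := Nat.card_pos
    have he0 : 0 < e := by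
      rcases Nat.eq_zero_or_pos e with h0 | h0
      · rw [h0, mul_zero] at hte'
        omega
      · exact h0
    have h5 : K.index ≤ e := Nat.le_of_dvd he0 h2
    have h6 : e ≤ p - 1 := by
      rw [← hte']
      exact Nat.le_mul_of_pos_left e (by obtain ⟨j, hj⟩ := htodd; omega)
    have h7 : d ^ 2 * Nat.card K ≤ Nat.card K * d := by
      calc d ^ 2 * Nat.card K ≤ Nat.card G := h3
        _ = Nat.card K * K.index := h4.symm
        _ ≤ Nat.card K * d := Nat.mul_le_mul_left _ (by omega)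
    have h8 : d ^ 2 ≤ d := by
      have h9 : Nat.card K * d ^ 2 ≤ Nat.card K * d := by rw [mul_comm]; exact h7
      exact Nat.le_of_mul_le_mul_left h9 hK0
    have h10 : 2 ≤ d := by omega
    nlinarith
  -- the trace vanishes on the normalizer off P
  have htr0 : ∀ g ∈ Subgroup.normalizer ((P : Subgroup G) : Set G), g ∉ (P : Subgroup G) →
      (χ : G → ℂ) g = 0 := by
    intro g hg hgP
    rw [← hρ]
    show LinearMap.trace ℂ _ (ρ g) = 0
    apply trace_zero_of_conj (P : Subgroup G) ρ ⟨g, hg⟩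
    intro ψ hψ0
    have hψ1 : ψ ≠ 1 := by
      intro h
      rw [h] at hψ0
      exact hψ0 he1
    intro hfix
    have h1 := (dualConj_eq_self_iff (P : Subgroup G) (hfix_of_hfrob P hfrob) ψ hψ1
      ⟨g, hg⟩).mp hfix
    rw [hcentP] at h1
    exact hgP h1
  -- the 2-element
  obtain ⟨σ, hσN, k, hk1, hσo, hkdvd, hkodd⟩ :=
    exists_two_elt hp2 P hcard hcentP t htodd hte
  obtain ⟨A, hA⟩ : ∃ A : Subgroup G, A = Subgroup.zpowers σ := ⟨_, rfl⟩
  have hAcomm : IsMulCommutative A := by rw [hA]; exact Subgroup.zpowers_isMulCommutative σ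
  have : Fintype A := Fintype.ofFinite A
  have : Fintype (A →* ℂˣ) := Fintype.ofFinite _
  have hcardA : Nat.card A = 2 ^ k := by rw [hA, Nat.card_zpowers, hσo]
  have hσA : σ ∈ A := by rw [hA]; exact Subgroup.mem_zpowers σ
  have hAN : A ≤ Subgroup.normalizer ((P : Subgroup G) : Set G) := by
    rw [hA]
    exact Subgroup.zpowers_le.mpr hσN
  have hAP : ∀ a ∈ A, a ≠ 1 → a ∉ (P : Subgroup G) := by
    intro a ha ha1 haP
    have h1 : orderOf a ∣ 2 ^ k := by
      rw [← hσo]
      rw [hA] at ha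
      exact orderOf_dvd_of_mem_zpowers ha
    have h2 : orderOf a ∣ p := by
      have h3 : orderOf (⟨a, haP⟩ : (P : Subgroup G)) ∣ Nat.card (P : Subgroup G) :=
        orderOf_dvd_natCard _
      rw [Subgroup.orderOf_mk] at h3
      exact h3.trans (dvd_of_eq hcard)
    have hcop : Nat.Coprime p (2 ^ k) :=
      Nat.Coprime.pow_right k ((Nat.coprime_primes hp Nat.prime_two).mpr hp2)
    have h4 : orderOf a = 1 := Nat.eq_one_of_dvd_coprimes hcop h2 h1
    exact ha1 (orderOf_eq_one_iff.mp h4)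
  -- multiplicities on A
  have hr : ∀ ν : A →* ℂˣ,
      Module.finrank ℂ (LinearMap.range (isoProj (ρ.comp A.subtype) ν)) = (p - 1) / 2 ^ k := by
    intro ν
    have h1 := finrank_isoProj (ρ.comp A.subtype) ν
    have h2 : ∑ a : A, ((ν a⁻¹ : ℂˣ) : ℂ) * Representation.character (ρ.comp A.subtype) a
        = (d : ℂ) := by
      rw [Finset.sum_eq_single 1]
      · rw [inv_one, map_one, Units.val_one, one_mul]
        have h3 : Representation.character (ρ.comp A.subtype) 1 = (χ : G → ℂ) 1 := by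
          rw [← hρ]
          rfl
        rw [h3, hd1]
      · intro a _ ha1
        have h3 : Representation.character (ρ.comp A.subtype) a = (χ : G → ℂ) (a : G) := by
          rw [← hρ]
          rfl
        have ha1' : (a : G) ≠ 1 := fun h => ha1 (Subtype.ext h)
        rw [h3, htr0 (a : G) (hAN a.2) (hAP (a : G) a.2 ha1'), mul_zero]
      · intro h
        exact absurd (Finset.mem_univ _) h
    rw [h2, hcardA] at h1
    obtain ⟨r, hre⟩ : ∃ r : ℕ, r = Module.finrank ℂ
        (LinearMap.range (isoProj (ρ.comp A.subtype) ν)) := ⟨_, rfl⟩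
    rw [← hre] at h1 ⊢
    have h2k : ((2 ^ k : ℕ) : ℂ) ≠ 0 := by
      have : (2 ^ k : ℕ) ≠ 0 := (pow_pos (by norm_num) k).ne'
      exact_mod_cast this
    have h3 : ((2 ^ k * r : ℕ) : ℂ) = ((d : ℕ) : ℂ) := by
      push_cast
      rw [h1]
      push_cast at h2k ⊢
      field_simp
    have h4 : 2 ^ k * r = d := by exact_mod_cast h3
    have h5 : p - 1 = d := by omega
    rw [h5, ← h4, Nat.mul_div_cancel_left _ (pow_pos (by norm_num) k)]
  have hgen : ∀ a : A, a ∈ Subgroup.zpowers (⟨σ, hσA⟩ : A) := by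
    intro a
    have ha : (a : G) ∈ Subgroup.zpowers σ := by rw [← hA]; exact a.2
    obtain ⟨j, hj⟩ := Subgroup.mem_zpowers_iff.mp ha
    rw [Subgroup.mem_zpowers_iff]
    exact ⟨j, Subtype.ext (by rw [Subgroup.coe_zpow]; exact hj)⟩
  have heven : Even (Nat.card A) := by
    rw [hcardA]
    exact (Nat.even_pow.mpr ⟨even_two, by omega⟩)
  have hdet : LinearMap.det (ρ σ) = -1 := by
    have h1 := det_rho_eq_prod (ρ.comp A.subtype) (⟨σ, hσA⟩ : A)
    have h2 : (ρ.comp A.subtype) (⟨σ, hσA⟩ : A) = ρ σ := rfl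
    rw [h2] at h1
    rw [h1, Finset.prod_congr rfl (fun ν _ => by rw [hr ν]), Finset.prod_pow,
      prod_hom_gen (⟨σ, hσA⟩ : A) hgen heven]
    exact Odd.neg_one_pow hkodd
  -- the determinant as a homomorphism
  obtain ⟨φ, hφ⟩ : ∃ φ : G →* ℂˣ, ∀ g, ((φ g : ℂˣ) : ℂ) = LinearMap.det (ρ g) :=
    ⟨((LinearMap.det : _ →* ℂ).comp ρ).toHomUnits, fun g => MonoidHom.coe_toHomUnits _ g⟩
  have hφσ : φ σ = -1 := by
    apply Units.ext
    rw [hφ σ, hdet]
    simp
  apply even_index_of_hom (fun a b : ℂˣ => mul_comm a b) φ σ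
  · rw [hφσ]
    intro h
    have h1 := congrArg (fun u : ℂˣ => (u : ℂ)) h
    simp only [Units.val_neg, Units.val_one] at h1
    norm_num at h1
  · rw [hφσ]
    simp

end main

end Cfsg.Agent.Lib.Helper24
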