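import Mathlib
import Cfsg.Agent.S0970
import Cfsg.Agent.Lib.Helper8.Extended
import Cfsg.Agent.Lib.Helper8.DefectLocal
import Cfsg.Agent.Lib.Helper25.BrauerPair12
import Cfsg.Agent.S4435
import Cfsg.Agent.S4436
import Cfsg.Agent.S0908

set_option autoImplicit false

/-!
Defect of a block covering a block `b` of a normal subgroup `N` containing the centralizer of a
normal `p`-subgroup: it is the defect of `b` plus the `p`-part of the index of `N` in the
stabilizer of `b` (Fong-Reynolds plus Fong's theorem for stable blocks).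
-/

namespace Cfsg.Agent.Lib.Helper24

open Cfsg Cfsg.Agent.Lib.Helper2 Cfsg.Agent.Lib.Helper25 Cfsg.Agent.Lib.Helper8

section efm

variable {G : Type*} [Group G] [Fintype G] {p : ℕ} {M : Ideal AlgInt}

theorem defect_of_covering_centric [Fact p.Prime] (hM : IsPModular p M) (N : Subgroup G)
    [hN : N.Normal] [Fintype N]
    (b : Set (IrrCharacter N)) (hb : IsPBlock M b) (T : Subgroup G) [Fintype T]
    (hT : ∀ g : G, g ∈ T ↔ ∀ θ ∈ b, ∀ θ' : IrrCharacter N,
      (∀ n : N, (θ' : N → ℂ) n = (θ : N → ℂ) ⟨g * n * g⁻¹, hN.conj_mem n n.2 g⟩) → θ' ∈ b)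
    (hNT : N ≤ T) (Q : Subgroup G) [hQn : Q.Normal] (hQ : IsPGroup p Q) (hQN : Q ≤ N)
    (hCQ : Subgroup.centralizer (Q : Set G) ≤ N)
    (B : Set (IrrCharacter G)) (hB : IsPBlock M B)
    (hcov : ∃ χ ∈ B, ∃ θ ∈ b, classInner (fun n : N => (χ : G → ℂ) n) (θ : N → ℂ) ≠ 0) :
    blockDefect p B = blockDefect p b + (N.relIndex T).factorization p := by
  classical
  obtain ⟨-, -, h3⟩ := Cfsg.Agent.S4435.result p M hM N b hb T hT hNT
  obtain ⟨B', hB', hcov', hind⟩ := h3 B hB hcov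
  obtain ⟨hdef, -⟩ := Cfsg.Agent.S4436.result p M hM N b hb T hT hNT B' hB' hcov' B hind
  obtain ⟨D, hD⟩ := exists_defectGroup' hM B' hB'
  have e1 : blockDefect p B = blockDefect p B' := by
    have c1 := Cfsg.Agent.S0908.result p M hM B' hB' D hD
    have c2 := Cfsg.Agent.S0908.result p M hM B hB _ (hdef D hD)
    have c3 : Nat.card (D.map T.subtype) = Nat.card D :=
      (Nat.card_congr (D.equivMapOfInjective T.subtype T.subtype_injective).toEquiv).symm
    rw [c3, c1] at c2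
    exact (Nat.pow_right_injective (Fact.out : p.Prime).two_le c2).symm
  rw [e1]
  haveI : Fintype ↥(N.subgroupOf T) := Fintype.ofFinite _
  set φ : N ≃* ↥(N.subgroupOf T) := (Subgroup.subgroupOfEquivOfLe hNT).symm with hφ
  set bT : Set (IrrCharacter ↥(N.subgroupOf T)) := isoIrr φ '' b with hbT
  have hbT' : IsPBlock M bT := isPBlock_image_isoIrr φ hb
  have hinv : ∀ g : T, ∀ θ ∈ bT, ∀ θ' : IrrCharacter ↥(N.subgroupOf T),
      (∀ n : ↥(N.subgroupOf T), (θ' : ↥(N.subgroupOf T) → ℂ) n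
        = (θ : ↥(N.subgroupOf T) → ℂ)
          ⟨g * n * g⁻¹, Subgroup.Normal.conj_mem inferInstance (n : T) n.2 g⟩) →
        θ' ∈ bT := by
    intro g θ hθ θ' h
    rw [hbT] at hθ
    obtain ⟨θ₀, hθ₀, rfl⟩ := hθ
    rw [hbT]
    refine ⟨(isoIrr φ).symm θ', ?_, (isoIrr φ).apply_symm_apply θ'⟩
    apply (hT (g : G)).mp g.2 θ₀ hθ₀
    intro n
    have h1 := h (φ n)
    change (θ' : ↥(N.subgroupOf T) → ℂ) (φ n) = _
    rw [h1, isoIrr_apply]
    congr 1
  have hcovT : ∃ χ ∈ B', ∃ θ ∈ bT,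
      classInner (fun n : ↥(N.subgroupOf T) => (χ : T → ℂ) n) (θ : ↥(N.subgroupOf T) → ℂ) ≠ 0 := by
    obtain ⟨ψ, hψ, θ, hθ, he⟩ := hcov'
    refine ⟨ψ, hψ, isoIrr φ θ, ⟨θ, hθ, rfl⟩, ?_⟩
    have h1 := Cfsg.Agent.S1489.classInner_comp_iso φ.symm
      (fun n : N => (ψ : T → ℂ) ⟨(n : G), hNT n.2⟩) (θ : N → ℂ)
    rw [← h1] at he
    exact he
  have hQT : IsPGroup p (Q.subgroupOf T) := hQ.comap_subtype
  have hCH : Subgroup.centralizer ((Q.subgroupOf T : Subgroup T) : Set T) ≤ N.subgroupOf T := by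
    intro t ht
    rw [Subgroup.mem_subgroupOf]
    apply hCQ
    rw [Subgroup.mem_centralizer_iff]
    intro u hu
    have := Subgroup.mem_centralizer_iff.mp ht ⟨u, hNT (hQN hu)⟩ (Subgroup.mem_subgroupOf.mpr hu)
    exact congrArg Subtype.val this
  have hmax : ∀ B'' : Set (IrrCharacter T), IsPBlock M B'' →
      (∃ χ ∈ B'', ∃ θ ∈ bT,
        classInner (fun n : ↥(N.subgroupOf T) => (χ : T → ℂ) n) (θ : ↥(N.subgroupOf T) → ℂ) ≠ 0) →
      blockDefect p B'' ≤ blockDefect p B' := by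
    intro B'' hB'' hcov''
    have i1 := isInducedBlock_of_covers hM (Q.subgroupOf T) hQT (N.subgroupOf T) hCH bT hbT'
      B'' hB'' hcov''
    have i2 := isInducedBlock_of_covers hM (Q.subgroupOf T) hQT (N.subgroupOf T) hCH bT hbT'
      B' hB' hcovT
    rw [isInducedBlock_unique hM _ i1 i2]
  have h4 := (Cfsg.Agent.S0970.result p M hM (N.subgroupOf T) bT hbT' hinv B' hB' hcovT hmax
    D hD).2.2
  rw [h4, hbT, blockDefect_image_isoIrr]
  rfl

end efm

end Cfsg.Agent.Lib.Helper24
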