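import Mathlib
import Cfsg.Prelude
import Cfsg.Agent.Lib.Helper26.IndStab
import Cfsg.Agent.Lib.Helper2.RealInv
import Cfsg.Agent.Lib.Helper24.BLChar

/-!
# Frobenius–Schur indicator of a character induced from the stabilizer of an extendible
irreducible character of a normal subgroup
-/

set_option autoImplicit false

namespace Cfsg.Agent.Lib.Helper24

open Cfsg Cfsg.Agent.Lib.Helper2 Cfsg.Agent.Lib.Helper25 Cfsg.Agent.Lib.Helper26
open scoped ComplexConjugate Kronecker

/-- an idempotent complex matrix of trace zero vanishes -/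
theorem matrix_eq_zero_of_idem_trace {ι : Type*} [Fintype ι] [DecidableEq ι]
    (Q : Matrix ι ι ℂ) (hQ : Q * Q = Q) (htr : Q.trace = 0) : Q = 0 := by
  have hidem : IsIdempotentElem (Matrix.toLin' Q) := by
    show Matrix.toLin' Q * Matrix.toLin' Q = Matrix.toLin' Q
    rw [Module.End.mul_eq_comp, ← Matrix.toLin'_mul, hQ]
  have h1 := (LinearMap.IsIdempotentElem.isProj_range _ hidem).trace
  have h2 : LinearMap.trace ℂ (ι → ℂ) (Matrix.toLin' Q) = Q.trace := by
    rw [LinearMap.trace_eq_matrix_trace ℂ (Pi.basisFun ℂ ι), LinearMap.toMatrix_eq_toMatrix',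
      LinearMap.toMatrix'_toLin']
  rw [h2, htr] at h1
  have h3 : Module.finrank ℂ (LinearMap.range (Matrix.toLin' Q)) = 0 := by
    exact_mod_cast h1.symm
  have h4 : Matrix.toLin' Q = 0 := LinearMap.range_eq_bot.mp (Submodule.finrank_eq_zero.mp h3)
  have h5 := congrArg LinearMap.toMatrix' h4
  simpa using h5

/-- the sum of `A h ⊗ B h` over a finite group vanishes when the product of the traces sums
to zero -/
theorem sum_kron_eq_zero {H : Type*} [Group H] [Fintype H] {d e : ℕ}
    (A : H → Matrix (Fin d) (Fin d) ℂ) (B : H → Matrix (Fin e) (Fin e) ℂ)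
    (hA : ∀ x y, A (x * y) = A x * A y) (hB : ∀ x y, B (x * y) = B x * B y)
    (htr : ∑ h : H, (A h).trace * (B h).trace = 0) :
    ∑ h : H, A h ⊗ₖ B h = 0 := by
  classical
  obtain ⟨P, hP⟩ : ∃ P : Matrix (Fin d × Fin e) (Fin d × Fin e) ℂ, P = ∑ h : H, A h ⊗ₖ B h :=
    ⟨_, rfl⟩
  rw [← hP]
  have hcard : (Fintype.card H : ℂ) ≠ 0 := by exact_mod_cast Fintype.card_ne_zero
  have hPP : P * P = (Fintype.card H : ℂ) • P := by
    have h1 : ∀ h : H, (A h ⊗ₖ B h) * P = P := by
      intro h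
      rw [hP, Finset.mul_sum]
      have h2 : ∀ k : H, (A h ⊗ₖ B h) * (A k ⊗ₖ B k) = A (h * k) ⊗ₖ B (h * k) := by
        intro k
        rw [← Matrix.mul_kronecker_mul, hA, hB]
      rw [Finset.sum_congr rfl (fun k _ => h2 k)]
      exact Fintype.sum_equiv (Equiv.mulLeft h) _ _ (fun k => rfl)
    have h5 : P * P = ∑ h : H, (A h ⊗ₖ B h) * P := by
      nth_rewrite 1 [hP]
      rw [Finset.sum_mul]
    rw [h5, Finset.sum_congr rfl (fun h _ => h1 h), Finset.sum_const,
      Finset.card_univ, ← Nat.cast_smul_eq_nsmul ℂ]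
  have hQ : ((Fintype.card H : ℂ)⁻¹ • P) * ((Fintype.card H : ℂ)⁻¹ • P)
      = (Fintype.card H : ℂ)⁻¹ • P := by
    rw [Matrix.smul_mul, Matrix.mul_smul, hPP, smul_smul, smul_smul]
    congr 1
    field_simp
  have htrQ : ((Fintype.card H : ℂ)⁻¹ • P).trace = 0 := by
    rw [Matrix.trace_smul, hP, Matrix.trace_sum,
      Finset.sum_congr rfl (fun h _ => Matrix.trace_kronecker (A h) (B h)), htr, smul_zero]
  have h0 := matrix_eq_zero_of_idem_trace _ hQ htrQ
  have h3 : P = (Fintype.card H : ℂ) • ((Fintype.card H : ℂ)⁻¹ • P) := by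
    rw [smul_smul, mul_inv_cancel₀ hcard, one_smul]
  rw [h3, h0, smul_zero]

theorem sum_mul_eq_zero {H : Type*} [Group H] [Fintype H] {d : ℕ}
    (A B : H → Matrix (Fin d) (Fin d) ℂ)
    (hA : ∀ x y, A (x * y) = A x * A y) (hB : ∀ x y, B (x * y) = B x * B y)
    (htr : ∑ h : H, (A h).trace * (B h).trace = 0) :
    ∑ h : H, A h * B h = 0 := by
  have h0 := sum_kron_eq_zero A B hA hB htr
  ext i l
  rw [Matrix.sum_apply, Matrix.zero_apply]
  have h1 : ∀ h : H, (A h * B h) i l = ∑ j : Fin d, (A h ⊗ₖ B h) (i, j) (j, l) := by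
    intro h
    rw [Matrix.mul_apply]
    rfl
  rw [Finset.sum_congr rfl (fun h _ => h1 h), Finset.sum_comm]
  apply Finset.sum_eq_zero
  intro j _
  have h2 := congrFun (congrFun h0 (i, j)) (j, l)
  rw [Matrix.sum_apply, Matrix.zero_apply] at h2
  exact h2

theorem sum_trace_sq_eq_zero {H : Type*} [Group H] [Fintype H] {d : ℕ}
    (A : H → Matrix (Fin d) (Fin d) ℂ) (hA : ∀ x y, A (x * y) = A x * A y)
    (htr : ∑ h : H, (A h).trace * (A h).trace = 0) :
    ∑ h : H, (A h * A h).trace = 0 := by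
  have h0 := sum_kron_eq_zero A A hA hA htr
  have h1 : ∀ h : H, (A h * A h).trace
      = ∑ i : Fin d, ∑ j : Fin d, (A h ⊗ₖ A h) (i, j) (j, i) := by
    intro h
    rw [Matrix.trace]
    apply Finset.sum_congr rfl
    intro i _
    rw [Matrix.diag_apply, Matrix.mul_apply]
    rfl
  rw [Finset.sum_congr rfl (fun h _ => h1 h), Finset.sum_comm]
  apply Finset.sum_eq_zero
  intro i _
  rw [Finset.sum_comm]
  apply Finset.sum_eq_zero
  intro j _
  have h2 := congrFun (congrFun h0 (i, j)) (j, i)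
  rw [Matrix.sum_apply, Matrix.zero_apply] at h2
  exact h2

theorem exists_matrix_rep {H : Type*} [Group H] {ψ : H → ℂ} (hψ : IsCharacter H ψ) :
    ∃ (d : ℕ) (R : H → Matrix (Fin d) (Fin d) ℂ),
      (∀ x y, R (x * y) = R x * R y) ∧ ∀ x, (R x).trace = ψ x := by
  obtain ⟨d, ρ, rfl⟩ := hψ
  refine ⟨d, fun x => LinearMap.toMatrix' (ρ x), fun x y => ?_, fun x => ?_⟩
  · show LinearMap.toMatrix' (ρ (x * y)) = LinearMap.toMatrix' (ρ x) * LinearMap.toMatrix' (ρ y)
    rw [map_mul, Module.End.mul_eq_comp, LinearMap.toMatrix'_comp]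
  · have h := LinearMap.trace_eq_matrix_trace ℂ (Pi.basisFun ℂ (Fin d)) (ρ x)
    rw [LinearMap.toMatrix_eq_toMatrix'] at h
    exact h.symm

/-- an irreducible character with nonzero Frobenius–Schur sum is real-valued -/
theorem real_of_indicator_ne_zero {H : Type*} [Group H] [Fintype H] {ψ : H → ℂ}
    (hψ : IsIrrCharacter H ψ) (hν : ∑ x : H, ψ (x * x) ≠ 0) : ∀ x : H, conj (ψ x) = ψ x := by
  by_contra hne
  have hne' : (fun x => conj (ψ x)) ≠ ψ := fun h => hne (fun x => congrFun h x)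
  have h0 := classInner_irr_ne hψ (isIrrCharacter_conj hψ) (Ne.symm hne')
  rw [classInner_def] at h0
  have h1 : ∑ x : H, ψ x * ψ x = 0 := by
    have hc := card_ne_zero_complex H
    rcases mul_eq_zero.mp h0 with h | h
    · exact absurd (inv_eq_zero.mp h) hc
    · simpa using h
  obtain ⟨d, R, hR, htr⟩ := exists_matrix_rep (isCharacter_of_isIrrCharacter hψ)
  have h2 := sum_trace_sq_eq_zero R hR (by simpa only [htr] using h1)
  apply hν
  rw [← h2]
  apply Finset.sum_congr rfl
  intro x _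
  rw [← hR, htr]

section ind

variable {G : Type*} [Group G] [Fintype G]

theorem cross_sum_zero (N : Subgroup G) [hN : N.Normal] [Fintype N] (I : Subgroup G) [Fintype I]
    (hNI : N ≤ I) (φ : N → ℂ) (hφ : IsIrrCharacter N φ) (ψ : I → ℂ) (hψ : IsIrrCharacter I ψ)
    (hext : ∀ n : N, ψ (Subgroup.inclusion hNI n) = φ n)
    (hreal : ∀ n : N, conj (φ n) = φ n)
    (g : G) (hg : Helper2.conjFun N φ g⁻¹ ≠ φ) :
    ∑ n : N, extendByZero I ψ ((g * n) * (g * n)) = 0 := by
  classical
  have hprod : ∀ n : N, (g * (n : G)) * (g * n) = (g * g) * (g⁻¹ * n * g⁻¹⁻¹) * n := by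
    intro n; group
  have hmemN : ∀ n : N, g⁻¹ * (n : G) * g⁻¹⁻¹ ∈ N := fun n => hN.conj_mem n n.2 g⁻¹
  by_cases hgg : g * g ∈ I
  · obtain ⟨d, R, hR, htr⟩ := exists_matrix_rep (isCharacter_of_isIrrCharacter hψ)
    obtain ⟨A, hAdef⟩ : ∃ A : N → Matrix (Fin d) (Fin d) ℂ,
        A = fun n : N => R (Subgroup.inclusion hNI ⟨g⁻¹ * (n : G) * g⁻¹⁻¹, hmemN n⟩) :=
      ⟨_, rfl⟩
    obtain ⟨B, hBdef⟩ : ∃ B : N → Matrix (Fin d) (Fin d) ℂ,
        B = fun n : N => R (Subgroup.inclusion hNI n) := ⟨_, rfl⟩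
    have hA : ∀ x y : N, A (x * y) = A x * A y := by
      intro x y
      rw [hAdef]
      simp only
      rw [← hR]
      congr 1
      apply Subtype.ext
      simp [mul_assoc]
    have hB : ∀ x y : N, B (x * y) = B x * B y := by
      intro x y
      rw [hBdef]
      simp only
      rw [← hR, ← map_mul]
    have htrAB : ∑ n : N, (A n).trace * (B n).trace = 0 := by
      have h0 := classInner_irr_ne (Helper2.conjFun_irr N hφ g⁻¹) hφ hg
      rw [classInner_def] at h0
      have hc := card_ne_zero_complex N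
      rcases mul_eq_zero.mp h0 with h | h
      · exact absurd (inv_eq_zero.mp h) hc
      · rw [← h]
        apply Finset.sum_congr rfl
        intro n _
        rw [hAdef, hBdef]
        simp only
        rw [htr, htr, hext, hext, Helper2.conjFun_apply, hreal]
    have hsum := sum_mul_eq_zero A B hA hB htrAB
    have hterm : ∀ n : N, extendByZero I ψ ((g * n) * (g * n))
        = (R ⟨g * g, hgg⟩ * (A n * B n)).trace := by
      intro n
      rw [hprod n]
      have hmem : (g * g) * (g⁻¹ * (n : G) * g⁻¹⁻¹) * n ∈ I :=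
        I.mul_mem (I.mul_mem hgg (hNI (hmemN n))) (hNI n.2)
      rw [extendByZero_of_mem I ψ hmem, ← htr, hAdef, hBdef]
      simp only
      rw [← hR, ← hR]
      congr 2
      apply Subtype.ext
      simp [mul_assoc]
    rw [Finset.sum_congr rfl (fun n _ => hterm n), ← Matrix.trace_sum, ← Finset.mul_sum, hsum,
      Matrix.mul_zero, Matrix.trace_zero]
  · apply Finset.sum_eq_zero
    intro n _
    apply extendByZero_of_not_mem
    intro hmem
    apply hgg
    rw [hprod n] at hmem
    have h1 : (g * g) = ((g * g) * (g⁻¹ * (n : G) * g⁻¹⁻¹) * n)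
        * ((n : G)⁻¹ * (g⁻¹ * (n : G) * g⁻¹⁻¹)⁻¹) := by group
    rw [h1]
    exact I.mul_mem hmem (I.mul_mem (I.inv_mem (hNI n.2)) (I.inv_mem (hNI (hmemN n))))

theorem sum_indFun_sq (N : Subgroup G) [hN : N.Normal] [Fintype N] (I : Subgroup G) [Fintype I]
    (hNI : N ≤ I) (φ : N → ℂ) (hφ : IsIrrCharacter N φ) (ψ : I → ℂ) (hψ : IsIrrCharacter I ψ)
    (hext : ∀ n : N, ψ (Subgroup.inclusion hNI n) = φ n)
    (hI : ∀ g : G, g ∈ I ↔ Helper2.conjFun N φ g = φ)
    (hν : ∑ x : I, ψ (x * x) ≠ 0) :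
    ∑ g : G, indFun I ψ (g * g) = (I.index : ℂ) * ∑ x : I, ψ (x * x) := by
  classical
  have hrealψ := real_of_indicator_ne_zero hψ hν
  have hreal : ∀ n : N, conj (φ n) = φ n := fun n => by rw [← hext, hrealψ]
  have h1 : ∑ g : G, indFun I ψ (g * g)
      = (Nat.card I : ℂ)⁻¹ * ((Fintype.card G : ℂ) * ∑ g : G, extendByZero I ψ (g * g)) := by
    simp only [indFun_apply]
    rw [← Finset.mul_sum, Finset.sum_comm]
    congr 1
    have h2 : ∀ x : G, ∑ g : G, extendByZero I ψ (x⁻¹ * (g * g) * x)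
        = ∑ g : G, extendByZero I ψ (g * g) := by
      intro x
      apply Fintype.sum_equiv (MulAut.conj x⁻¹).toEquiv
      intro g
      congr 1
      simp only [MulEquiv.toEquiv_eq_coe, MulEquiv.coe_toEquiv, MulAut.conj_apply]
      group
    rw [Finset.sum_congr rfl (fun x _ => h2 x), Finset.sum_const, Finset.card_univ, nsmul_eq_mul]
  have h3 : ∑ g : G, extendByZero I ψ (g * g) = ∑ x : I, ψ (x * x) := by
    have hsplit : ∀ g : G, extendByZero I ψ (g * g)
        = (if g ∈ I then extendByZero I ψ (g * g) else 0)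
          + (if g ∈ I then 0 else extendByZero I ψ (g * g)) := by
      intro g; split_ifs <;> simp
    rw [Finset.sum_congr rfl (fun g _ => hsplit g), Finset.sum_add_distrib]
    have hfirst : ∑ g : G, (if g ∈ I then extendByZero I ψ (g * g) else 0)
        = ∑ x : I, ψ (x * x) := by
      rw [Cfsg.Agent.Lib.Helper26.sum_ite_mem_subgroup I (fun g => extendByZero I ψ (g * g))]
      apply Finset.sum_congr rfl
      intro x _
      have hx : ((x : G) * (x : G)) = ((x * x : I) : G) := rfl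
      rw [hx, extendByZero_coe]
    have hsecond : ∑ g : G, (if g ∈ I then 0 else extendByZero I ψ (g * g)) = 0 := by
      obtain ⟨S, hS⟩ : ∃ S : ℂ, S = ∑ g : G, (if g ∈ I then 0 else extendByZero I ψ (g * g)) :=
        ⟨_, rfl⟩
      rw [← hS]
      have hshift : ∀ n : N, S
          = ∑ g : G, (if g ∈ I then 0 else extendByZero I ψ ((g * n) * (g * n))) := by
        intro n
        rw [hS]
        refine (Fintype.sum_equiv (Equiv.mulRight (n : G)) _ _ (fun g => ?_)).symm
        have hiff : g * (n : G) ∈ I ↔ g ∈ I :=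
          ⟨fun h => by simpa using I.mul_mem h (I.inv_mem (hNI n.2)),
            fun h => I.mul_mem h (hNI n.2)⟩
        simp only [Equiv.coe_mulRight, hiff]
      have hNS : (Fintype.card N : ℂ) * S = 0 := by
        have h4 : (Fintype.card N : ℂ) * S = ∑ _n : N, S := by
          rw [Finset.sum_const, Finset.card_univ, nsmul_eq_mul]
        rw [h4, Finset.sum_congr rfl (fun n _ => hshift n), Finset.sum_comm]
        apply Finset.sum_eq_zero
        intro g _
        by_cases hgI : g ∈ I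
        · simp [hgI]
        · simp only [if_neg hgI]
          apply cross_sum_zero N I hNI φ hφ ψ hψ hext hreal g
          intro h
          exact hgI (by simpa using I.inv_mem ((hI g⁻¹).mpr h))
      have hcN : (Fintype.card N : ℂ) ≠ 0 := by exact_mod_cast Fintype.card_ne_zero
      exact (mul_eq_zero.mp hNS).resolve_left hcN
    rw [hfirst, hsecond, add_zero]
  rw [h1, h3, ← mul_assoc]
  congr 1
  rw [← Nat.card_eq_fintype_card, ← Subgroup.card_mul_index I]
  have := card_ne_zero_complex I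
  push_cast
  field_simp

/-- Frobenius–Schur indicator `+1` is inherited by the character induced from the stabilizer
of an extendible irreducible character of a normal subgroup -/
theorem indicator_indFun (N : Subgroup G) [hN : N.Normal] [Fintype N] (I : Subgroup G)
    [Fintype I] (hNI : N ≤ I) (φ : N → ℂ) (hφ : IsIrrCharacter N φ) (ψ : I → ℂ)
    (hψ : IsIrrCharacter I ψ) (hext : ∀ n : N, ψ (Subgroup.inclusion hNI n) = φ n)
    (hI : ∀ g : G, g ∈ I ↔ Helper2.conjFun N φ g = φ)
    (hν1 : (Nat.card I : ℂ)⁻¹ * ∑ x : I, ψ (x * x) = 1) :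
    (Nat.card G : ℂ)⁻¹ * ∑ g : G, indFun I ψ (g * g) = 1 := by
  have hne : ∑ x : I, ψ (x * x) ≠ 0 := by
    intro h
    rw [h, mul_zero] at hν1
    exact zero_ne_one hν1
  rw [sum_indFun_sq N I hNI φ hφ ψ hψ hext hI hne, ← hν1, ← Subgroup.card_mul_index I]
  have := card_ne_zero_complex I
  have hidx : (I.index : ℂ) ≠ 0 := by
    exact_mod_cast Subgroup.index_ne_zero_of_finite
  push_cast
  field_simp

/-- a linear character with Frobenius–Schur indicator `+1` squares to one -/
theorem hom_sq_of_indicator (lam : G →* ℂˣ)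
    (h : (Nat.card G : ℂ)⁻¹ * ∑ g : G, ((lam (g * g) : ℂˣ) : ℂ) = 1) (g : G) :
    ((lam g : ℂˣ) : ℂ) * (lam g : ℂ) = 1 := by
  have h1 := sum_hom_mul_inv lam lam⁻¹
  have h2 : ∀ y : G, ((lam y : ℂˣ) : ℂ) * ((lam⁻¹ y⁻¹ : ℂˣ) : ℂ) = ((lam (y * y) : ℂˣ) : ℂ) := by
    intro y
    rw [MonoidHom.inv_apply, map_inv, inv_inv, map_mul, Units.val_mul]
  rw [Finset.sum_congr rfl (fun y _ => h2 y)] at h1
  by_cases heq : lam = lam⁻¹
  · have h3 := congrArg (fun f : G →* ℂˣ => f g) heq
    simp only [MonoidHom.inv_apply] at h3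
    have h4 : lam g * lam g = 1 := by
      nth_rewrite 2 [h3]
      exact mul_inv_cancel _
    rw [← Units.val_mul, h4, Units.val_one]
  · rw [if_neg heq] at h1
    rw [h1, mul_zero] at h
    exact absurd h zero_ne_one

end ind

end Cfsg.Agent.Lib.Helper24
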