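import Mathlib
import Cfsg.Prelude
import Cfsg.Agent.Lib.Helper26.IndStab
import Cfsg.Agent.Lib.Helper2.TwoDegD
import Cfsg.Agent.Lib.Helper24.BLChar

/-!
# Frobenius–Schur indicator of the character induced from the canonical extension of a
linear character of an abelian normal subgroup that is inverted by an involution
-/

set_option autoImplicit false

namespace Cfsg.Agent.Lib.Helper24

open Cfsg Cfsg.Agent.Lib.Helper2 Cfsg.Agent.Lib.Helper25 Cfsg.Agent.Lib.Helper26
open scoped ComplexConjugate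

section inv

variable {G : Type*} [Group G]

/-- conjugating by an element that inverts `N` inverts every linear character of `N` -/
theorem cjHom_of_inverting (N : Subgroup G) [hN : N.Normal] (lam : N →* ℂˣ) (z : G)
    (hzinv : ∀ n : N, z * (n : G) * z⁻¹ = (n : G)⁻¹) : cjHom N z lam = lam⁻¹ := by
  refine MonoidHom.ext (fun a => ?_)
  rw [cjHom_apply, MonoidHom.inv_apply, ← map_inv]
  exact congrArg lam (Subtype.ext (hzinv a))

theorem hom_inv_inv' {A : Type*} [Group A] (ν : A →* ℂˣ) : ν⁻¹⁻¹ = ν :=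
  MonoidHom.ext (fun a => by rw [MonoidHom.inv_apply, MonoidHom.inv_apply, inv_inv])

theorem cjHom_inv_arg (N : Subgroup G) [hN : N.Normal] (x : G) (ν : N →* ℂˣ) :
    cjHom N x ν⁻¹ = (cjHom N x ν)⁻¹ := by
  refine MonoidHom.ext (fun a => ?_)
  rw [cjHom_apply, MonoidHom.inv_apply, MonoidHom.inv_apply, cjHom_apply]

theorem conj_mem_linStab (N : Subgroup G) [hN : N.Normal] (lam : N →* ℂˣ) (z : G)
    (hz2 : z * z = 1) (hzinv : ∀ n : N, z * (n : G) * z⁻¹ = (n : G)⁻¹) {s : G}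
    (hs : s ∈ linStab N lam) : z * s * z⁻¹ ∈ linStab N lam := by
  have hzi : z⁻¹ = z := inv_eq_of_mul_eq_one_right hz2
  have hcz := cjHom_of_inverting N lam z hzinv
  rw [mem_linStab] at hs ⊢
  rw [cjHom_mul, cjHom_mul, hcz, cjHom_inv_arg, hs, hzi, cjHom_inv_arg, hcz, hom_inv_inv']

/-- `cjHom N g⁻¹ lam = lam⁻¹` exactly when `z * g` stabilizes `lam` -/
theorem cjHom_inv_iff (N : Subgroup G) [hN : N.Normal] (lam : N →* ℂˣ) (z : G)
    (hz2 : z * z = 1) (hzinv : ∀ n : N, z * (n : G) * z⁻¹ = (n : G)⁻¹) (g : G) :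
    cjHom N g⁻¹ lam = lam⁻¹ ↔ z * g ∈ linStab N lam := by
  have hzi : z⁻¹ = z := inv_eq_of_mul_eq_one_right hz2
  have hcz := cjHom_of_inverting N lam z hzinv
  constructor
  · intro h
    have h1 : g⁻¹ * z ∈ linStab N lam := by
      rw [mem_linStab, cjHom_mul, h, cjHom_inv_arg, hcz, hom_inv_inv']
    have h2 := (linStab N lam).inv_mem h1
    rw [mul_inv_rev, inv_inv, hzi] at h2
    exact h2
  · intro h
    have h1 := (linStab N lam).inv_mem h
    rw [mul_inv_rev, hzi, mem_linStab, cjHom_mul] at h1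
    have h2 := congrArg (cjHom N z) h1
    rw [← cjHom_mul, hz2, cjHom_one, hcz] at h2
    exact h2

/-- the canonical extension of a linear character of `N` (of order prime to the index) to its
stabilizer is inverted by an involution inverting `N` -/
theorem exists_ext_inverted [Finite G] (N : Subgroup G) [hN : N.Normal]
    (hcop : Nat.Coprime (Nat.card N) N.index) (lam : N →* ℂˣ)
    (hNI : N ≤ linStab N lam) (z : G)
    (hzinv : ∀ n : N, z * (n : G) * z⁻¹ = (n : G)⁻¹) :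
    ∃ μ : linStab N lam →* ℂˣ, (∀ n : N, μ (Subgroup.inclusion hNI n) = lam n) ∧
      ∀ (s : G) (hs : s ∈ linStab N lam) (hs' : z * s * z⁻¹ ∈ linStab N lam),
        μ ⟨z * s * z⁻¹, hs'⟩ * μ ⟨s, hs⟩ = 1 := by
  classical
  obtain ⟨μ₀, hμ₀⟩ := linStab_ext N hcop lam hNI
  obtain ⟨c, hc⟩ : ∃ c : ℕ, c = Nat.card N := ⟨_, rfl⟩
  obtain ⟨e, he⟩ : ∃ e : ℕ, e = N.index ^ Nat.totient c := ⟨_, rfl⟩
  have hcpos : 0 < c := hc ▸ Nat.card_pos
  have hidx : N.index ∣ e := by
    rw [he]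
    exact dvd_pow_self _ (Nat.totient_pos.mpr hcpos).ne'
  have hmod : e ≡ 1 [MOD c] := by
    rw [he]
    exact Nat.ModEq.pow_totient (by rw [hc]; exact hcop.symm)
  have he1 : 1 ≤ e := by
    rw [he]
    exact Nat.one_le_pow _ _ (Nat.pos_of_ne_zero Subgroup.index_ne_zero_of_finite)
  obtain ⟨k, hk⟩ : ∃ k, e = 1 + c * k := by
    obtain ⟨k, hk⟩ := (Nat.modEq_iff_dvd' he1).mp hmod.symm
    exact ⟨k, by omega⟩
  obtain ⟨j, hj⟩ := hidx
  have hlamc : ∀ n : N, lam n ^ c = 1 := by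
    intro n
    rw [← map_pow, hc, pow_card_eq_one', map_one]
  obtain ⟨μ, hμdef⟩ : ∃ μ : linStab N lam →* ℂˣ, μ = μ₀ ^ e := ⟨_, rfl⟩
  have hμN : ∀ n : N, μ (Subgroup.inclusion hNI n) = lam n := by
    intro n
    rw [hμdef, MonoidHom.pow_apply]
    have h1 : μ₀ (Subgroup.inclusion hNI n) = lam n := hμ₀ n
    rw [h1, hk, pow_add, pow_one, pow_mul, hlamc, one_pow, mul_one]
  have hpowmem : ∀ s : linStab N lam, ∃ a : N, s ^ N.index = Subgroup.inclusion hNI a := by
    intro s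
    exact ⟨⟨(s : G) ^ N.index, N.pow_index_mem (s : G)⟩, Subtype.ext (by simp)⟩
  have hμc : ∀ s : linStab N lam, μ s ^ c = 1 := by
    intro s
    obtain ⟨a, ha⟩ := hpowmem s
    rw [hμdef, MonoidHom.pow_apply, hj, pow_mul, ← map_pow, ha]
    have h1 : μ₀ (Subgroup.inclusion hNI a) = lam a := hμ₀ a
    rw [h1, ← pow_mul, mul_comm, pow_mul, hlamc, one_pow]
  refine ⟨μ, hμN, ?_⟩
  intro s hs hs'
  obtain ⟨u, hu⟩ : ∃ u : ℂˣ, u = μ ⟨z * s * z⁻¹, hs'⟩ * μ ⟨s, hs⟩ := ⟨_, rfl⟩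
  rw [← hu]
  have hu1 : u ^ c = 1 := by rw [hu, mul_pow, hμc, hμc, one_mul]
  have hu2 : u ^ N.index = 1 := by
    obtain ⟨a, ha⟩ := hpowmem ⟨s, hs⟩
    have h1 : (⟨z * s * z⁻¹, hs'⟩ : linStab N lam) ^ N.index = Subgroup.inclusion hNI a⁻¹ := by
      apply Subtype.ext
      have h2 := congrArg Subtype.val ha
      simp only [Subgroup.coe_pow, Subgroup.coe_inclusion, Subgroup.coe_inv] at h2 ⊢
      rw [← hzinv a, ← h2, conj_pow]
    rw [hu, mul_pow, ← map_pow, ← map_pow, ha, hμN, h1, hμN, map_inv, inv_mul_cancel]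
  have h3 : orderOf u ∣ Nat.gcd c N.index :=
    Nat.dvd_gcd (orderOf_dvd_of_pow_eq_one hu1) (orderOf_dvd_of_pow_eq_one hu2)
  rw [hc, Nat.Coprime.gcd_eq_one hcop] at h3
  exact orderOf_eq_one_iff.mp (Nat.dvd_one.mp h3)

end inv

section main

variable {G : Type*} [Group G] [Fintype G]

theorem sum_indFun_sq_eq (I : Subgroup G) (ψ : I → ℂ) :
    ∑ g : G, indFun I ψ (g * g)
      = (Nat.card I : ℂ)⁻¹ * ((Fintype.card G : ℂ) * ∑ g : G, extendByZero I ψ (g * g)) := by
  simp only [indFun_apply]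
  rw [← Finset.mul_sum, Finset.sum_comm]
  congr 1
  have h2 : ∀ x : G, ∑ g : G, extendByZero I ψ (x⁻¹ * (g * g) * x)
      = ∑ g : G, extendByZero I ψ (g * g) := by
    intro x
    apply Fintype.sum_equiv (MulAut.conj x⁻¹).toEquiv
    intro g
    congr 1
    simp only [MulEquiv.toEquiv_eq_coe, MulEquiv.coe_toEquiv, MulAut.conj_apply]
    group
  rw [Finset.sum_congr rfl (fun x _ => h2 x), Finset.sum_const, Finset.card_univ, nsmul_eq_mul]

theorem sum_shift (N : Subgroup G) [Fintype N] (f : G → ℂ) :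
    (Fintype.card N : ℂ) * ∑ g : G, f g = ∑ g : G, ∑ n : N, f (g * n) := by
  have h : ∀ n : N, ∑ g : G, f g = ∑ g : G, f (g * n) := fun n =>
    (Fintype.sum_equiv (Equiv.mulRight (n : G)) _ _ (fun g => rfl)).symm
  calc (Fintype.card N : ℂ) * ∑ g : G, f g = ∑ _n : N, ∑ g : G, f g := by
        rw [Finset.sum_const, Finset.card_univ, nsmul_eq_mul]
    _ = ∑ n : N, ∑ g : G, f (g * n) := Finset.sum_congr rfl (fun n _ => h n)
    _ = ∑ g : G, ∑ n : N, f (g * n) := Finset.sum_comm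

theorem indicator_of_inverting (N : Subgroup G) [hN : N.Normal] (lam : N →* ℂˣ)
    (hNI : N ≤ linStab N lam) (μ : linStab N lam →* ℂˣ)
    (hμ : ∀ n : N, μ (Subgroup.inclusion hNI n) = lam n)
    (z : G) (hz2 : z * z = 1) (hzinv : ∀ n : N, z * (n : G) * z⁻¹ = (n : G)⁻¹)
    (hδ : ∀ (s : G) (hs : s ∈ linStab N lam) (hs' : z * s * z⁻¹ ∈ linStab N lam),
      μ ⟨z * s * z⁻¹, hs'⟩ * μ ⟨s, hs⟩ = 1) :
    (Nat.card G : ℂ)⁻¹
      * ∑ g : G, indFun (linStab N lam) (fun s => ((μ s : ℂˣ) : ℂ)) (g * g) = 1 := by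
  classical
  have := Fintype.ofFinite N
  have := Fintype.ofFinite (linStab N lam)
  have hzi : z⁻¹ = z := inv_eq_of_mul_eq_one_right hz2
  have hprod : ∀ (g : G) (n : N),
      (g * (n : G)) * (g * n) = (g * g) * (g⁻¹ * n * g⁻¹⁻¹) * n := by
    intro g n; group
  have hmemN : ∀ (g : G) (n : N), g⁻¹ * (n : G) * g⁻¹⁻¹ ∈ N :=
    fun g n => hN.conj_mem n n.2 g⁻¹
  have hkey : ∀ g : G,
      ∑ n : N, extendByZero (linStab N lam) (fun s => ((μ s : ℂˣ) : ℂ)) ((g * n) * (g * n))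
      = if z * g ∈ linStab N lam then (Fintype.card N : ℂ) else 0 := by
    intro g
    have hterm : ∀ (hgg : g * g ∈ linStab N lam) (n : N),
        extendByZero (linStab N lam) (fun s => ((μ s : ℂˣ) : ℂ)) ((g * n) * (g * n))
          = ((μ ⟨g * g, hgg⟩ : ℂˣ) : ℂ) * (((cjHom N g⁻¹ lam) n : ℂˣ) : ℂ)
            * ((lam n : ℂˣ) : ℂ) := by
      intro hgg n
      rw [hprod g n]
      have hmem : (g * g) * (g⁻¹ * (n : G) * g⁻¹⁻¹) * n ∈ linStab N lam :=
        (linStab N lam).mul_mem ((linStab N lam).mul_mem hgg (hNI (hmemN g n))) (hNI n.2)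
      rw [extendByZero_of_mem _ _ hmem]
      have h1 : (⟨(g * g) * (g⁻¹ * (n : G) * g⁻¹⁻¹) * n, hmem⟩ : linStab N lam)
          = ⟨g * g, hgg⟩ * Subgroup.inclusion hNI ⟨g⁻¹ * (n : G) * g⁻¹⁻¹, hmemN g n⟩
            * Subgroup.inclusion hNI n := by
        apply Subtype.ext
        simp [mul_assoc]
      show ((μ ⟨(g * g) * (g⁻¹ * (n : G) * g⁻¹⁻¹) * n, hmem⟩ : ℂˣ) : ℂ) = _
      rw [h1, map_mul, map_mul, hμ, hμ, Units.val_mul, Units.val_mul, cjHom_apply]
    by_cases hzg : z * g ∈ linStab N lam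
    · rw [if_pos hzg]
      have hcj := (cjHom_inv_iff N lam z hz2 hzinv g).mpr hzg
      have hzs := conj_mem_linStab N lam z hz2 hzinv hzg
      have hgg' : z * (z * g) * z⁻¹ * (z * g) = g * g := by
        rw [hzi]
        calc z * (z * g) * z * (z * g) = (z * z) * g * (z * z) * g := by group
          _ = g * g := by rw [hz2]; group
      have hgg : g * g ∈ linStab N lam := by
        rw [← hgg']
        exact (linStab N lam).mul_mem hzs hzg
      have hμgg : μ ⟨g * g, hgg⟩ = 1 := by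
        rw [← hδ (z * g) hzg hzs, ← map_mul]
        congr 1
        apply Subtype.ext
        exact hgg'.symm
      have h2 : ∀ n : N,
          extendByZero (linStab N lam) (fun s => ((μ s : ℂˣ) : ℂ)) ((g * n) * (g * n)) = 1 := by
        intro n
        rw [hterm hgg n, hμgg, hcj, MonoidHom.inv_apply, Units.val_one, one_mul,
          ← Units.val_mul, inv_mul_cancel, Units.val_one]
      rw [Finset.sum_congr rfl (fun n _ => h2 n), Finset.sum_const, Finset.card_univ,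
        nsmul_eq_mul, mul_one]
    · rw [if_neg hzg]
      have hcj : cjHom N g⁻¹ lam ≠ lam⁻¹ :=
        fun h => hzg ((cjHom_inv_iff N lam z hz2 hzinv g).mp h)
      by_cases hgg : g * g ∈ linStab N lam
      · rw [Finset.sum_congr rfl (fun n _ => hterm hgg n)]
        have h3 := sum_hom_mul_inv (cjHom N g⁻¹ lam) lam⁻¹
        rw [if_neg hcj] at h3
        have h4 : ∀ n : N, ((μ ⟨g * g, hgg⟩ : ℂˣ) : ℂ) * (((cjHom N g⁻¹ lam) n : ℂˣ) : ℂ)
              * ((lam n : ℂˣ) : ℂ)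
            = ((μ ⟨g * g, hgg⟩ : ℂˣ) : ℂ) * ((((cjHom N g⁻¹ lam) n : ℂˣ) : ℂ)
              * (((lam⁻¹) n⁻¹ : ℂˣ) : ℂ)) := by
          intro n
          rw [MonoidHom.inv_apply, map_inv, inv_inv, mul_assoc]
        rw [Finset.sum_congr rfl (fun n _ => h4 n), ← Finset.mul_sum, h3, mul_zero]
      · apply Finset.sum_eq_zero
        intro n _
        apply extendByZero_of_not_mem
        intro hmem
        apply hgg
        rw [hprod g n] at hmem
        have h1 : (g * g) = ((g * g) * (g⁻¹ * (n : G) * g⁻¹⁻¹) * n)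
            * ((n : G)⁻¹ * (g⁻¹ * (n : G) * g⁻¹⁻¹)⁻¹) := by group
        rw [h1]
        exact (linStab N lam).mul_mem hmem ((linStab N lam).mul_mem
          ((linStab N lam).inv_mem (hNI n.2)) ((linStab N lam).inv_mem (hNI (hmemN g n))))
  have hS : ∑ g : G, extendByZero (linStab N lam) (fun s => ((μ s : ℂˣ) : ℂ)) (g * g)
      = (Nat.card (linStab N lam) : ℂ) := by
    have h5 := sum_shift N
      (fun g => extendByZero (linStab N lam) (fun s => ((μ s : ℂˣ) : ℂ)) (g * g))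
    rw [Finset.sum_congr rfl (fun g _ => hkey g)] at h5
    have h6 : ∑ g : G, (if z * g ∈ linStab N lam then (Fintype.card N : ℂ) else 0)
        = (Nat.card (linStab N lam) : ℂ) * (Fintype.card N : ℂ) := by
      have h7 : ∑ g : G, (if z * g ∈ linStab N lam then (Fintype.card N : ℂ) else 0)
          = ∑ g : G, (if g ∈ linStab N lam then (Fintype.card N : ℂ) else 0) :=
        Fintype.sum_equiv (Equiv.mulLeft z) _ _ (fun g => rfl)
      rw [h7, Cfsg.Agent.Lib.Helper26.sum_ite_mem_subgroup (linStab N lam)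
        (fun _ => (Fintype.card N : ℂ)), Finset.sum_const, Finset.card_univ, nsmul_eq_mul,
        Nat.card_eq_fintype_card]
    rw [h6] at h5
    have hcN : (Fintype.card N : ℂ) ≠ 0 := by exact_mod_cast Fintype.card_ne_zero
    have h8 : (Fintype.card N : ℂ)
        * ∑ g : G, extendByZero (linStab N lam) (fun s => ((μ s : ℂˣ) : ℂ)) (g * g)
        = (Fintype.card N : ℂ) * (Nat.card (linStab N lam) : ℂ) := by rw [h5, mul_comm]
    exact mul_left_cancel₀ hcN h8
  rw [sum_indFun_sq_eq, hS, Nat.card_eq_fintype_card (α := G)]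
  have hcI := card_ne_zero_complex (linStab N lam)
  have hcG : (Fintype.card G : ℂ) ≠ 0 := by exact_mod_cast Fintype.card_ne_zero
  field_simp

end main

end Cfsg.Agent.Lib.Helper24
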