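import Mathlib
import Cfsg.Prelude.Def_Solvable

set_option autoImplicit false

namespace Cfsg.Agent.Lib.Helper24

open scoped Pointwise

theorem mem_conj_smul {G : Type*} [Group G] (H : Subgroup G) (g x : G) :
    x ∈ MulAut.conj g • H ↔ g⁻¹ * x * g ∈ H := by
  rw [Subgroup.mem_pointwise_smul_iff_inv_smul_mem]
  simp

/-- Elementwise form of the Frobenius complement condition. -/
theorem isFrobeniusComplement_iff {G : Type*} [Group G] (C : Subgroup G) :
    Cfsg.IsFrobeniusComplement C ↔
      C ≠ ⊥ ∧ C ≠ ⊤ ∧ ∀ g, g ∉ C → ∀ x ∈ C, g⁻¹ * x * g ∈ C → x = 1 := by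
  unfold Cfsg.IsFrobeniusComplement
  refine and_congr Iff.rfl (and_congr Iff.rfl (forall_congr' fun g => imp_congr Iff.rfl ?_))
  rw [Subgroup.eq_bot_iff_forall]
  constructor
  · intro h x hx hgx
    exact h x ⟨hx, (mem_conj_smul C g x).mpr hgx⟩
  · rintro h x ⟨hx, hgx⟩
    exact h x hx ((mem_conj_smul C g x).mp hgx)

theorem isFrobeniusComplement_map {G G' : Type*} [Group G] [Group G'] (e : G ≃* G')
    (C : Subgroup G) (hC : Cfsg.IsFrobeniusComplement C) :
    Cfsg.IsFrobeniusComplement (C.map e.toMonoidHom) := by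
  rw [isFrobeniusComplement_iff] at hC ⊢
  obtain ⟨h1, h2, h3⟩ := hC
  have hmem : ∀ y : G, e y ∈ C.map e.toMonoidHom ↔ y ∈ C := by
    intro y
    constructor
    · rintro ⟨z, hz, hzy⟩
      have : z = y := e.injective hzy
      rwa [← this]
    · intro hy; exact ⟨y, hy, rfl⟩
  refine ⟨?_, ?_, ?_⟩
  · intro h
    apply h1
    rw [Subgroup.eq_bot_iff_forall] at h ⊢
    intro x hx
    have := h (e x) ((hmem x).mpr hx)
    exact e.injective (by rw [this, map_one])
  · intro h
    apply h2
    rw [Subgroup.eq_top_iff'] at h ⊢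
    intro x
    exact (hmem x).mp (h (e x))
  · intro g' hg' x' hx' hgx'
    obtain ⟨g, rfl⟩ := e.surjective g'
    obtain ⟨x, rfl⟩ := e.surjective x'
    have hg : g ∉ C := fun h => hg' ((hmem g).mpr h)
    have hx : x ∈ C := (hmem x).mp hx'
    have hgx : g⁻¹ * x * g ∈ C := by
      apply (hmem _).mp
      simpa using hgx'
    rw [h3 g hg x hx hgx, map_one]

/-- A Frobenius complement in a finite group of any universe can be realised in `Type`. -/
theorem exists_small_frobenius {L' : Type*} [Group L'] [Finite L'] (C' : Subgroup L')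
    (hC : Cfsg.IsFrobeniusComplement C') :
    ∃ (L : Type) (_ : Group L) (_ : Finite L) (C : Subgroup L),
      Cfsg.IsFrobeniusComplement C ∧ Nonempty (C' ≃* C) := by
  have e : L' ≃* Shrink.{0} L' := (Shrink.mulEquiv : Shrink.{0} L' ≃* L').symm
  exact ⟨Shrink.{0} L', inferInstance, Finite.of_equiv L' e.toEquiv,
    C'.map e.toMonoidHom, isFrobeniusComplement_map e C' hC, ⟨e.subgroupMap C'⟩⟩

/-- A finite nontrivial group acting fixed-point-freely on a finite nontrivial abelian group is a
Frobenius complement (in the semidirect product). -/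
theorem exists_frobenius_of_fpf {H V : Type*} [Group H] [Finite H] [Nontrivial H]
    [AddCommGroup V] [Finite V] [Nontrivial V] [DistribMulAction H V]
    (hfpf : ∀ h : H, h ≠ 1 → ∀ v : V, h • v = v → v = 0) :
    ∃ (L : Type) (_ : Group L) (_ : Finite L) (C : Subgroup L),
      Cfsg.IsFrobeniusComplement C ∧ Nonempty (H ≃* C) := by
  let φ : H →* MulAut (Multiplicative V) :=
    (MulAutMultiplicative V).symm.toMonoidHom.comp (DistribMulAction.toAddAut H V)
  have hφ : ∀ (h : H) (v : Multiplicative V),
      φ h v = Multiplicative.ofAdd (h • Multiplicative.toAdd v) := fun h v => rfl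
  have hfin : Finite (Multiplicative V ⋊[φ] H) :=
    Finite.of_equiv (Multiplicative V × H) SemidirectProduct.equivProd.symm
  have hmemC : ∀ x : Multiplicative V ⋊[φ] H,
      x ∈ (SemidirectProduct.inr : H →* Multiplicative V ⋊[φ] H).range ↔ x.left = 1 := by
    intro x
    constructor
    · rintro ⟨h, rfl⟩
      exact SemidirectProduct.left_inr h
    · intro hx
      exact ⟨x.right, by ext <;> simp [hx]⟩
  have hC' : Cfsg.IsFrobeniusComplement
      (SemidirectProduct.inr : H →* Multiplicative V ⋊[φ] H).range := by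
    rw [isFrobeniusComplement_iff]
    refine ⟨?_, ?_, ?_⟩
    · obtain ⟨h, hh⟩ := exists_ne (1 : H)
      intro hbot
      have hm : (SemidirectProduct.inr h : Multiplicative V ⋊[φ] H) ∈
          (SemidirectProduct.inr : H →* Multiplicative V ⋊[φ] H).range := ⟨h, rfl⟩
      rw [hbot, Subgroup.mem_bot] at hm
      apply hh
      have := congrArg SemidirectProduct.right hm
      simpa using this
    · obtain ⟨v, hv⟩ := exists_ne (0 : V)
      intro htop
      have hm : (SemidirectProduct.inl (Multiplicative.ofAdd v) : Multiplicative V ⋊[φ] H) ∈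
          (SemidirectProduct.inr : H →* Multiplicative V ⋊[φ] H).range := by
        rw [htop]; trivial
      rw [hmemC] at hm
      simp at hm
      exact hv hm
    · intro g hg x hx hgx
      rw [hmemC] at hg hx hgx
      have key : φ x.right g.left = g.left := by
        have e : (g⁻¹ * x * g).left = φ g.right⁻¹ (g.left⁻¹ * φ x.right g.left) := by
          simp only [SemidirectProduct.mul_left, SemidirectProduct.mul_right,
            SemidirectProduct.inv_left, SemidirectProduct.inv_right, hx, map_one, mul_one,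
            map_mul, MulAut.mul_apply]
        rw [e] at hgx
        have h1 := (φ g.right⁻¹).injective (hgx.trans (map_one _).symm)
        exact (inv_mul_eq_one.mp h1).symm
      by_contra hx1
      have hxr : x.right ≠ 1 := by
        intro h
        apply hx1
        ext <;> simp [hx, h]
      have h0 := hfpf x.right hxr (Multiplicative.toAdd g.left) (by
        have := congrArg Multiplicative.toAdd key
        rwa [hφ] at this)
      apply hg
      exact toAdd_eq_zero.mp h0
  obtain ⟨L, iG, iF, C, hC, ⟨e⟩⟩ := exists_small_frobenius _ hC'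
  exact ⟨L, iG, iF, C, hC,
    ⟨(MonoidHom.ofInjective SemidirectProduct.inr_injective).trans e⟩⟩

theorem quot_span_torsion {S : Type*} [Ring S] (q : ℕ)
    (v : S ⧸ (Ideal.span {(q : S)} : Ideal S)) : (q : S) • v = 0 := by
  obtain ⟨s, rfl⟩ := Submodule.Quotient.mk_surjective _ v
  rw [← Submodule.Quotient.mk_smul, Submodule.Quotient.mk_eq_zero]
  rw [smul_eq_mul, (Nat.cast_commute q s).eq]
  exact Ideal.mem_span_singleton'.mpr ⟨s, rfl⟩

theorem finite_quot_of_fg {S : Type*} [Ring S] [Module.Finite ℤ S] (I : Ideal S) (q : ℕ)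
    (hq0 : q ≠ 0) (htors : ∀ v : S ⧸ I, (q : S) • v = 0) : Finite (S ⧸ I) := by
  have hf : @Module.Finite ℤ (S ⧸ I) _ _ (AddCommGroup.toIntModule _) :=
    Module.Finite.of_surjective (Submodule.mkQ I).toAddMonoidHom.toIntLinearMap
      (Submodule.mkQ_surjective I)
  refine @Module.finite_of_fg_torsion (S ⧸ I) _ (AddCommGroup.toIntModule _) hf ?_
  intro v
  have hq0' : (q : ℤ) ≠ 0 := by exact_mod_cast hq0
  refine ⟨⟨(q : ℤ), mem_nonZeroDivisors_of_ne_zero hq0'⟩, ?_⟩
  change (q : ℤ) • v = 0
  have h := htors v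
  rw [Nat.cast_smul_eq_nsmul] at h
  rw [natCast_zsmul]
  exact h

theorem span_ne_top_of_fg {S : Type*} [Ring S] [Module.Finite ℤ S] (q : ℕ)
    (hq2 : ∀ r : ℤ, (r : S) = 0 → ¬ (q : ℤ) ∣ r - 1) :
    (Ideal.span {(q : S)} : Ideal S) ≠ ⊤ := by
  intro htop
  have h1 : (1 : S) ∈ (Ideal.span {(q : S)} : Ideal S) := by rw [htop]; trivial
  obtain ⟨a, ha⟩ := Ideal.mem_span_singleton'.mp h1
  have hin : (⊤ : Submodule ℤ S) ≤ (Ideal.span {(q : ℤ)}) • (⊤ : Submodule ℤ S) := by
    intro s _
    have : s = (q : ℤ) • (s * a) := by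
      rw [zsmul_eq_mul, Int.cast_natCast, (Nat.cast_commute q (s * a)).eq, mul_assoc, ha,
        mul_one]
    rw [this]
    exact Submodule.smul_mem_smul (Ideal.mem_span_singleton_self _) trivial
  obtain ⟨r, hr1, hr2⟩ :=
    Submodule.exists_sub_one_mem_and_smul_eq_zero_of_fg_of_le_smul _ _ Module.Finite.fg_top hin
  have hr0 : (r : S) = 0 := by
    have := hr2 1 trivial
    rwa [zsmul_one] at this
  exact hq2 r hr0 (Ideal.mem_span_singleton.mp hr1)

/-- A finite nontrivial group mapping into a domain that is a finitely generated `ℤ`-module is a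
Frobenius complement, provided there is a number `q` coprime to its order such that no integer
congruent to `1` modulo `q` vanishes in the ring. -/
theorem exists_frobenius_of_ring {S H : Type*} [Ring S] [NoZeroDivisors S] [Module.Finite ℤ S]
    [Group H] [Finite H] [Nontrivial H] (ψ : H →* S) (hψ : ∀ h : H, h ≠ 1 → ψ h ≠ 1)
    (q : ℕ) (hq : q.Coprime (Nat.card H))
    (hq2 : ∀ r : ℤ, (r : S) = 0 → ¬ (q : ℤ) ∣ r - 1) :
    ∃ (L : Type) (_ : Group L) (_ : Finite L) (C : Subgroup L),
      Cfsg.IsFrobeniusComplement C ∧ Nonempty (H ≃* C) := by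
  have hq0 : q ≠ 0 := by
    rintro rfl
    rw [Nat.coprime_zero_left] at hq
    have := Finite.one_lt_card (α := H)
    omega
  have htors : ∀ v : S ⧸ (Ideal.span {(q : S)} : Ideal S), (q : S) • v = 0 :=
    quot_span_torsion q
  have hfin : Finite (S ⧸ (Ideal.span {(q : S)} : Ideal S)) :=
    finite_quot_of_fg _ q hq0 htors
  have hnt : Nontrivial (S ⧸ (Ideal.span {(q : S)} : Ideal S)) :=
    Submodule.Quotient.nontrivial_iff.mpr (span_ne_top_of_fg q hq2)
  let act : DistribMulAction H (S ⧸ (Ideal.span {(q : S)} : Ideal S)) :=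
    DistribMulAction.compHom _ ψ
  have hact : ∀ (h : H) (v : S ⧸ (Ideal.span {(q : S)} : Ideal S)), h • v = ψ h • v :=
    fun h v => rfl
  apply exists_frobenius_of_fpf (H := H) (V := S ⧸ (Ideal.span {(q : S)} : Ideal S))
  intro h hh v hv
  rw [hact] at hv
  have hx1 : ψ h ≠ 1 := hψ h hh
  have hxm : ψ h ^ orderOf h = 1 := by rw [← map_pow, pow_orderOf_eq_one, map_one]
  have hsum : ∑ i ∈ Finset.range (orderOf h), ψ h ^ i = 0 := by
    have := geom_sum_mul (ψ h) (orderOf h)
    rw [hxm, sub_self] at this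
    rcases mul_eq_zero.mp this with h0 | h0
    · exact h0
    · exact absurd (sub_eq_zero.mp h0) hx1
  have hpow : ∀ i : ℕ, ψ h ^ i • v = v := by
    intro i
    induction i with
    | zero => simp
    | succ i ih => rw [pow_succ, mul_smul, hv, ih]
  have hm : (orderOf h : S) • v = 0 := by
    have := congrArg (fun s : S => s • v) hsum
    simp only [Finset.sum_smul, hpow, Finset.sum_const, Finset.card_range, zero_smul] at this
    rw [Nat.cast_smul_eq_nsmul]
    exact this
  have hcop : Nat.Coprime (orderOf h) q :=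
    (Nat.Coprime.coprime_dvd_right (orderOf_dvd_natCard h) hq).symm
  obtain ⟨a, b, hab⟩ := Nat.isCoprime_iff_coprime.mpr hcop
  have hab' : (a : S) * (orderOf h : S) + (b : S) * (q : S) = 1 := by
    have := congrArg (Int.cast : ℤ → S) hab
    push_cast at this
    exact this
  calc v = (1 : S) • v := (one_smul _ _).symm
    _ = 0 := by
      rw [← hab', add_smul, mul_smul, mul_smul, hm, htors v, smul_zero, smul_zero, add_zero]

end Cfsg.Agent.Lib.Helper24
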