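import Mathlib

/-!
Linear representations of regular wreath products: a faithful representation of `D` on `V`
gives a faithful representation of `D ≀ᵣ Q` on `Q → V`, and by iteration a faithful
representation of `IteratedWreathProduct G (k+1)` of dimension `dim V₀ * |G| ^ k`.
-/

namespace Cfsg.Agent.Lib.Helper24.WreathRep

universe u

open RegularWreathProduct

section

variable {F : Type*} [Field F] {D Q V : Type*} [Group D] [Group Q]
  [AddCommGroup V] [Module F V]

/-- the action of an element of `D ≀ᵣ Q` on `Q → V` -/
noncomputable def wrAct (ρ : D →* Module.End F V) (w : D ≀ᵣ Q) : Module.End F (Q → V) :=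
  LinearMap.pi (fun x => (ρ (w.left x)).comp (LinearMap.proj (w.right⁻¹ * x)))

theorem wrAct_apply (ρ : D →* Module.End F V) (w : D ≀ᵣ Q) (φ : Q → V) (x : Q) :
    wrAct ρ w φ x = ρ (w.left x) (φ (w.right⁻¹ * x)) := rfl

/-- the representation of `D ≀ᵣ Q` on `Q → V` -/
noncomputable def wrHom (ρ : D →* Module.End F V) : (D ≀ᵣ Q) →* Module.End F (Q → V) where
  toFun := wrAct ρ
  map_one' := by
    refine LinearMap.ext fun φ => funext fun x => ?_
    rw [wrAct_apply, one_left, one_right, Pi.one_apply, map_one, inv_one, one_mul]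
    rfl
  map_mul' a b := by
    refine LinearMap.ext fun φ => funext fun x => ?_
    show ρ ((a * b).left x) (φ ((a * b).right⁻¹ * x))
      = ρ (a.left x) (ρ (b.left (a.right⁻¹ * x)) (φ (b.right⁻¹ * (a.right⁻¹ * x))))
    rw [mul_left, mul_right, Pi.mul_apply, map_mul, Module.End.mul_apply, mul_inv_rev, mul_assoc]

theorem wrHom_apply (ρ : D →* Module.End F V) (w : D ≀ᵣ Q) (φ : Q → V) (x : Q) :
    wrHom ρ w φ x = ρ (w.left x) (φ (w.right⁻¹ * x)) := rfl

theorem wrHom_injective [Nontrivial V] (ρ : D →* Module.End F V) (hρ : Function.Injective ρ) :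
    Function.Injective (wrHom ρ : (D ≀ᵣ Q) →* Module.End F (Q → V)) := by
  classical
  intro a b hab
  have key : ∀ (φ : Q → V) (x : Q),
      ρ (a.left x) (φ (a.right⁻¹ * x)) = ρ (b.left x) (φ (b.right⁻¹ * x)) := by
    intro φ x
    have := congrFun (congrArg (fun T : Module.End F (Q → V) => T φ) hab) x
    exact this
  have hinj : ∀ (d : D) (v : V), ρ d v = 0 → v = 0 := by
    intro d v hv
    have h1 : ρ d⁻¹ (ρ d v) = v := by
      rw [← Module.End.mul_apply, ← map_mul, inv_mul_cancel, map_one, Module.End.one_apply]
    rw [hv, map_zero] at h1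
    exact h1.symm
  obtain ⟨v, hv⟩ := exists_ne (0 : V)
  have hright : a.right = b.right := by
    by_contra hne
    have h1 := key (Pi.single 1 v) a.right
    rw [inv_mul_cancel, Pi.single_eq_same, Pi.single_eq_of_ne, map_zero] at h1
    · exact hv (hinj _ _ h1)
    · intro h2
      apply hne
      exact (inv_mul_eq_one.mp h2).symm
  apply RegularWreathProduct.ext
  · funext x
    apply hρ
    refine LinearMap.ext fun w => ?_
    have h1 := key (Pi.single (a.right⁻¹ * x) w) x
    rw [Pi.single_eq_same, ← hright, Pi.single_eq_same] at h1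
    exact h1
  · exact hright

end

/-- L1: a faithful representation of `D` induces a faithful representation of `D ≀ᵣ Q`. -/
theorem wreath_rep {F : Type u} [Field F] {D Q V : Type u} [Group D] [Group Q] [Finite Q]
    [AddCommGroup V] [Module F V] [Nontrivial V] (ρ : D →* Module.End F V)
    (hρ : Function.Injective ρ) :
    ∃ ρ' : (D ≀ᵣ Q) →* Module.End F (Q → V), Function.Injective ρ' :=
  ⟨wrHom ρ, wrHom_injective ρ hρ⟩

/-- L2: a faithful representation of `G` on `V₀` gives a faithful representation of the
iterated wreath product `IteratedWreathProduct G (k+1)` of dimension `dim V₀ * |G| ^ k`. -/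
theorem iwp_rep {F : Type u} [Field F] {G : Type u} [Group G] [Finite G] {V₀ : Type u}
    [AddCommGroup V₀] [Module F V₀] [Module.Finite F V₀] [Nontrivial V₀]
    (ρ₀ : G →* Module.End F V₀) (h₀ : Function.Injective ρ₀) (k : ℕ) :
    ∃ (V : Type u) (_ : AddCommGroup V) (_ : Module F V) (_ : Module.Finite F V)
      (ρ : IteratedWreathProduct G (k+1) →* Module.End F V),
      Function.Injective ρ ∧ Module.finrank F V = Module.finrank F V₀ * Nat.card G ^ k := by
  classical
  induction k with
  | zero =>
    refine ⟨V₀, inferInstance, inferInstance, inferInstance,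
      ρ₀.comp (RegularWreathProduct.rightHom (D := IteratedWreathProduct G 0) (Q := G)), ?_, ?_⟩
    · intro a b hab
      have h1 : (RegularWreathProduct.rightHom (D := IteratedWreathProduct G 0) (Q := G)) a
          = (RegularWreathProduct.rightHom (D := IteratedWreathProduct G 0) (Q := G)) b :=
        h₀ hab
      apply RegularWreathProduct.ext (D := IteratedWreathProduct G 0) (Q := G)
      · funext x
        exact Subsingleton.elim (α := PUnit) _ _
      · exact h1
    · rw [pow_zero, mul_one]
  | succ k ih =>
    obtain ⟨V, iA, iM, iF, ρ, hρ, hfin⟩ := ih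
    have hpos : 0 < Module.finrank F V := by
      rw [hfin]
      exact Nat.mul_pos Module.finrank_pos (pow_pos Nat.card_pos k)
    haveI : Nontrivial V := Module.nontrivial_of_finrank_pos (R := F) hpos
    letI : Fintype G := Fintype.ofFinite G
    refine ⟨G → V, inferInstance, inferInstance, inferInstance,
      (wrHom ρ : (IteratedWreathProduct G (k+1) ≀ᵣ G) →* Module.End F (G → V)),
      wrHom_injective ρ hρ, ?_⟩
    rw [Module.finrank_pi_fintype, Finset.sum_const, Finset.card_univ, smul_eq_mul, hfin,
      Nat.card_eq_fintype_card]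
    ring

end Cfsg.Agent.Lib.Helper24.WreathRep
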