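import Mathlib
import Cfsg.Agent.Lib.Helper24.WreathRep
import Cfsg.Agent.Lib.Helper8.SylPermDL
import Cfsg.Agent.Lib.Helper11.EndToGL

/-!
Lower bound for the derived length of a Sylow `p`-subgroup of `GL_n(F)`, `F` a finite field
with `q` elements, `p ∤ q`, `e` the order of `q` modulo `p`, `e ≤ n`:
the `log_p (n / e)`-th derived subgroup is not trivial.
-/

namespace Cfsg.Agent.Lib.Helper24.GLLower

open Cfsg.Agent.Lib.Helper24.WreathRep

universe u

theorem order_pos (p : ℕ) [Fact p.Prime] (q : ℕ) (hpq : ¬ p ∣ q) :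
    0 < orderOf (q : ZMod p) := by
  rw [orderOf_pos_iff, isOfFinOrder_iff_pow_eq_one]
  have hp : p.Prime := Fact.out
  refine ⟨p - 1, Nat.sub_pos_of_lt hp.one_lt, ?_⟩
  apply ZMod.pow_card_sub_one_eq_one
  intro h0
  exact hpq ((ZMod.natCast_eq_zero_iff q p).mp h0)

/-- an element of order `p` in `GL_e(F)` -/
theorem exists_order_p (p : ℕ) [Fact p.Prime] (F : Type u) [Field F] [Fintype F] (q : ℕ)
    (hq : Fintype.card F = q) (hpq : ¬ p ∣ q) :
    ∃ c : Matrix.GeneralLinearGroup (Fin (orderOf (q : ZMod p))) F, orderOf c = p := by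
  classical
  have hp : p.Prime := Fact.out
  have he0 := order_pos p q hpq
  generalize hE : orderOf (q : ZMod p) = e at he0 ⊢
  have h1 : (q : ZMod p) ^ e = 1 := by rw [← hE]; exact pow_orderOf_eq_one _
  have hqpos : 0 < q := by rw [← hq]; exact Fintype.card_pos
  have hdvd : p ∣ q ^ e - 1 := by
    have h2 : ((q ^ e - 1 : ℕ) : ZMod p) = 0 := by
      rw [Nat.cast_sub (Nat.one_le_pow _ _ hqpos), Nat.cast_pow, h1]
      simp
    exact (ZMod.natCast_eq_zero_iff _ _).mp h2
  have hcard : Nat.card (Matrix.GeneralLinearGroup (Fin e) F)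
      = ∏ i : Fin e, (q ^ e - q ^ (i : ℕ)) := by
    rw [← hq]; exact Matrix.card_GL_field e
  have hdvd2 : p ∣ Nat.card (Matrix.GeneralLinearGroup (Fin e) F) := by
    rw [hcard]
    have h3 : (q ^ e - q ^ ((⟨0, he0⟩ : Fin e) : ℕ)) ∣ ∏ i : Fin e, (q ^ e - q ^ (i : ℕ)) :=
      Finset.dvd_prod_of_mem _ (Finset.mem_univ _)
    rw [pow_zero] at h3
    exact dvd_trans hdvd h3
  exact exists_prime_orderOf_dvd_card' p hdvd2

/-- the second conjunct of S4015 -/
theorem sylow_gl_derived_ne_bot (p : ℕ) [Fact p.Prime] (F : Type u) [Field F] [Fintype F]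
    (q : ℕ) (hq : Fintype.card F = q) (hpq : ¬ p ∣ q) (n : ℕ)
    (hn : orderOf (q : ZMod p) ≤ n) (P : Sylow p (Matrix.GeneralLinearGroup (Fin n) F)) :
    derivedSeries ↥(P : Subgroup (Matrix.GeneralLinearGroup (Fin n) F))
      (Nat.log p (n / orderOf (q : ZMod p))) ≠ ⊥ := by
  classical
  have hp : p.Prime := Fact.out
  obtain ⟨c, hc⟩ := exists_order_p p F q hq hpq
  have he0 := order_pos p q hpq
  generalize hE : orderOf (q : ZMod p) = e at he0 hn c hc ⊢
  generalize hK : Nat.log p (n / e) = k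
  have hpk : p ^ k ≤ n / e := by
    rw [← hK]
    exact Nat.pow_log_le_self p (Nat.div_pos hn he0).ne'
  -- the cyclic group generated by `c`
  let C : Subgroup (Matrix.GeneralLinearGroup (Fin e) F) := Subgroup.zpowers c
  have hCcard : Nat.card ↥C = p := by
    rw [Nat.card_zpowers, hc]
  have hCne : ∃ q₀ : ↥C, q₀ ≠ 1 := by
    refine ⟨⟨c, Subgroup.mem_zpowers c⟩, ?_⟩
    intro h1
    have h2 : c = 1 := congrArg Subtype.val h1
    rw [h2, orderOf_one] at hc
    exact hp.one_lt.ne hc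
  let ρ₀ : ↥C →* Module.End F (Fin e → F) :=
    ((Matrix.toLinAlgEquiv' : Matrix (Fin e) (Fin e) F ≃ₐ[F] _).toAlgHom.toRingHom.toMonoidHom).comp
      ((Units.coeHom (Matrix (Fin e) (Fin e) F)).comp C.subtype)
  have hρ₀ : Function.Injective ρ₀ := by
    intro a b hab
    have h1 : ((a : Matrix.GeneralLinearGroup (Fin e) F) : Matrix (Fin e) (Fin e) F)
        = ((b : Matrix.GeneralLinearGroup (Fin e) F) : Matrix (Fin e) (Fin e) F) :=
      (Matrix.toLinAlgEquiv' : Matrix (Fin e) (Fin e) F ≃ₐ[F] _).injective hab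
    exact Subtype.ext (Units.ext h1)
  haveI : Nonempty (Fin e) := ⟨⟨0, he0⟩⟩
  obtain ⟨V, iA, iM, iF, ρ, hρ, hfin⟩ := iwp_rep ρ₀ hρ₀ k
  have hle : Module.finrank F V ≤ n := by
    rw [hfin, Module.finrank_fin_fun, hCcard]
    calc e * p ^ k ≤ e * (n / e) := Nat.mul_le_mul_left e hpk
      _ ≤ n := Nat.mul_div_le n e
  obtain ⟨f, hf⟩ := Cfsg.Agent.Lib.Helper11.end_to_gl ρ hρ n hle
  have hW : IsPGroup p (IteratedWreathProduct ↥C (k + 1)) := by
    apply IsPGroup.of_card (n := ∑ i ∈ Finset.range (k + 1), p ^ i)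
    rw [IteratedWreathProduct.card, hCcard]
  have hR : IsPGroup p f.range := by
    have := hW.to_subgroup (⊤ : Subgroup (IteratedWreathProduct ↥C (k + 1)))
    have h2 := IsPGroup.map this f
    rwa [← MonoidHom.range_eq_map] at h2
  obtain ⟨Q, hQ⟩ := hR.exists_le_sylow
  let g : IteratedWreathProduct ↥C (k + 1) →*
      ↥(Q : Subgroup (Matrix.GeneralLinearGroup (Fin n) F)) :=
    f.codRestrict (Q : Subgroup (Matrix.GeneralLinearGroup (Fin n) F))
      (fun x => hQ (MonoidHom.mem_range.mpr ⟨x, rfl⟩))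
  have hg : Function.Injective g := by
    intro x y hxy
    apply hf
    exact congrArg (Subtype.val) hxy
  let ee : ↥(Q : Subgroup (Matrix.GeneralLinearGroup (Fin n) F)) ≃*
      ↥(P : Subgroup (Matrix.GeneralLinearGroup (Fin n) F)) := Q.equiv P
  let φ : IteratedWreathProduct ↥C (k + 1) →*
      ↥(P : Subgroup (Matrix.GeneralLinearGroup (Fin n) F)) := ee.toMonoidHom.comp g
  have hφ : Function.Injective φ := ee.injective.comp hg
  intro hbot
  have hmap := map_derivedSeries_le_derivedSeries φ k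
  rw [hbot, le_bot_iff, Subgroup.map_eq_bot_iff_of_injective _ hφ] at hmap
  exact Cfsg.Agent.Lib.Helper8.SylPermDL.iwp_ne_bot ↥C hCne k hmap

end Cfsg.Agent.Lib.Helper24.GLLower
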