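import Mathlib
import Cfsg.Prelude.Def_TwoFusion
import Cfsg.Prelude.Def_Transfer
import Cfsg.Prelude.Def_CaseTheorems
import Cfsg.Agent.Lib.Helper10.ZS7
import Cfsg.Agent.Lib.Helper1.Cores

set_option autoImplicit false

/-!
Groups with a quaternion Sylow `2`-subgroup of order eight and trivial odd core: the central
involution, the quotient by it, and the centralizer of an element of order four.
-/

namespace Cfsg.Agent.Lib.Helper24

theorem q8_facts {Q : Type*} [Group Q] (e : Q ≃* QuaternionGroup 2) :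
    ∃ z : Q, z ≠ 1 ∧ z * z = 1 ∧ (∀ q : Q, q * z = z * q) ∧
      (∀ q : Q, q * q = 1 → q = 1 ∨ q = z) ∧
      (∀ q : Q, q ≠ 1 → q ≠ z → q * q = z) ∧
      (∀ q r : Q, q * q = z → r * q = q * r → r = 1 ∨ r = q ∨ r = z ∨ r = q * z) ∧
      (∀ q : Q, q * q = z → ∃ r : Q, r * q * r⁻¹ = q⁻¹) ∧
      (∃ q : Q, q * q = z) := by
  have key : ∀ a b : QuaternionGroup 2, e.symm a = e.symm b ↔ a = b :=
    fun a b => e.symm.injective.eq_iff
  have hsurj : ∀ q : Q, ∃ a : QuaternionGroup 2, e.symm a = q :=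
    fun q => ⟨e q, e.symm_apply_apply q⟩
  refine ⟨e.symm (QuaternionGroup.a 2), ?_, ?_, ?_, ?_, ?_, ?_, ?_, ?_⟩
  · rw [← map_one e.symm, Ne, key]
    decide
  · rw [← map_mul, ← map_one e.symm, key]
    decide
  · intro q
    obtain ⟨a, rfl⟩ := hsurj q
    rw [← map_mul, ← map_mul, key]
    revert a
    decide
  · intro q
    obtain ⟨a, rfl⟩ := hsurj q
    rw [← map_mul, ← map_one e.symm, key, key, key]
    revert a
    decide
  · intro q
    obtain ⟨a, rfl⟩ := hsurj q
    rw [← map_mul, ← map_one e.symm, Ne, Ne, key, key, key]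
    revert a
    decide
  · intro q r
    obtain ⟨a, rfl⟩ := hsurj q
    obtain ⟨b, rfl⟩ := hsurj r
    rw [← map_mul, ← map_mul, ← map_mul, ← map_mul, ← map_one e.symm, key, key, key, key, key,
      key]
    revert a b
    decide
  · intro q
    obtain ⟨a, rfl⟩ := hsurj q
    rw [← map_mul, key]
    intro ha
    have : ∃ b : QuaternionGroup 2, b * a * b⁻¹ = a⁻¹ := by
      revert a
      decide
    obtain ⟨b, hb⟩ := this
    refine ⟨e.symm b, ?_⟩
    rw [← map_inv, ← map_inv, ← map_mul, ← map_mul, hb]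
  · exact ⟨e.symm (QuaternionGroup.a 1), by rw [← map_mul, key]; decide⟩

theorem quat_sub_facts {G : Type*} [Group G] (S : Subgroup G) (e : S ≃* QuaternionGroup 2) :
    ∃ z : G, z ∈ S ∧ z ≠ 1 ∧ z * z = 1 ∧ (∀ q ∈ S, q * z = z * q) ∧
      (∀ q ∈ S, q * q = 1 → q = 1 ∨ q = z) ∧
      (∀ q ∈ S, q ≠ 1 → q ≠ z → q * q = z) ∧
      (∀ q ∈ S, ∀ r ∈ S, q * q = z → r * q = q * r → r = 1 ∨ r = q ∨ r = z ∨ r = q * z) ∧
      (∀ q ∈ S, q * q = z → ∃ r ∈ S, r * q * r⁻¹ = q⁻¹) ∧
      (∃ q ∈ S, q * q = z) := by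
  obtain ⟨z, h1, h2, h3, h4, h5, h6, h7, q₀, h8⟩ := q8_facts e
  refine ⟨(z : G), z.2, ?_, ?_, ?_, ?_, ?_, ?_, ?_, ?_⟩
  · exact fun h => h1 (Subtype.ext h)
  · exact congrArg Subtype.val h2
  · exact fun q hq => congrArg Subtype.val (h3 ⟨q, hq⟩)
  · intro q hq hqq
    rcases h4 ⟨q, hq⟩ (Subtype.ext hqq) with h | h
    · exact Or.inl (congrArg Subtype.val h)
    · exact Or.inr (congrArg Subtype.val h)
  · intro q hq hq1 hqz
    exact congrArg Subtype.val (h5 ⟨q, hq⟩ (fun h => hq1 (congrArg Subtype.val h))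
      (fun h => hqz (congrArg Subtype.val h)))
  · intro q hq r hr hqq hrq
    rcases h6 ⟨q, hq⟩ ⟨r, hr⟩ (Subtype.ext hqq) (Subtype.ext hrq) with h | h | h | h
    · exact Or.inl (congrArg Subtype.val h)
    · exact Or.inr (Or.inl (congrArg Subtype.val h))
    · exact Or.inr (Or.inr (Or.inl (congrArg Subtype.val h)))
    · exact Or.inr (Or.inr (Or.inr (congrArg Subtype.val h)))
  · intro q hq hqq
    obtain ⟨r, hr⟩ := h7 ⟨q, hq⟩ (Subtype.ext hqq)
    exact ⟨(r : G), r.2, congrArg Subtype.val hr⟩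
  · exact ⟨(q₀ : G), q₀.2, congrArg Subtype.val h8⟩

theorem isPGroup_zpowers_of_pow {G : Type*} [Group G] (a : G) (i : ℕ) (ha : a ^ 2 ^ i = 1) :
    IsPGroup 2 (Subgroup.zpowers a) := by
  intro g
  obtain ⟨g, hg⟩ := g
  obtain ⟨j, rfl⟩ := Subgroup.mem_zpowers_iff.mp hg
  refine ⟨i, Subtype.ext ?_⟩
  show (a ^ j) ^ (2 ^ i) = 1
  rw [← zpow_natCast, ← zpow_mul, mul_comm, zpow_mul, zpow_natCast, ha, one_zpow]

/-- two commuting `2`-elements lie in a common conjugate of a given Sylow `2`-subgroup -/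
theorem pair_in_sylow {G : Type*} [Group G] [Finite G] (S : Sylow 2 G) (a b : G) (i j : ℕ)
    (ha : a ^ 2 ^ i = 1) (hb : b ^ 2 ^ j = 1) (hab : a * b = b * a) :
    ∃ c a₀ b₀ : G, a₀ ∈ S ∧ b₀ ∈ S ∧ a = c * a₀ * c⁻¹ ∧ b = c * b₀ * c⁻¹ := by
  have : Fact (Nat.Prime 2) := ⟨Nat.prime_two⟩
  have hA := isPGroup_zpowers_of_pow a i ha
  have hB := isPGroup_zpowers_of_pow b j hb
  have hnorm : Subgroup.zpowers a
      ≤ Subgroup.normalizer ((Subgroup.zpowers b : Subgroup G) : Set G) := by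
    rw [Subgroup.zpowers_le]
    apply Subgroup.centralizer_le_normalizer
    rw [Subgroup.mem_centralizer_iff]
    intro h hh
    obtain ⟨k, rfl⟩ := Subgroup.mem_zpowers_iff.mp hh
    have hc : Commute a (b ^ k) := Commute.zpow_right hab k
    exact hc.eq.symm
  have hsup := IsPGroup.to_sup_of_normal_right' hA hB hnorm
  obtain ⟨Q', hQ'⟩ := hsup.exists_le_sylow
  obtain ⟨c, hc⟩ := MulAction.exists_smul_eq G S Q'
  have haQ : a ∈ (Q' : Subgroup G) := hQ' (le_sup_left (a := Subgroup.zpowers a)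
    (Subgroup.mem_zpowers a))
  have hbQ : b ∈ (Q' : Subgroup G) := hQ' (le_sup_right (b := Subgroup.zpowers b)
    (Subgroup.mem_zpowers b))
  rw [← hc, Sylow.coe_subgroup_smul, Subgroup.mem_smul_pointwise_iff_exists] at haQ hbQ
  obtain ⟨a₀, ha₀, ha₀a⟩ := haQ
  obtain ⟨b₀, hb₀, hb₀b⟩ := hbQ
  rw [MulAut.smul_def, MulAut.conj_apply] at ha₀a hb₀b
  exact ⟨c, a₀, b₀, ha₀, hb₀, ha₀a.symm, hb₀b.symm⟩

/-- the involution of a quaternion Sylow `2`-subgroup is central when the odd core is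
trivial -/
theorem quat_center {G : Type*} [Group G] [Finite G] (S : Sylow 2 G) (z : G) (hz1 : z ≠ 1)
    (hzz : z * z = 1) (hinv : ∀ q ∈ S, q * q = 1 → q = 1 ∨ q = z)
    (hO : ∀ N : Subgroup G, N.Normal → Odd (Nat.card N) → N = ⊥) :
    ∀ g : G, z * g = g * z := by
  have : Fact (Nat.Prime 2) := ⟨Nat.prime_two⟩
  have hz2 : orderOf z = 2 := orderOf_eq_prime (by rw [pow_two]; exact hzz) hz1
  have hsylow : ∀ (c x₀ : G), x₀ ∈ S → (c * x₀ * c⁻¹) * (c * x₀ * c⁻¹) = 1 → c * x₀ * c⁻¹ ≠ 1 →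
      x₀ = z := by
    intro c x₀ hx₀ hsq hne
    have h1 : x₀ * x₀ = 1 := by
      have h2 : x₀ * x₀ = c⁻¹ * ((c * x₀ * c⁻¹) * (c * x₀ * c⁻¹)) * c := by group
      rw [h2, hsq]
      group
    rcases hinv x₀ hx₀ h1 with h | h
    · exfalso
      apply hne
      rw [h]
      group
    · exact h
  have hiso : Cfsg.IsIsolatedInvolution z := by
    refine ⟨hz2, ?_⟩
    intro g hcomm
    have hww : (g * z * g⁻¹) * (g * z * g⁻¹) = 1 := by
      have h2 : (g * z * g⁻¹) * (g * z * g⁻¹) = g * (z * z) * g⁻¹ := by group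
      rw [h2, hzz]
      group
    have hw1 : g * z * g⁻¹ ≠ 1 := by
      intro h
      apply hz1
      have h2 : z = g⁻¹ * (g * z * g⁻¹) * g := by group
      rw [h2, h]
      group
    obtain ⟨c, a₀, b₀, ha₀, hb₀, ha, hb⟩ := pair_in_sylow S z (g * z * g⁻¹) 1 1
      (by rw [pow_one, pow_two]; exact hzz) (by rw [pow_one, pow_two]; exact hww) hcomm.eq
    have ha₀z : a₀ = z := hsylow c a₀ ha₀ (by rw [← ha]; exact hzz) (by rw [← ha]; exact hz1)
    have hb₀z : b₀ = z := hsylow c b₀ hb₀ (by rw [← hb]; exact hww) (by rw [← hb]; exact hw1)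
    rw [hb, hb₀z]
    rw [ha₀z] at ha
    exact ha.symm
  have hcore : Cfsg.oddCore G = ⊥ := by
    apply hO _ (Cfsg.Agent.Lib.Helper1.pPrimeCore_normal 2)
    have h := Cfsg.Agent.Lib.Helper1.pPrimeCore_coprime (G := G) 2
    exact Nat.Coprime.odd_of_right h
  intro g
  have h := Cfsg.Agent.Lib.Helper10.ZS.zstar z hiso g
  rw [hcore, Subgroup.mem_bot] at h
  have h2 : z * g = (z * g * z⁻¹ * g⁻¹) * (g * z) := by group
  rw [h2, h, one_mul]

/-- the quotient by the central involution has no normal subgroup of the odd part of its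
order -/
theorem quat_no_complement {G : Type*} [Group G] [Finite G] (z : G) (hz2 : orderOf z = 2)
    (hzc : ∀ g : G, z * g = g * z) [hZn : (Subgroup.zpowers z).Normal]
    (hO : ∀ N : Subgroup G, N.Normal → Odd (Nat.card N) → N = ⊥) (g₀ : ℕ) (hg₀ : Odd g₀)
    (hg1 : g₀ ≠ 1) (hcard : Nat.card (G ⧸ Subgroup.zpowers z) = 4 * g₀) :
    ¬ ∃ N : Subgroup (G ⧸ Subgroup.zpowers z), N.Normal ∧ Nat.card N = g₀ := by
  rintro ⟨N, hN, hNcard⟩
  have hg0pos : 0 < g₀ := hg₀.pos
  set K : Subgroup G := N.comap (QuotientGroup.mk' (Subgroup.zpowers z)) with hK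
  have hKn : K.Normal := hN.comap _
  have hzK : z ∈ K := by
    rw [hK, Subgroup.mem_comap]
    have h1 : (QuotientGroup.mk' (Subgroup.zpowers z)) z = 1 :=
      (QuotientGroup.eq_one_iff z).mpr (Subgroup.mem_zpowers z)
    rw [h1]
    exact N.one_mem
  have hKcard : Nat.card K = 2 * g₀ := by
    have h1 : K.index = N.index :=
      Subgroup.index_comap_of_surjective N (QuotientGroup.mk'_surjective _)
    have h2 : Nat.card N * N.index = Nat.card (G ⧸ Subgroup.zpowers z) := N.card_mul_index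
    have h3 : Nat.card K * K.index = Nat.card G := K.card_mul_index
    have h4 := Subgroup.card_eq_card_quotient_mul_card_subgroup (Subgroup.zpowers z)
    rw [Nat.card_zpowers, hz2, hcard] at h4
    rw [hNcard, hcard] at h2
    have h5 : N.index = 4 := by
      have : g₀ * N.index = g₀ * 4 := by rw [h2]; ring
      exact Nat.eq_of_mul_eq_mul_left hg0pos this
    rw [h1, h5, h4] at h3
    omega
  have hzcenK : (⟨z, hzK⟩ : K) ∈ Subgroup.center K :=
    Subgroup.mem_center_iff.mpr (fun k => Subtype.ext (hzc k).symm)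
  set m := (Subgroup.center K).index with hm
  have hmodd : Odd m := by
    have h1 : Nat.card (Subgroup.center K) * m = Nat.card K := Subgroup.card_mul_index _
    have h2 : 2 ∣ Nat.card (Subgroup.center K) := by
      have h3 : orderOf (⟨⟨z, hzK⟩, hzcenK⟩ : Subgroup.center K) = 2 := by
        rw [Subgroup.orderOf_mk, Subgroup.orderOf_mk, hz2]
      rw [← h3]
      exact orderOf_dvd_natCard _
    obtain ⟨c, hc⟩ := h2
    rw [hc, hKcard] at h1
    have h4 : c * m = g₀ := Nat.eq_of_mul_eq_mul_left (by norm_num : 0 < 2) (by rw [← h1]; ring)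
    rw [← h4] at hg₀
    exact (Nat.odd_mul.mp hg₀).2
  have hmul : ∀ a b : K, (a * b) ^ (m * g₀) = a ^ (m * g₀) * b ^ (m * g₀) := by
    intro a b
    have h1 : (a * b) ^ m = a ^ m * b ^ m :=
      congrArg Subtype.val (map_mul (MonoidHom.transferCenterPow K) a b)
    have h2 : Commute (a ^ m) (b ^ m) := by
      have h3 : a ^ m ∈ Subgroup.center K := (Subgroup.center K).pow_index_mem a
      exact (Subgroup.mem_center_iff.mp h3 (b ^ m)).symm
    rw [pow_mul, h1, h2.mul_pow, ← pow_mul, ← pow_mul]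
  let ψ : K →* K := MonoidHom.mk' (fun k => k ^ (m * g₀)) hmul
  have hψ : ∀ k : K, ((ψ k : K) : G) = (k : G) ^ (m * g₀) := by
    intro k
    show ((k ^ (m * g₀) : K) : G) = _
    rw [Subgroup.coe_pow]
  set L : Subgroup G := ψ.ker.map K.subtype with hL
  have hLmem : ∀ x : G, x ∈ L ↔ x ∈ K ∧ x ^ (m * g₀) = 1 := by
    intro x
    rw [hL, Subgroup.mem_map]
    constructor
    · rintro ⟨k, hk, rfl⟩
      refine ⟨k.2, ?_⟩
      rw [MonoidHom.mem_ker] at hk
      have h1 := hψ k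
      rw [hk] at h1
      exact h1.symm
    · rintro ⟨hxK, hx⟩
      refine ⟨⟨x, hxK⟩, ?_, rfl⟩
      rw [MonoidHom.mem_ker]
      apply Subtype.ext
      rw [hψ]
      exact hx
  have hLn : L.Normal := by
    constructor
    intro x hx g
    rw [hLmem] at hx ⊢
    refine ⟨hKn.conj_mem x hx.1 g, ?_⟩
    rw [conj_pow, hx.2]
    group
  have hLodd : Odd (Nat.card L) := by
    rw [← Nat.not_even_iff_odd, even_iff_two_dvd]
    intro h2
    have : Fact (Nat.Prime 2) := ⟨Nat.prime_two⟩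
    obtain ⟨t, ht⟩ := exists_prime_orderOf_dvd_card' 2 h2
    have ht' : orderOf (t : G) = 2 := by rw [Subgroup.orderOf_coe]; exact ht
    have htL := (hLmem t).mp t.2
    have h3 : 2 ∣ m * g₀ := by
      rw [← ht']
      exact orderOf_dvd_of_pow_eq_one htL.2
    have hodd : Odd (m * g₀) := hmodd.mul hg₀
    exact (Nat.not_even_iff_odd.mpr hodd) (even_iff_two_dvd.mpr h3)
  have hLbot := hO L hLn hLodd
  have hsq : ∀ k ∈ K, k * k = 1 := by
    intro k hk
    have h0 : k * k ∈ L := by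
      rw [hLmem]
      refine ⟨K.mul_mem hk hk, ?_⟩
      have h1 : (⟨k, hk⟩ : K) ^ (2 * g₀) = 1 := by
        rw [← hKcard]
        exact pow_card_eq_one'
      have h2 : k ^ (2 * g₀) = 1 := by
        have := congrArg Subtype.val h1
        simpa using this
      rw [← pow_two, ← pow_mul, show 2 * (m * g₀) = (2 * g₀) * m by ring, pow_mul, h2, one_pow]
    rw [hLbot, Subgroup.mem_bot] at h0
    exact h0
  apply hg1
  by_contra hne
  obtain ⟨p, hp, hpd⟩ := Nat.exists_prime_and_dvd hne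
  have : Fact p.Prime := ⟨hp⟩
  have hpK : p ∣ Nat.card K := by
    rw [hKcard]
    exact Dvd.dvd.mul_left hpd 2
  obtain ⟨k, hk⟩ := exists_prime_orderOf_dvd_card' p hpK
  have hkk := hsq (k : G) k.2
  have h2 : orderOf (k : G) ∣ 2 := orderOf_dvd_of_pow_eq_one (by rw [pow_two]; exact hkk)
  rw [Subgroup.orderOf_coe, hk] at h2
  have hp2 : p = 2 := (Nat.prime_dvd_prime_iff_eq hp Nat.prime_two).mp h2
  rw [hp2] at hpd
  exact (Nat.not_even_iff_odd.mpr hg₀) (even_iff_two_dvd.mpr hpd)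

/-- the centralizer of an element of order four has a normal `2`-complement -/
theorem quat_centralizer_complement {G : Type*} [Group G] [Finite G] (S : Sylow 2 G) (z y : G)
    (hz1 : z ≠ 1) (hzz : z * z = 1)
    (hsq : ∀ q ∈ S, q ≠ 1 → q ≠ z → q * q = z)
    (hcent : ∀ q ∈ S, ∀ r ∈ S, q * q = z → r * q = q * r →
      r = 1 ∨ r = q ∨ r = z ∨ r = q * z)
    (hyy : y * y = z) :
    Cfsg.HasNormalPComplement 2 (Subgroup.centralizer ({y} : Set G)) := by
  classical
  have : Fact (Nat.Prime 2) := ⟨Nat.prime_two⟩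
  have hyC : y ∈ Subgroup.centralizer ({y} : Set G) :=
    Subgroup.mem_centralizer_singleton_iff.mpr rfl
  have hy4 : y ^ 4 = 1 := by
    have h1 : y ^ 4 = (y * y) * (y * y) := by
      rw [show (4 : ℕ) = 2 + 2 from rfl, pow_add, pow_two]
    rw [h1, hyy, hzz]
  have hy2 : y ^ 2 ≠ 1 := by
    rw [pow_two, hyy]
    exact hz1
  have hyord : orderOf y = 4 := by
    have h1 := orderOf_eq_prime_pow (p := 2) (n := 1) (x := y) (by rw [pow_one]; exact hy2)
      (by norm_num; exact hy4)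
    rw [h1]
    norm_num
  obtain ⟨T⟩ : Nonempty (Sylow 2 (Subgroup.centralizer ({y} : Set G))) := inferInstance
  have hTle : (T : Subgroup (Subgroup.centralizer ({y} : Set G)))
      ≤ Subgroup.zpowers (⟨y, hyC⟩ : Subgroup.centralizer ({y} : Set G)) := by
    intro t ht
    obtain ⟨k, hk⟩ := T.2 ⟨t, ht⟩
    have htk : (t : G) ^ 2 ^ k = 1 := by
      have h1 := congrArg Subtype.val hk
      have h2 := congrArg Subtype.val h1
      simpa using h2
    have hcomm : (t : G) * y = y * (t : G) :=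
      (Subgroup.mem_centralizer_singleton_iff.mp t.2)
    obtain ⟨c, a₀, b₀, ha₀, hb₀, ha, hb⟩ := pair_in_sylow S (t : G) y k 2 htk
      (by norm_num; exact hy4) hcomm
    have hb₀1 : b₀ ≠ 1 := by
      rintro rfl
      apply hy2
      rw [hb]
      group
    have hb₀z : b₀ ≠ z := by
      rintro rfl
      apply hy2
      rw [hb, pow_two]
      have h2 : c * b₀ * c⁻¹ * (c * b₀ * c⁻¹) = c * (b₀ * b₀) * c⁻¹ := by group
      rw [h2, hzz]
      group
    have hb₀sq := hsq b₀ hb₀ hb₀1 hb₀z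
    have hcomm₀ : a₀ * b₀ = b₀ * a₀ := by
      have h1 : a₀ = c⁻¹ * (t : G) * c := by rw [ha]; group
      have h2 : b₀ = c⁻¹ * y * c := by rw [hb]; group
      rw [h1, h2]
      calc c⁻¹ * (t : G) * c * (c⁻¹ * y * c) = c⁻¹ * ((t : G) * y) * c := by group
        _ = c⁻¹ * (y * (t : G)) * c := by rw [hcomm]
        _ = c⁻¹ * y * c * (c⁻¹ * (t : G) * c) := by group
    have hz' : z = b₀ ^ 2 := by rw [pow_two, hb₀sq]
    have hpow : ∀ n : ℕ, c * b₀ ^ n * c⁻¹ = y ^ n := by
      intro n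
      rw [hb, conj_pow]
    have hmem : (t : G) ∈ Subgroup.zpowers y := by
      rw [ha]
      rcases hcent b₀ hb₀ a₀ ha₀ hb₀sq hcomm₀ with h | h | h | h
      · rw [h]
        have h3 : c * 1 * c⁻¹ = 1 := by group
        rw [h3]
        exact Subgroup.one_mem _
      · rw [h, ← hb]
        exact Subgroup.mem_zpowers y
      · rw [h, hz', hpow]
        exact Subgroup.pow_mem _ (Subgroup.mem_zpowers y) 2
      · rw [h, hz', ← pow_succ', hpow]
        exact Subgroup.pow_mem _ (Subgroup.mem_zpowers y) _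
    obtain ⟨n, hn⟩ := Subgroup.mem_zpowers_iff.mp hmem
    rw [Subgroup.mem_zpowers_iff]
    exact ⟨n, Subtype.ext (by rw [Subgroup.coe_zpow]; exact hn)⟩
  have hcyc : IsCyclic (T : Subgroup (Subgroup.centralizer ({y} : Set G))) :=
    isCyclic_of_injective (Subgroup.inclusion hTle) (Subgroup.inclusion_injective hTle)
  have h2C : 2 ∣ Nat.card (Subgroup.centralizer ({y} : Set G)) := by
    have h4 : orderOf (⟨y, hyC⟩ : Subgroup.centralizer ({y} : Set G)) = 4 := by
      rw [Subgroup.orderOf_mk, hyord]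
    have h5 := orderOf_dvd_natCard (⟨y, hyC⟩ : Subgroup.centralizer ({y} : Set G))
    rw [h4] at h5
    exact dvd_trans (by norm_num) h5
  have hmin : (Nat.card (Subgroup.centralizer ({y} : Set G))).minFac = 2 :=
    (Nat.minFac_eq_two_iff _).mpr h2C
  have hN := IsCyclic.normalizer_le_centralizer hmin hcyc
  exact ⟨T, (MonoidHom.transferSylow T hN).ker, MonoidHom.normal_ker _,
    MonoidHom.ker_transferSylow_isComplement' T hN⟩

end Cfsg.Agent.Lib.Helper24
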