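import Mathlib
import Cfsg.Agent.Lib.Helper25.PIndex2
import Cfsg.Agent.Lib.Helper25.Knorr
import Cfsg.Agent.Lib.Helper8.DefectLocal
import Cfsg.Agent.Lib.Helper2.ItoConv
import Cfsg.Agent.Lib.Helper24.BlockMat

set_option autoImplicit false

/-!
A stable block of a normal subgroup of `p`-power index contains an invariant character of
height zero.
-/

namespace Cfsg.Agent.Lib.Helper24

open Cfsg Cfsg.Agent.Lib.Helper2 Cfsg.Agent.Lib.Helper8 Cfsg.Agent.Lib.Helper25

section stable

variable {K : Type*} [Group K] [Fintype K]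

/-- for a normal subgroup `L` of `p`-power index and a block `c` of `L` stable under the whole
group: `c` contains a character of height zero fixed by the whole group -/
theorem exists_invariant_height_zero {p : ℕ} [Fact p.Prime] {M : Ideal AlgInt}
    (hM : IsPModular p M) (L : Subgroup K) [hL : L.Normal] [Fintype L]
    (hidx : ∃ k : ℕ, L.index = p ^ k) (c : Set (IrrCharacter L)) (hc : IsPBlock M c)
    (hst : ∀ x : K, StabilizesBlock L c x) :
    ∃ θ ∈ c, blockHeight p c (θ : L → ℂ) = 0 ∧ ∀ x : K, conjIrr L θ x = θ := by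
  classical
  have hp : p.Prime := Fact.out
  obtain ⟨B, hB, hBc⟩ := exists_block_same_idempotent hM L hidx c hc hst
  obtain ⟨D, hD⟩ := exists_defectGroup' hM B hB
  obtain ⟨hnd, hDc⟩ := defect_of_same_idempotent hM L c hc hst B hB hBc D hD
  obtain ⟨k, hk⟩ := hidx
  -- `L ⊔ D = ⊤`
  have hsup : L ⊔ D = ⊤ := by
    rw [← Subgroup.index_eq_one]
    have h1 : (L ⊔ D).index ∣ p ^ k := by
      rw [← hk]
      exact Subgroup.index_dvd_of_le le_sup_left
    obtain ⟨j, -, hj⟩ := (Nat.dvd_prime_pow hp).mp h1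
    rw [hj] at hnd ⊢
    rcases Nat.eq_zero_or_pos j with h0 | h0
    · rw [h0, pow_zero]
    · exact absurd (dvd_pow_self p h0.ne') hnd
  -- orders
  have hcD := card_of_isDefectGroup hM B hB D hD
  have hcDL := card_of_isDefectGroup hM c hc _ hDc
  have hcDL' : Nat.card ↥(L ⊓ D) = p ^ blockDefect p c := by
    rw [← hcDL, inf_comm]
    exact (Nat.card_congr (Subgroup.subgroupOfEquivOfLe (inf_le_right : D ⊓ L ≤ L)).toEquiv).symm
  have hrel : L.index = (L ⊓ D).relIndex D := by
    rw [Subgroup.inf_relIndex_right, ← Subgroup.relIndex_sup_left, hsup,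
      Subgroup.relIndex_top_right]
  have hcard1 : Nat.card K = Nat.card L * p ^ k := by
    rw [← hk]
    exact (Subgroup.card_mul_index L).symm
  have hcard2 : p ^ blockDefect p B = p ^ blockDefect p c * p ^ k := by
    rw [← hcD, ← hcDL', ← hk, hrel]
    have h1 := Subgroup.card_mul_index ((L ⊓ D).subgroupOf D)
    have h2 : Nat.card ↥((L ⊓ D).subgroupOf D) = Nat.card ↥(L ⊓ D) :=
      Nat.card_congr (Subgroup.subgroupOfEquivOfLe (inf_le_right : L ⊓ D ≤ D)).toEquiv
    rw [h2] at h1
    exact h1.symm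
  have hdB : blockDefect p B = blockDefect p c + k := by
    rw [← pow_add] at hcard2
    exact Nat.pow_right_injective hp.two_le hcard2
  have haK : (Nat.card K).factorization p = (Nat.card L).factorization p + k := by
    rw [hcard1, Nat.factorization_mul Nat.card_pos.ne' (pow_ne_zero _ hp.ne_zero),
      Finsupp.add_apply, Nat.Prime.factorization_pow hp]
    simp
  -- height zero in `B`
  have hBne := isPBlock_nonempty hM hB
  obtain ⟨χ₀, hχ₀, -, hminB⟩ := exists_height_zero p B hBne
  set hBv := (charDegree (χ₀ : K → ℂ)).factorization p with hhBv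
  have hSneB : ((fun ψ : IrrCharacter K => (charDegree (ψ : K → ℂ)).factorization p) '' B).Nonempty :=
    hBne.image _
  have hsInfB : sInf ((fun ψ : IrrCharacter K => (charDegree (ψ : K → ℂ)).factorization p) '' B)
      = hBv := by
    apply le_antisymm
    · exact Nat.sInf_le ⟨χ₀, hχ₀, rfl⟩
    · apply le_csInf hSneB
      rintro _ ⟨ξ, hξ, rfl⟩
      exact hminB ξ hξ
  have hBle : hBv ≤ (Nat.card K).factorization p := by
    obtain ⟨hd0, hdd⟩ := Cfsg.Agent.S4424.degree_facts χ₀
    exact (Nat.factorization_le_iff_dvd hd0 Nat.card_pos.ne').mpr hdd p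
  have hdefB : blockDefect p B = (Nat.card K).factorization p - hBv := by
    unfold blockDefect
    rw [hsInfB]
  -- height zero in `c`
  have hcne := isPBlock_nonempty hM hc
  obtain ⟨θ₀, hθ₀, -, hminc⟩ := exists_height_zero p c hcne
  set hcv := (charDegree (θ₀ : L → ℂ)).factorization p with hhcv
  have hSnec : ((fun ψ : IrrCharacter L => (charDegree (ψ : L → ℂ)).factorization p) '' c).Nonempty :=
    hcne.image _
  have hsInfc : sInf ((fun ψ : IrrCharacter L => (charDegree (ψ : L → ℂ)).factorization p) '' c)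
      = hcv := by
    apply le_antisymm
    · exact Nat.sInf_le ⟨θ₀, hθ₀, rfl⟩
    · apply le_csInf hSnec
      rintro _ ⟨ξ, hξ, rfl⟩
      exact hminc ξ hξ
  have hcle : hcv ≤ (Nat.card L).factorization p := by
    obtain ⟨hd0, hdd⟩ := Cfsg.Agent.S4424.degree_facts θ₀
    exact (Nat.factorization_le_iff_dvd hd0 Nat.card_pos.ne').mpr hdd p
  have hdefc : blockDefect p c = (Nat.card L).factorization p - hcv := by
    unfold blockDefect
    rw [hsInfc]
  have hveq : hBv = hcv := by omega
  -- a constituent in `c`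
  obtain ⟨θ, hθ, he⟩ := exists_constituent_mem_of_coeff hM L c hc hst B hBc χ₀ hχ₀
  obtain ⟨dχ, hdχ1, hdχpos, -, hdχcd⟩ := irr_degree χ₀
  obtain ⟨dθ, hdθ1, hdθpos, -, hdθcd⟩ := irr_degree θ
  obtain ⟨e, he'⟩ := clifford_degree L χ₀.2 θ.2 he dχ dθ hdχ1 hdθ1
  have he0 : e ≠ 0 := by
    rintro rfl
    rw [zero_mul] at he'
    omega
  have hi0 : (inertia L (θ : L → ℂ)).index ≠ 0 := Subgroup.index_ne_zero_of_finite
  have hval : hBv = e.factorization p + ((inertia L (θ : L → ℂ)).index.factorization p
      + dθ.factorization p) := by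
    rw [hhBv, hdχcd, he', Nat.factorization_mul he0 (Nat.mul_ne_zero hi0 hdθpos.ne'),
      Nat.factorization_mul hi0 hdθpos.ne']
    rfl
  have hθmin := hminc θ hθ
  rw [hdθcd] at hθmin
  -- the inertia group is everything
  have hLle : L ≤ inertia L (θ : L → ℂ) := by
    intro n hn
    rw [mem_inertia]
    funext m
    rw [Cfsg.Agent.Lib.Helper2.conjFun_apply]
    have h1 := isClassFunction_of_isIrrCharacter θ.2 m ⟨n, hn⟩
    rw [← h1]
    rfl
  have hinert : inertia L (θ : L → ℂ) = ⊤ := by
    rw [← Subgroup.index_eq_one]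
    have h1 : (inertia L (θ : L → ℂ)).index ∣ p ^ k := by
      rw [← hk]
      exact Subgroup.index_dvd_of_le hLle
    obtain ⟨j, -, hj⟩ := (Nat.dvd_prime_pow hp).mp h1
    rw [hj, Nat.Prime.factorization_pow hp] at hval
    simp at hval
    have hj0 : j = 0 := by omega
    rw [hj, hj0, pow_zero]
  refine ⟨θ, hθ, ?_, ?_⟩
  · unfold blockHeight
    rw [hsInfc, hdθcd]
    have hidx1 : (inertia L (θ : L → ℂ)).index = 1 := by
      rw [hinert]
      exact Subgroup.index_top
    rw [hidx1, Nat.factorization_one] at hval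
    simp only [Finsupp.coe_zero, Pi.zero_apply, zero_add] at hval
    omega
  · intro x
    have hx : x ∈ inertia L (θ : L → ℂ) := by
      rw [hinert]
      exact Subgroup.mem_top x
    exact Subtype.ext ((mem_inertia L _ x).mp hx)

end stable

end Cfsg.Agent.Lib.Helper24
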