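import Mathlib
import Cfsg.Agent.Lib.Helper5.Wielandt
import Cfsg.Agent.Lib.Helper24.FrobComplement

set_option autoImplicit false

namespace Cfsg.Agent.Lib.Helper24

open scoped Pointwise

universe u

/-- Transport of relative subnormality along a homomorphism. -/
theorem isSubnormal_subgroupOf_comap {G G' : Type*} [Group G] [Group G'] (φ : G →* G')
    (K₁ : Subgroup G) (K₂ S₂ : Subgroup G') (h : K₁ ≤ K₂.comap φ)
    (hS : (S₂.subgroupOf K₂).IsSubnormal) : ((S₂.comap φ).subgroupOf K₁).IsSubnormal := by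
  have h1 := hS.comap ((φ.comp K₁.subtype).codRestrict K₂ (fun x => h x.2))
  exact h1

theorem isSubnormal_subgroupOf_of_le {G : Type*} [Group G] {S K₁ K₂ : Subgroup G} (h : K₁ ≤ K₂)
    (hS : (S.subgroupOf K₂).IsSubnormal) : (S.subgroupOf K₁).IsSubnormal := by
  have h1 := isSubnormal_subgroupOf_comap (MonoidHom.id G) K₁ K₂ S
    (by rw [Subgroup.comap_id]; exact h) hS
  rwa [Subgroup.comap_id] at h1

theorem comap_conj_inv {G : Type*} [Group G] (x : G) (L : Subgroup G) :
    L.comap (MulAut.conj x⁻¹).toMonoidHom = MulAut.conj x • L := by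
  ext y
  rw [Subgroup.mem_comap, mem_conj_smul]
  simp

theorem isSubnormal_subgroupOf_conj {G : Type*} [Group G] {S K : Subgroup G} (x : G)
    (hS : (S.subgroupOf K).IsSubnormal) :
    ((MulAut.conj x • S).subgroupOf (MulAut.conj x • K)).IsSubnormal := by
  have h1 := isSubnormal_subgroupOf_comap (MulAut.conj x⁻¹).toMonoidHom (MulAut.conj x • K) K S
    (by rw [comap_conj_inv]) hS
  rwa [comap_conj_inv] at h1

theorem isSubnormal_subgroupOf_sup {G : Type u} [Group G] [Finite G] {A B K : Subgroup G}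
    (hA : A ≤ K) (hB : B ≤ K) (h1 : (A.subgroupOf K).IsSubnormal)
    (h2 : (B.subgroupOf K).IsSubnormal) : ((A ⊔ B).subgroupOf K).IsSubnormal := by
  rw [Subgroup.subgroupOf_sup hA hB]
  exact Cfsg.Agent.Lib.Helper5.isSubnormal_sup _ _ h1 h2

theorem mem_normalizer_subgroupOf {G : Type*} [Group G] {S K : Subgroup G} (h : S ≤ K) (k : K) :
    k ∈ Subgroup.normalizer ((S.subgroupOf K : Subgroup K) : Set K) ↔
      (k : G) ∈ Subgroup.normalizer (S : Set G) := by
  rw [← Subgroup.subgroupOf_normalizer_eq h, Subgroup.mem_subgroupOf]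

theorem exists_conj_le_normalizer_aux {Γ : Type*} [Group Γ] (L : Subgroup Γ)
    (hL : L.IsSubnormal) : ∀ H : Subgroup Γ, H ≤ L → L ≤ Subgroup.normalizer (H : Set Γ) →
      (Subgroup.normalizer (H : Set Γ) = ⊤ ∨ ∃ x : Γ, x ∉ Subgroup.normalizer (H : Set Γ) ∧
        ∀ s ∈ H, x * s * x⁻¹ ∈ Subgroup.normalizer (H : Set Γ)) := by
  induction hL with
  | top =>
    intro H _ h
    left
    exact top_le_iff.mp h
  | step L L' hLL' hL' hN ih =>
    intro H hHL hLN
    rw [Subgroup.normal_subgroupOf_iff_le_normalizer hLL'] at hN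
    by_cases h : L' ≤ Subgroup.normalizer (H : Set Γ)
    · exact ih H (hHL.trans hLL') h
    · right
      obtain ⟨x, hxL', hxN⟩ := SetLike.not_le_iff_exists.mp h
      refine ⟨x, hxN, fun s hs => hLN ?_⟩
      exact (Subgroup.mem_normalizer_iff.mp (hN hxL') s).mp (hHL hs)

/-- A subnormal, non-normal subgroup has a conjugate different from itself that normalizes it. -/
theorem exists_conj_le_normalizer {Γ : Type*} [Group Γ] {H : Subgroup Γ} (hH : H.IsSubnormal) :
    Subgroup.normalizer (H : Set Γ) = ⊤ ∨ ∃ x : Γ, x ∉ Subgroup.normalizer (H : Set Γ) ∧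
      ∀ s ∈ H, x * s * x⁻¹ ∈ Subgroup.normalizer (H : Set Γ) := by
  cases hH with
  | top =>
    left
    exact Subgroup.normalizer_eq_top_iff.mpr Subgroup.normal_top
  | step _ L' hLL' hL' hN =>
    rw [Subgroup.normal_subgroupOf_iff_le_normalizer hLL'] at hN
    exact exists_conj_le_normalizer_aux L' hL' H hLL' hN

theorem exists_conj_le_normalizer_rel {G : Type*} [Group G] {S K : Subgroup G} (hSK : S ≤ K)
    (hS : (S.subgroupOf K).IsSubnormal) (hKN : ¬ K ≤ Subgroup.normalizer (S : Set G)) :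
    ∃ x ∈ K, x ∉ Subgroup.normalizer (S : Set G) ∧
      ∀ s ∈ S, x * s * x⁻¹ ∈ Subgroup.normalizer (S : Set G) := by
  rcases exists_conj_le_normalizer hS with h | ⟨x, hx, hxs⟩
  · exfalso
    apply hKN
    intro k hk
    have h1 : (⟨k, hk⟩ : K) ∈ Subgroup.normalizer ((S.subgroupOf K : Subgroup K) : Set K) := by
      rw [h]; trivial
    exact (mem_normalizer_subgroupOf hSK _).mp h1
  · refine ⟨x, x.2, fun h => hx ((mem_normalizer_subgroupOf hSK x).mpr h), fun s hs => ?_⟩
    have h1 := hxs ⟨s, hSK hs⟩ (Subgroup.mem_subgroupOf.mpr hs)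
    exact (mem_normalizer_subgroupOf hSK _).mp h1

theorem mem_normalizer_of_conj_smul_le {G : Type*} [Group G] [Finite G] {S : Subgroup G} {x : G}
    (h : MulAut.conj x • S ≤ S) : x ∈ Subgroup.normalizer (S : Set G) := by
  have hcard : Nat.card S ≤ Nat.card (MulAut.conj x • S : Subgroup G) :=
    le_of_eq (Nat.card_congr (Subgroup.equivSMul (MulAut.conj x) S).toEquiv)
  have heq : MulAut.conj x • S = S := Subgroup.eq_of_le_of_card_ge h hcard
  rw [Subgroup.mem_normalizer_iff]
  intro y
  have h1 := mem_conj_smul S x (x * y * x⁻¹)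
  rw [heq] at h1
  rw [h1]
  have : x⁻¹ * (x * y * x⁻¹) * x = y := by group
  rw [this]

theorem card_lt_card_of_lt' {G : Type*} [Group G] [Finite G] {H K : Subgroup G} (h : H < K) :
    Nat.card H < Nat.card K := by
  by_contra hcon
  exact h.ne (Subgroup.eq_of_le_of_card_ge h.le (not_lt.mp hcon))

theorem conj_smul_mem {G : Type*} [Group G] (S : Subgroup G) (x : G) {s : G} (hs : s ∈ S) :
    x * s * x⁻¹ ∈ MulAut.conj x • S := by
  rw [mem_conj_smul]
  have : x⁻¹ * (x * s * x⁻¹) * x = s := by group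
  rw [this]
  exact hs

theorem conj_smul_ne_top {G : Type*} [Group G] {K : Subgroup G} (x : G) (hK : K ≠ ⊤) :
    MulAut.conj x • K ≠ ⊤ := by
  intro h
  apply hK
  rw [Subgroup.eq_top_iff'] at h ⊢
  intro y
  have h1 := h (x * y * x⁻¹)
  rw [mem_conj_smul] at h1
  have : x⁻¹ * (x * y * x⁻¹) * x = y := by group
  rwa [this] at h1

/-- Wielandt's zipper lemma. -/
theorem zipper_aux {G : Type u} [Group G] [Finite G] : ∀ (n : ℕ) (S : Subgroup G),
    Nat.card G - Nat.card S = n →
    (∀ K : Subgroup G, S ≤ K → K ≠ ⊤ → (S.subgroupOf K).IsSubnormal) → ¬ S.IsSubnormal →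
    ∀ M K : Subgroup G, IsCoatom M → IsCoatom K → S ≤ M → S ≤ K → M = K := by
  intro n
  induction n using Nat.strong_induction_on with
  | _ n ih =>
  intro S hn hS hSn M K hM hK hSM hSK
  have hNtop : Subgroup.normalizer (S : Set G) ≠ ⊤ := by
    intro h
    exact hSn (Subgroup.Normal.isSubnormal (Subgroup.normalizer_eq_top_iff.mp h))
  obtain ⟨M₀, hM₀, hNM₀⟩ := (eq_top_or_exists_le_coatom _).resolve_left hNtop
  have key : ∀ K : Subgroup G, IsCoatom K → S ≤ K → K = M₀ := by
    intro K hK hSK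
    by_cases hKN : K ≤ Subgroup.normalizer (S : Set G)
    · have hKM : K ≤ M₀ := hKN.trans hNM₀
      rcases eq_or_lt_of_le hKM with h | h
      · exact h
      · exact absurd (hK.2 M₀ h) hM₀.1
    · obtain ⟨x, hxK, hxN, hxs⟩ := exists_conj_le_normalizer_rel hSK (hS K hSK hK.1) hKN
      have hTN : S ⊔ MulAut.conj x • S ≤ Subgroup.normalizer (S : Set G) := by
        apply sup_le Subgroup.le_normalizer
        intro y hy
        have h1 := hxs _ ((mem_conj_smul S x y).mp hy)
        have h2 : x * (x⁻¹ * y * x) * x⁻¹ = y := by group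
        rwa [h2] at h1
      have hTK : S ⊔ MulAut.conj x • S ≤ K := by
        apply sup_le hSK
        intro y hy
        have h1 := hSK ((mem_conj_smul S x y).mp hy)
        have h2 : y = x * (x⁻¹ * y * x) * x⁻¹ := by group
        rw [h2]
        exact K.mul_mem (K.mul_mem hxK h1) (K.inv_mem hxK)
      have hST : S < S ⊔ MulAut.conj x • S := by
        apply lt_of_le_of_ne le_sup_left
        intro h
        apply hxN
        apply mem_normalizer_of_conj_smul_le
        have h1 : MulAut.conj x • S ≤ S ⊔ MulAut.conj x • S := le_sup_right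
        rwa [← h] at h1
      have hT : ∀ K' : Subgroup G, S ⊔ MulAut.conj x • S ≤ K' → K' ≠ ⊤ →
          ((S ⊔ MulAut.conj x • S).subgroupOf K').IsSubnormal := by
        intro K' hTK' hK'
        have h1 := hS K' (le_sup_left.trans hTK') hK'
        have hSK'' : S ≤ MulAut.conj x⁻¹ • K' := by
          intro s hs
          rw [mem_conj_smul, inv_inv]
          exact hTK' (Subgroup.mem_sup_right (conj_smul_mem S x hs))
        have h2 := isSubnormal_subgroupOf_conj x (hS _ hSK'' (conj_smul_ne_top x⁻¹ hK'))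
        have e : MulAut.conj x • MulAut.conj x⁻¹ • K' = K' := by
          rw [smul_smul, ← map_mul, mul_inv_cancel, map_one, one_smul]
        rw [e] at h2
        exact isSubnormal_subgroupOf_sup (le_sup_left.trans hTK') (le_sup_right.trans hTK') h1 h2
      have hTn : ¬ (S ⊔ MulAut.conj x • S).IsSubnormal := fun h =>
        hSn (Subgroup.IsSubnormal.step S _ le_sup_left h
          (Subgroup.normal_subgroupOf_of_le_normalizer hTN))
      have hlt : Nat.card G - Nat.card (S ⊔ MulAut.conj x • S : Subgroup G) < n := by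
        have h1 := card_lt_card_of_lt' hST
        have h2 := Subgroup.card_le_card_group (S ⊔ MulAut.conj x • S)
        omega
      exact (ih _ hlt _ rfl hT hTn M₀ K hM₀ hK (hTN.trans hNM₀) hTK).symm
  rw [key M hM hSM, key K hK hSK]

/-- A sharpening of Wielandt's subnormality criterion. -/
theorem subnormal_of_conj_aux : ∀ (n : ℕ) (G : Type u) [Group G] [Finite G], Nat.card G = n →
    ∀ A : Subgroup G,
    (∀ a ∈ A, ∀ g : G, (A.subgroupOf (A ⊔ MulAut.conj (g⁻¹ * a * g) • A)).IsSubnormal) →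
    A.IsSubnormal := by
  intro n
  induction n using Nat.strong_induction_on with
  | _ n ih =>
  intro G _ _ hcard A h
  by_contra hA
  have hS : ∀ K : Subgroup G, A ≤ K → K ≠ ⊤ → (A.subgroupOf K).IsSubnormal := by
    intro K hAK hK
    have hlt : Nat.card K < n := by
      rw [← hcard]
      exact lt_of_le_of_ne (Subgroup.card_le_card_group K)
        (fun h => hK ((Subgroup.card_eq_iff_eq_top K).mp h))
    apply ih _ hlt K rfl
    intro a' ha' g'
    have h1 := h (a' : G) (Subgroup.mem_subgroupOf.mp ha') (g' : G)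
    refine isSubnormal_subgroupOf_comap K.subtype _ _ A ?_ h1
    apply sup_le
    · intro y hy
      exact Subgroup.mem_sup_left (Subgroup.mem_subgroupOf.mp hy)
    · intro y hy
      rw [mem_conj_smul] at hy
      apply Subgroup.mem_sup_right
      rw [mem_conj_smul]
      exact Subgroup.mem_subgroupOf.mp hy
  have hAtop : A ≠ ⊤ := fun h' => hA (h' ▸ Subgroup.IsSubnormal.top)
  obtain ⟨M, hM, hAM⟩ := (eq_top_or_exists_le_coatom A).resolve_left hAtop
  have huniq : ∀ M' : Subgroup G, IsCoatom M' → A ≤ M' → M' = M := fun M' hM' hAM' =>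
    zipper_aux _ A rfl hS hA M' M hM' hM hAM' hAM
  have hconj : ∀ a ∈ A, ∀ g : G, MulAut.conj (g⁻¹ * a * g) • A ≤ M := by
    intro a ha g
    have hJ : A ⊔ MulAut.conj (g⁻¹ * a * g) • A ≠ ⊤ := by
      intro hJ
      have h1 := h a ha g
      rw [hJ] at h1
      exact hA (Subgroup.IsSubnormal.trans le_top h1 Subgroup.IsSubnormal.top)
    obtain ⟨M', hM', hJM'⟩ := (eq_top_or_exists_le_coatom _).resolve_left hJ
    rw [← huniq M' hM' (le_sup_left.trans hJM')]
    exact le_sup_right.trans hJM'
  have hnorm : ∀ a ∈ A, ∀ g : G, g⁻¹ * a * g ∈ Subgroup.normalizer (M : Set G) := by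
    intro a ha g
    have h1 : A ≤ MulAut.conj (g⁻¹ * a * g)⁻¹ • M := by
      intro s hs
      rw [mem_conj_smul, inv_inv]
      exact hconj a ha g (conj_smul_mem A _ hs)
    have h2 : MulAut.conj (g⁻¹ * a * g)⁻¹ • M ≠ ⊤ := conj_smul_ne_top _ hM.1
    obtain ⟨M', hM', hle⟩ := (eq_top_or_exists_le_coatom _).resolve_left h2
    have h3 : MulAut.conj (g⁻¹ * a * g)⁻¹ • M ≤ M :=
      hle.trans (le_of_eq (huniq M' hM' (h1.trans hle)))
    have h4 := mem_normalizer_of_conj_smul_le h3
    have h5 := Subgroup.inv_mem _ h4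
    rwa [inv_inv] at h5
  have hNC : Subgroup.normalClosure (A : Set G) ≤ Subgroup.normalizer (M : Set G) := by
    rw [Subgroup.normalClosure, Subgroup.closure_le]
    intro y hy
    rw [Group.mem_conjugatesOfSet_iff] at hy
    obtain ⟨a, ha, hconj'⟩ := hy
    obtain ⟨c, hc⟩ := isConj_iff.mp hconj'
    have h1 := hnorm a ha c⁻¹
    rw [inv_inv] at h1
    rw [← hc]
    exact h1
  rcases eq_or_lt_of_le (Subgroup.le_normalizer : M ≤ Subgroup.normalizer (M : Set G)) with
    hMN | hMN
  · have hle : Subgroup.normalClosure (A : Set G) ≤ M := by rw [hMN]; exact hNC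
    have hne : Subgroup.normalClosure (A : Set G) ≠ ⊤ := fun h' =>
      hM.1 (top_le_iff.mp (h' ▸ hle))
    have hsn := hS _ Subgroup.le_normalClosure hne
    exact hA (Subgroup.IsSubnormal.trans Subgroup.le_normalClosure hsn
      (Subgroup.Normal.isSubnormal Subgroup.normalClosure_normal))
  · have htop := hM.2 _ hMN
    have hMn : M.Normal := Subgroup.normalizer_eq_top_iff.mp htop
    exact hA (Subgroup.IsSubnormal.trans hAM (hS M hAM hM.1) hMn.isSubnormal)

end Cfsg.Agent.Lib.Helper24
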