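import Mathlib

/-!
Upper bound for the derived length of a `p`-subgroup of `Perm (Fin n)`:
the `Nat.log p n`-th term of the derived series is trivial.
-/

namespace Cfsg.Agent.Lib.Helper24.SylPermUB

universe u

/-- If `commutator G ≤ M` then the `(j+1)`-st derived subgroup of `G` lies in the image of
the `j`-th derived subgroup of `M`. -/
theorem derived_succ_le_map {G : Type*} [Group G] (M : Subgroup G) (hM : commutator G ≤ M)
    (j : ℕ) : derivedSeries G (j + 1) ≤ (derivedSeries ↥M j).map M.subtype := by
  induction j with
  | zero =>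
    rw [derivedSeries_zero, derivedSeries_one, ← MonoidHom.range_eq_map, Subgroup.range_subtype]
    exact hM
  | succ j ih =>
    rw [derivedSeries_succ, derivedSeries_succ (G := ↥M), Subgroup.map_commutator]
    exact Subgroup.commutator_mono ih ih

/-- In a finite `p`-group a proper subgroup lies in a normal subgroup of index `p`
that contains the commutator subgroup. -/
theorem exists_max (p : ℕ) [Fact p.Prime] {T : Type*} [Group T] [Finite T]
    (hT : IsPGroup p T) (S : Subgroup T) (hS : S ≠ ⊤) :
    ∃ M : Subgroup T, S ≤ M ∧ M.index = p ∧ commutator T ≤ M := by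
  have hp : p.Prime := Fact.out
  obtain ⟨m, hm⟩ := IsPGroup.iff_card.mp hT
  obtain ⟨k, hk⟩ := IsPGroup.iff_card.mp (hT.to_subgroup S)
  have hkm : k < m := by
    rcases lt_or_ge k m with h | h
    · exact h
    · exfalso
      apply hS
      apply Subgroup.eq_top_of_card_eq
      rw [hk, hm]
      apply le_antisymm
      · have := Subgroup.card_le_card_group S
        rw [hk, hm] at this
        exact this
      · exact Nat.pow_le_pow_right hp.pos h
  obtain ⟨M, hMc, hSM⟩ := Sylow.exists_subgroup_card_pow_prime_le p
    (show p ^ (m - 1) ∣ Nat.card T by rw [hm]; exact pow_dvd_pow p (Nat.sub_le m 1)) S hk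
    (by omega : k ≤ m - 1)
  have hidx : M.index = p := by
    have h1 := Subgroup.card_mul_index M
    rw [hMc, hm] at h1
    have h2 : p ^ m = p ^ (m - 1) * p := by
      rw [← pow_succ]; congr 1; omega
    rw [h2] at h1
    exact Nat.eq_of_mul_eq_mul_left (pow_pos hp.pos _) h1
  have hnorm : M.Normal := by
    apply Subgroup.normal_of_index_eq_minFac_card
    rw [hidx, hm, Nat.pow_minFac (by omega : m ≠ 0), Nat.Prime.minFac_eq hp]
  refine ⟨M, hSM, hidx, ?_⟩
  have hcard : Nat.card (T ⧸ M) = p := by
    rw [← Subgroup.index_eq_card]; exact hidx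
  haveI : IsCyclic (T ⧸ M) := isCyclic_of_prime_card hcard
  letI : CommGroup (T ⧸ M) := IsCyclic.commGroup
  have := Abelianization.commutator_subset_ker (QuotientGroup.mk' M)
  rwa [QuotientGroup.ker_mk'] at this

/-- Pointwise bound: if the stabilizer of `a` has index at most `p ^ j` in the finite
`p`-group `T`, then the `j`-th derived subgroup of `T` fixes `a`. -/
theorem fix_of_index_le (p : ℕ) [Fact p.Prime] {α : Type*} (j : ℕ) :
    ∀ (T : Type u) [Group T] [Finite T] [MulAction T α] (_ : IsPGroup p T) (a : α),
      (MulAction.stabilizer T a).index ≤ p ^ j → ∀ g ∈ derivedSeries T j, g • a = a := by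
  induction j with
  | zero =>
    intro T _ _ _ _ a hle g _
    have h1 : (MulAction.stabilizer T a).index = 1 := by
      have h0 : (MulAction.stabilizer T a).index ≠ 0 := Subgroup.index_ne_zero_of_finite
      simp only [pow_zero] at hle
      omega
    have htop := Subgroup.index_eq_one.mp h1
    have : g ∈ MulAction.stabilizer T a := by rw [htop]; exact Subgroup.mem_top g
    exact MulAction.mem_stabilizer_iff.mp this
  | succ j ih =>
    intro T _ _ _ hT a hle g hg
    have hp : p.Prime := Fact.out
    by_cases htop : MulAction.stabilizer T a = ⊤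
    · have : g ∈ MulAction.stabilizer T a := by rw [htop]; exact Subgroup.mem_top g
      exact MulAction.mem_stabilizer_iff.mp this
    · obtain ⟨M, hSM, hidx, hcomm⟩ := exists_max p hT (MulAction.stabilizer T a) htop
      have hstab : MulAction.stabilizer ↥M a = (MulAction.stabilizer T a).subgroupOf M := by
        ext x
        simp only [MulAction.mem_stabilizer_iff, Subgroup.mem_subgroupOf]
        rfl
      have hrel : (MulAction.stabilizer ↥M a).index ≤ p ^ j := by
        rw [hstab]
        have h1 := Subgroup.relIndex_mul_index hSM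
        rw [hidx] at h1
        have h2 : (MulAction.stabilizer T a).relIndex M * p ≤ p ^ j * p := by
          rw [h1, ← pow_succ]; exact hle
        exact Nat.le_of_mul_le_mul_right h2 hp.pos
      have hmem := derived_succ_le_map M hcomm j hg
      obtain ⟨x, hx, rfl⟩ := Subgroup.mem_map.mp hmem
      exact ih ↥M (hT.to_subgroup M) a hrel x hx

/-- A `p`-subgroup of `Perm (Fin n)` has trivial `Nat.log p n`-th derived subgroup. -/
theorem derived_eq_bot (p : ℕ) [Fact p.Prime] (n : ℕ) (P : Subgroup (Equiv.Perm (Fin n)))
    (hP : IsPGroup p ↥P) : derivedSeries ↥P (Nat.log p n) = ⊥ := by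
  have hp : p.Prime := Fact.out
  rw [eq_bot_iff]
  intro g hg
  rw [Subgroup.mem_bot]
  apply Subtype.ext
  apply Equiv.ext
  intro a
  have hle : (MulAction.stabilizer ↥P a).index ≤ p ^ (Nat.log p n) := by
    obtain ⟨i, hi⟩ := hP.index (MulAction.stabilizer ↥P a)
    have hn : (MulAction.stabilizer ↥P a).index ≤ n := by
      rw [MulAction.index_stabilizer]
      calc (MulAction.orbit ↥P a).ncard ≤ (Set.univ : Set (Fin n)).ncard :=
            Set.ncard_le_ncard (Set.subset_univ _) (Set.toFinite _)
        _ = n := by rw [Set.ncard_univ, Nat.card_eq_fintype_card, Fintype.card_fin]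
    rw [hi] at hn ⊢
    exact Nat.pow_le_pow_right hp.pos (Nat.le_log_of_pow_le hp.one_lt hn)
  have := fix_of_index_le p (Nat.log p n) ↥P hP a hle g hg
  exact this

end Cfsg.Agent.Lib.Helper24.SylPermUB
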