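import Mathlib
import Cfsg.Agent.Lib.Helper2.GlaubCount
import Cfsg.Agent.Lib.Helper2.DetExt
import Cfsg.Agent.Lib.Helper2.TwoDegA
import Cfsg.Agent.Lib.Helper26.IndStab
import Cfsg.Agent.Lib.Helper25.Defect0

set_option autoImplicit false

/-! Characters of a normal subgroup `K` with a cyclic complement acting with a common
centralizer: invariant characters are counted through the invariant classes, a character that is
not invariant induces irreducibly, and an invariant one induces to a sum of distinct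
extensions. -/

namespace Cfsg.Agent.Lib.Helper24

open Cfsg.Agent.Lib.Helper2
open scoped ComplexConjugate

section typeP

variable {L : Type*} [Group L] [Fintype L]

omit [Fintype L] in
theorem centralizer_zpowers_eq (y : L) :
    Subgroup.centralizer ((Subgroup.zpowers y : Subgroup L) : Set L)
      = Subgroup.centralizer ({y} : Set L) := by
  ext g
  simp only [Subgroup.mem_centralizer_iff, Set.mem_singleton_iff, SetLike.mem_coe]
  constructor
  · intro h m hm
    subst hm
    exact h _ (Subgroup.mem_zpowers _)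
  · intro h m hm
    obtain ⟨n, rfl⟩ := Subgroup.mem_zpowers_iff.mp hm
    have h1 : Commute y g := h y rfl
    exact (h1.zpow_left n).eq

omit [Fintype L] in
/-- all classes of an abelian subgroup centralized by `S` are invariant -/
theorem card_clInv_of_centralized (W S : Subgroup L) (hab : ∀ a ∈ W, ∀ b ∈ W, a * b = b * a)
    (hcen : ∀ s ∈ S, ∀ g ∈ W, s * g = g * s) :
    Nat.card {K' : ConjClasses W // ClInv W S K'} = Nat.card W := by
  have hall : ∀ K' : ConjClasses W, ClInv W S K' := by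
    intro K' s hs g g' hg hgK
    have h1 : g' = g := by
      apply Subtype.ext
      rw [hg, hcen s hs g g.2]
      group
    rw [h1]
    exact hgK
  rw [Nat.card_congr (Equiv.subtypeUnivEquiv hall)]
  have hbij : Function.Bijective (ConjClasses.mk : W → ConjClasses W) := by
    constructor
    · intro a b hab'
      have h1 : IsConj a b := ConjClasses.mk_eq_mk_iff_isConj.mp hab'
      obtain ⟨c, hc⟩ := isConj_iff.mp h1
      rw [← hc]
      apply Subtype.ext
      show (a : L) = c * a * (c : L)⁻¹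
      rw [hab c c.2 a a.2]
      group
    · exact ConjClasses.mk_surjective
  exact (Nat.card_congr (Equiv.ofBijective _ hbij)).symm

/-- the number of characters of `K` invariant under a nontrivial subgroup of the complement -/
theorem card_sinv_eq (K W₁ W₂ S : Subgroup L) [hK : K.Normal]
    (hcopKW : (Nat.card K).Coprime (Nat.card W₁))
    (hW₁c : ∀ a ∈ W₁, ∀ b ∈ W₁, a * b = b * a)
    (hW₂c : ∀ a ∈ W₂, ∀ b ∈ W₂, a * b = b * a) (hW₂K : W₂ ≤ K)
    (hC : ∀ x ∈ W₁, x ≠ 1 → K ⊓ Subgroup.centralizer ({x} : Set L) = W₂)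
    (hS : S ≤ W₁) (hSne : S ≠ ⊥) :
    Nat.card {χ : Cfsg.IrrCharacter K // SInv K S χ} = Nat.card W₂ := by
  classical
  have hnorm : ∀ s ∈ S, ∀ g ∈ K, s * g * s⁻¹ ∈ K := fun s _ g hg => hK.conj_mem g hg s
  have hcardS : Nat.card S ∣ Nat.card W₁ := Subgroup.card_dvd_of_le hS
  have hcop : (Nat.card K).Coprime (Nat.card S) := Nat.Coprime.coprime_dvd_right hcardS hcopKW
  have hsolv : Group.IsSolvable S := by
    apply Group.isSolvable_of_comm
    intro a b
    exact Subtype.ext (hW₁c a (hS a.2) b (hS b.2))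
  have h1 := card_inv_eq_aux _ K S hnorm hsolv rfl
    (Nat.Coprime.coprime_dvd_right (Subgroup.relIndex_dvd_card _ _) hcop)
  rw [h1]
  have hne1 : Nat.card S ≠ 1 := fun h => hSne (Subgroup.eq_bot_of_card_eq S h)
  obtain ⟨p, hp, hpd⟩ := Nat.exists_prime_and_dvd hne1
  haveI : Fact p.Prime := ⟨hp⟩
  obtain ⟨y, hy⟩ := exists_prime_orderOf_dvd_card' p hpd
  have hy1 : (y : L) ≠ 1 := by
    intro h
    have h2 : y = 1 := Subtype.ext h
    rw [h2, orderOf_one] at hy
    exact hp.one_lt.ne hy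
  have hyW : (y : L) ∈ W₁ := hS y.2
  obtain ⟨P, hP⟩ : ∃ P : Subgroup L, P = Subgroup.zpowers (y : L) := ⟨_, rfl⟩
  have hPS : P ≤ S := by
    rw [hP]
    exact Subgroup.zpowers_le.mpr y.2
  have hPcard : Nat.card P = p := by
    rw [hP, Nat.card_zpowers, Subgroup.orderOf_coe, hy]
  have hPn : ∀ t ∈ S, ∀ x ∈ P, t * x * t⁻¹ ∈ P := by
    intro t ht x hx
    have h2 : t * x * t⁻¹ = x := by
      rw [hW₁c t (hS ht) x (hS (hPS hx))]
      group
    rw [h2]
    exact hx
  have hrel : ∃ k : ℕ, (P ⊓ Subgroup.centralizer (K : Set L)).relIndex P = p ^ k := by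
    have hd : (P ⊓ Subgroup.centralizer (K : Set L)).relIndex P ∣ p := by
      have h2 := Subgroup.relIndex_dvd_card (P ⊓ Subgroup.centralizer (K : Set L)) P
      rwa [hPcard] at h2
    rcases (Nat.dvd_prime hp).mp hd with h | h
    · exact ⟨0, by rw [h, pow_zero]⟩
    · exact ⟨1, by rw [h, pow_one]⟩
  obtain ⟨k, hk⟩ := hrel
  have hcopG : ¬ p ∣ Nat.card K := by
    intro hd
    have h3 := Nat.dvd_gcd hd (hpd.trans hcardS)
    rw [Nat.Coprime.gcd_eq_one hcopKW] at h3
    exact hp.one_lt.ne' (Nat.dvd_one.mp h3)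
  have hCeq : W₂ = K ⊓ Subgroup.centralizer (P : Set L) := by
    rw [hP, centralizer_zpowers_eq, hC (y : L) hyW hy1]
  have h2 := card_inv_cl_eq p k K S P W₂ hnorm hPS hPn hk hcopG hCeq hW₂K
  rw [← h2]
  apply card_clInv_of_centralized W₂ S hW₂c
  intro s hs g hg
  by_cases hs1 : s = 1
  · rw [hs1, one_mul, mul_one]
  · have h3 : g ∈ K ⊓ Subgroup.centralizer ({s} : Set L) := by
      rw [hC s (hS hs) hs1]
      exact hg
    exact Subgroup.mem_centralizer_iff.mp h3.2 s rfl

omit [Fintype L] in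
/-- the elements fixing a function on a normal subgroup under conjugation -/
def fixSub (K : Subgroup L) [hK : K.Normal] (θ : K → ℂ) : Subgroup L where
  carrier := {g | Helper2.conjFun K θ g = θ}
  one_mem' := conjFun_one K θ
  mul_mem' := by
    intro a b ha hb
    show Helper2.conjFun K θ (a * b) = θ
    have ha' : Helper2.conjFun K θ a = θ := ha
    have hb' : Helper2.conjFun K θ b = θ := hb
    rw [conjFun_mul, ha', hb']
  inv_mem' := by
    intro a ha
    show Helper2.conjFun K θ a⁻¹ = θ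
    have ha' : Helper2.conjFun K θ a = θ := ha
    have h1 : Helper2.conjFun K θ (a * a⁻¹) = Helper2.conjFun K (Helper2.conjFun K θ a) a⁻¹ :=
      conjFun_mul K θ a a⁻¹
    rw [mul_inv_cancel, conjFun_one, ha'] at h1
    exact h1.symm

omit [Fintype L] in
theorem sinv_of_le_fixSub (K S : Subgroup L) [hK : K.Normal] (θ : K → ℂ)
    (h : S ≤ fixSub K θ) : SInv K S θ := by
  intro s hs g g' hg
  have h1 : Helper2.conjFun K θ s = θ := h hs
  have h2 := congrFun h1 g
  rw [conjFun_apply] at h2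
  rw [← h2]
  congr 1
  exact Subtype.ext hg

omit [Fintype L] in
theorem conjFun_of_sinv (K S : Subgroup L) [hK : K.Normal] (θ : K → ℂ)
    (h : SInv K S θ) (s : L) (hs : s ∈ S) : Helper2.conjFun K θ s = θ := by
  funext n
  rw [conjFun_apply]
  exact h s hs n _ rfl

/-- a character fixed by an element outside `K` is fixed by the whole complement -/
theorem mem_of_fix (K W₁ W₂ : Subgroup L) [hK : K.Normal] (hKW₁' : K ⊔ W₁ = ⊤)
    (hcopKW : (Nat.card K).Coprime (Nat.card W₁))
    (hW₁c : ∀ a ∈ W₁, ∀ b ∈ W₁, a * b = b * a)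
    (hW₂c : ∀ a ∈ W₂, ∀ b ∈ W₂, a * b = b * a) (hW₂K : W₂ ≤ K)
    (hC : ∀ x ∈ W₁, x ≠ 1 → K ⊓ Subgroup.centralizer ({x} : Set L) = W₂)
    (θ : K → ℂ) (hθ : Cfsg.IsIrrCharacter K θ) (hnot : ¬ SInv K W₁ θ) (g : L)
    (hg : Helper2.conjFun K θ g = θ) : g ∈ K := by
  classical
  have hcf := isClassFunction_of_isIrrCharacter hθ
  have hgs : g ∈ (↑(K ⊔ W₁) : Set L) := by
    rw [hKW₁']
    exact Set.mem_univ g
  rw [Subgroup.normal_mul] at hgs
  obtain ⟨k, hk, w, hw, rfl⟩ := Set.mem_mul.mp hgs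
  rw [conjFun_mul, conjFun_of_mem K hcf hk] at hg
  by_cases hw1 : w = 1
  · rw [hw1, mul_one]
    exact hk
  · exfalso
    apply hnot
    have hS : Subgroup.zpowers w ≤ W₁ := Subgroup.zpowers_le.mpr hw
    have hSne : Subgroup.zpowers w ≠ ⊥ := fun h => hw1 (Subgroup.zpowers_eq_bot.mp h)
    have hW₁ne : W₁ ≠ ⊥ := by
      intro h
      rw [h] at hw
      exact hw1 (Subgroup.mem_bot.mp hw)
    have hA := card_sinv_eq K W₁ W₂ W₁ hcopKW hW₁c hW₂c hW₂K hC le_rfl hW₁ne
    have hB := card_sinv_eq K W₁ W₂ (Subgroup.zpowers w) hcopKW hW₁c hW₂c hW₂K hC hS hSne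
    have hsub : {χ : Cfsg.IrrCharacter K | SInv K W₁ χ}
        ⊆ {χ : Cfsg.IrrCharacter K | SInv K (Subgroup.zpowers w) χ} :=
      fun χ hχ s hs => hχ s (hS hs)
    have hcard : ({χ : Cfsg.IrrCharacter K | SInv K (Subgroup.zpowers w) χ}).ncard
        ≤ ({χ : Cfsg.IrrCharacter K | SInv K W₁ χ}).ncard := by
      rw [← Nat.card_coe_set_eq, ← Nat.card_coe_set_eq]
      exact le_of_eq (hB.trans hA.symm)
    have heq := Set.eq_of_subset_of_ncard_le hsub hcard (Set.toFinite _)
    have hθB : (⟨θ, hθ⟩ : Cfsg.IrrCharacter K)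
        ∈ {χ : Cfsg.IrrCharacter K | SInv K (Subgroup.zpowers w) χ} :=
      sinv_of_le_fixSub K _ θ (Subgroup.zpowers_le.mpr hg)
    rw [← heq] at hθB
    exact hθB

theorem card_dual_of_comm {A : Type*} [Group A] [Finite A] (hab : ∀ a b : A, a * b = b * a) :
    Nat.card (A →* ℂˣ) = Nat.card A := by
  let inst : CommGroup A := { ‹Group A› with mul_comm := hab }
  exact @CommGroup.card_monoidHom_of_hasEnoughRootsOfUnity A ℂ inst _ _ _

/-- orthogonality for the dual of a finite abelian group -/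
theorem sum_dual_apply {A : Type*} [Group A] [Finite A] [DecidableEq A]
    (hab : ∀ a b : A, a * b = b * a) [Fintype (A →* ℂˣ)] (q : A) :
    ∑ lam : A →* ℂˣ, (lam q : ℂ) = if q = 1 then (Nat.card A : ℂ) else 0 := by
  split_ifs with hq
  · subst hq
    simp only [map_one, Units.val_one, Finset.sum_const, Finset.card_univ, nsmul_eq_mul, mul_one]
    rw [← card_dual_of_comm hab, Nat.card_eq_fintype_card]
  · obtain ⟨φ, hφ⟩ := exists_hom_ne_one_of_comm hab hq
    have h1 : ∑ lam : A →* ℂˣ, (lam q : ℂ) = (φ q : ℂ) * ∑ lam : A →* ℂˣ, (lam q : ℂ) := by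
      rw [Finset.mul_sum]
      exact (Fintype.sum_equiv (Equiv.mulLeft φ) (fun lam => (φ q : ℂ) * (lam q : ℂ))
        (fun lam => (lam q : ℂ)) (fun lam => by simp [MonoidHom.mul_apply])).symm
    have h2 : (1 - (φ q : ℂ)) * ∑ lam : A →* ℂˣ, (lam q : ℂ) = 0 := by
      rw [sub_mul, one_mul, ← h1, sub_self]
    rcases mul_eq_zero.mp h2 with h | h
    · exfalso
      apply hφ
      apply Units.ext
      rw [Units.val_one]
      exact (sub_eq_zero.mp h).symm
    · exact h

/-- induction of an invariant function from a normal subgroup -/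
theorem indFun_of_invariant (K : Subgroup L) [hK : K.Normal] (θ : K → ℂ)
    (hinv : ∀ (g : L) (n : K), θ ⟨g * n * g⁻¹, hK.conj_mem (n : L) n.2 g⟩ = θ n) (g : L) :
    Cfsg.indFun K θ g = (K.index : ℂ) * Cfsg.extendByZero K θ g := by
  rw [indFun_apply]
  have h1 : ∀ x : L, Cfsg.extendByZero K θ (x⁻¹ * g * x) = Cfsg.extendByZero K θ g := by
    intro x
    by_cases hg : g ∈ K
    · have hmem : x⁻¹ * g * x ∈ K := by
        have := hK.conj_mem g hg x⁻¹
        simpa using this
      rw [extendByZero_of_mem K θ hmem, extendByZero_of_mem K θ hg]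
      have h2 := hinv x⁻¹ ⟨g, hg⟩
      rw [← h2]
      congr 1
      apply Subtype.ext
      simp
    · have hmem : x⁻¹ * g * x ∉ K := by
        intro h
        apply hg
        have h2 := hK.conj_mem _ h x
        have e : x * (x⁻¹ * g * x) * x⁻¹ = g := by group
        rwa [e] at h2
      rw [extendByZero_of_not_mem K θ hmem, extendByZero_of_not_mem K θ hg]
  rw [Finset.sum_congr rfl (fun x _ => h1 x), Finset.sum_const, Finset.card_univ, nsmul_eq_mul,
    ← mul_assoc]
  congr 1
  have hK0 : (Nat.card K : ℂ) ≠ 0 := card_ne_zero_complex K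
  have h2 : (Fintype.card L : ℂ) = (Nat.card K : ℂ) * (K.index : ℂ) := by
    rw [← Nat.card_eq_fintype_card, ← Nat.cast_mul, Subgroup.card_mul_index]
  rw [h2, ← mul_assoc, inv_mul_cancel₀ hK0, one_mul]

/-- Gallagher: an invariant character with an extension induces to the sum of the `[L:K]`
distinct twists of the extension, when `L/K` is abelian -/
theorem gallagher_sum (K : Subgroup L) [hK : K.Normal]
    (hab : ∀ a b : L ⧸ K, a * b = b * a)
    (θ : K → ℂ) (hθ : Cfsg.IsIrrCharacter K θ) (χ : L → ℂ) (hχ : Cfsg.IsIrrCharacter L χ)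
    (hext : ∀ n : K, χ n = θ n)
    (hinv : ∀ (g : L) (n : K), θ ⟨g * n * g⁻¹, hK.conj_mem (n : L) n.2 g⟩ = θ n) :
    ∃ C : Finset (L → ℂ), C.card = K.index ∧ (∀ μ ∈ C, Cfsg.IsIrrCharacter L μ) ∧
      Cfsg.indFun K θ = ∑ μ ∈ C, μ := by
  classical
  haveI : Fintype ((L ⧸ K) →* ℂˣ) := Fintype.ofFinite _
  haveI : Fintype K := Fintype.ofFinite K
  let F : ((L ⧸ K) →* ℂˣ) → (L → ℂ) :=
    fun lam => (fun g => ((lam.comp (QuotientGroup.mk' K)) g : ℂ)) * χ
  have hFirr : ∀ lam, Cfsg.IsIrrCharacter L (F lam) := fun lam =>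
    Cfsg.Agent.Lib.Helper26.isIrrCharacter_hom_mul (lam.comp (QuotientGroup.mk' K)) hχ
  have hFapp : ∀ (lam : (L ⧸ K) →* ℂˣ) (g : L), F lam g = (lam (g : L ⧸ K) : ℂ) * χ g :=
    fun lam g => rfl
  have hsum : Cfsg.indFun K θ = ∑ lam : (L ⧸ K) →* ℂˣ, F lam := by
    funext g
    rw [indFun_of_invariant K θ hinv g, Finset.sum_apply]
    simp only [hFapp]
    rw [← Finset.sum_mul, sum_dual_apply hab]
    by_cases hg : g ∈ K
    · rw [if_pos ((QuotientGroup.eq_one_iff g).mpr hg), extendByZero_of_mem K θ hg,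
        ← hext ⟨g, hg⟩]
      rfl
    · rw [if_neg (fun h => hg ((QuotientGroup.eq_one_iff g).mp h)),
        extendByZero_of_not_mem K θ hg, mul_zero, zero_mul]
  have hinner : Cfsg.classInner (Cfsg.indFun K θ) χ = 1 := by
    rw [frobenius_reciprocity K θ χ (isClassFunction_of_isIrrCharacter hχ)]
    have h1 : (fun h : K => χ h) = θ := funext hext
    rw [h1, classInner_irr_self hθ]
  have hF1 : F 1 = χ := by
    funext g
    rw [hFapp]
    simp
  have huniq : ∀ lam, F lam = χ → lam = 1 := by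
    intro lam hlam
    by_contra hne
    have h1 : Cfsg.classInner (∑ lam : (L ⧸ K) →* ℂˣ, F lam) χ
        = ∑ lam : (L ⧸ K) →* ℂˣ, Cfsg.classInner (F lam) χ := classInner_sum_left _ _ _
    rw [← hsum, hinner] at h1
    have h2 : ∀ lam', Cfsg.classInner (F lam') χ = if F lam' = χ then 1 else 0 :=
      fun lam' => classInner_irr (hFirr lam') hχ
    simp only [h2] at h1
    rw [Finset.sum_ite, Finset.sum_const_zero, add_zero, Finset.sum_const, nsmul_eq_mul,
      mul_one] at h1
    have h3 : 2 ≤ (Finset.univ.filter (fun lam' : (L ⧸ K) →* ℂˣ => F lam' = χ)).card := by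
      have hsub : ({lam, 1} : Finset ((L ⧸ K) →* ℂˣ))
          ⊆ Finset.univ.filter (fun lam' => F lam' = χ) := by
        intro x hx
        rw [Finset.mem_insert, Finset.mem_singleton] at hx
        rw [Finset.mem_filter]
        rcases hx with rfl | rfl
        · exact ⟨Finset.mem_univ _, hlam⟩
        · exact ⟨Finset.mem_univ _, hF1⟩
      have h4 := Finset.card_le_card hsub
      rwa [Finset.card_pair hne] at h4
    have h5 : (Finset.univ.filter (fun lam' : (L ⧸ K) →* ℂˣ => F lam' = χ)).card = 1 := by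
      exact_mod_cast h1.symm
    omega
  have hinj : Function.Injective F := by
    intro a b hab'
    have h1 : F (a⁻¹ * b) = χ := by
      funext g
      have h2 := congrFun hab' g
      rw [hFapp, hFapp] at h2
      rw [hFapp, MonoidHom.mul_apply, MonoidHom.inv_apply, Units.val_mul, mul_assoc, ← h2,
        ← mul_assoc, ← Units.val_mul, inv_mul_cancel, Units.val_one, one_mul]
    exact inv_mul_eq_one.mp (huniq _ h1)
  refine ⟨Finset.univ.image F, ?_, ?_, ?_⟩
  · rw [Finset.card_image_of_injective _ hinj, Finset.card_univ, ← Nat.card_eq_fintype_card,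
      card_dual_of_comm hab]
    rfl
  · intro μ hμ
    obtain ⟨lam, -, rfl⟩ := Finset.mem_image.mp hμ
    exact hFirr lam
  · rw [hsum, Finset.sum_image (fun a _ b _ h => hinj h)]

end typeP

end Cfsg.Agent.Lib.Helper24
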